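import Mathlib

set_option autoImplicit false

/-! A group of order 120 with a subgroup of index 5 whose core has order 2 acts on the cosets as the
alternating group of degree 5. -/

namespace Cfsg.Agent.J2.CosetA5

open Equiv

/-- A group of order 120 with a subgroup of index 5 whose normal core has order 2 has a
surjection onto `A₅` with kernel that core. -/
theorem exists_surjective_alternating {U : Type*} [Group U] [Finite U] (T : Subgroup U)
    (hU : Nat.card U = 120) (hT : T.index = 5) (hcore : Nat.card T.normalCore = 2) :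
    ∃ π : U →* alternatingGroup (Fin 5), Function.Surjective π ∧ π.ker = T.normalCore := by
  classical
  have hcard : Nat.card (U ⧸ T) = 5 := hT
  obtain ⟨e⟩ : Nonempty ((U ⧸ T) ≃ Fin 5) := by
    have : Finite (U ⧸ T) := inferInstance
    have h := Finite.equivFin (U ⧸ T)
    rw [hcard] at h
    exact ⟨h⟩
  let τ : U →* Perm (Fin 5) := (e.permCongrHom).toMonoidHom.comp (MulAction.toPermHom U (U ⧸ T))
  have hker : τ.ker = T.normalCore := by
    rw [Subgroup.normalCore_eq_ker]
    ext u
    rw [MonoidHom.mem_ker, MonoidHom.mem_ker]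
    change (e.permCongrHom) (MulAction.toPermHom U (U ⧸ T) u) = 1 ↔ _
    rw [EmbeddingLike.map_eq_one_iff]
  have hrange : Nat.card τ.range * 2 = 120 := by
    have h1 := Subgroup.card_mul_index τ.ker
    rw [Subgroup.index_ker, hker, hcore, hU, mul_comm] at h1
    exact h1
  have hindex : τ.range.index = 2 := by
    have h1 := Subgroup.card_mul_index τ.range
    rw [Nat.card_perm, Nat.card_fin] at h1
    have h2 : Nat.factorial 5 = 120 := by decide
    rw [h2] at h1
    have h3 : Nat.card τ.range = 60 := by omega
    rw [h3] at h1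
    omega
  have hA : τ.range = alternatingGroup (Fin 5) := Perm.eq_alternatingGroup_of_index_eq_two hindex
  have hmem : ∀ u, τ u ∈ alternatingGroup (Fin 5) := by
    intro u
    rw [← hA]
    exact ⟨u, rfl⟩
  refine ⟨τ.codRestrict (alternatingGroup (Fin 5)) hmem, ?_, ?_⟩
  · rintro ⟨a, ha⟩
    rw [← hA] at ha
    obtain ⟨u, rfl⟩ := ha
    exact ⟨u, rfl⟩
  · rw [← hker]
    ext u
    rw [MonoidHom.mem_ker, MonoidHom.mem_ker, ← Subtype.coe_inj]
    rfl

end Cfsg.Agent.J2.CosetA5
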