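import Cfsg.Agent.J2.Norm
import Cfsg.Agent.J2.CosetA5

/-!
# The 120 icosians of norm 1
-/

set_option autoImplicit false

open Quaternion

namespace Cfsg.Agent.J2.Units

open Cfsg.Spor Cfsg.Agent.J2.ZTau Cfsg.Agent.J2.Ico Cfsg.Agent.J2.Norm

/-- The 120 icosians of norm 1; the first 8 are `±1, ±i, ±j, ±k`, the first 24 are the Hurwitz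
units. -/
def units : List Icos :=
  [⟨⟨-1, 0⟩, ⟨0, 0⟩, ⟨0, 0⟩, ⟨0, 0⟩⟩,
   ⟨⟨0, 0⟩, ⟨-1, 0⟩, ⟨0, 0⟩, ⟨0, 0⟩⟩,
   ⟨⟨-2, 1⟩, ⟨1, -1⟩, ⟨0, 0⟩, ⟨-2, 2⟩⟩,
   ⟨⟨-1, 1⟩, ⟨-2, 1⟩, ⟨2, -2⟩, ⟨0, 0⟩⟩,
   ⟨⟨1, -1⟩, ⟨2, -1⟩, ⟨-2, 2⟩, ⟨0, 0⟩⟩,
   ⟨⟨2, -1⟩, ⟨-1, 1⟩, ⟨0, 0⟩, ⟨2, -2⟩⟩,
   ⟨⟨0, 0⟩, ⟨1, 0⟩, ⟨0, 0⟩, ⟨0, 0⟩⟩,
   ⟨⟨1, 0⟩, ⟨0, 0⟩, ⟨0, 0⟩, ⟨0, 0⟩⟩,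
   ⟨⟨-2, 1⟩, ⟨-1, 0⟩, ⟨1, -1⟩, ⟨-1, 1⟩⟩,
   ⟨⟨-1, 0⟩, ⟨1, -1⟩, ⟨-1, 1⟩, ⟨-1, 1⟩⟩,
   ⟨⟨0, 0⟩, ⟨-2, 1⟩, ⟨1, -1⟩, ⟨1, -1⟩⟩,
   ⟨⟨1, -1⟩, ⟨0, 0⟩, ⟨-1, 1⟩, ⟨1, -1⟩⟩,
   ⟨⟨-2, 1⟩, ⟨0, 0⟩, ⟨1, -1⟩, ⟨-1, 1⟩⟩,
   ⟨⟨-1, 0⟩, ⟨2, -1⟩, ⟨-1, 1⟩, ⟨-1, 1⟩⟩,
   ⟨⟨0, 0⟩, ⟨-1, 1⟩, ⟨1, -1⟩, ⟨1, -1⟩⟩,
   ⟨⟨1, -1⟩, ⟨1, 0⟩, ⟨-1, 1⟩, ⟨1, -1⟩⟩,
   ⟨⟨-1, 1⟩, ⟨-1, 0⟩, ⟨1, -1⟩, ⟨-1, 1⟩⟩,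
   ⟨⟨0, 0⟩, ⟨1, -1⟩, ⟨-1, 1⟩, ⟨-1, 1⟩⟩,
   ⟨⟨1, 0⟩, ⟨-2, 1⟩, ⟨1, -1⟩, ⟨1, -1⟩⟩,
   ⟨⟨2, -1⟩, ⟨0, 0⟩, ⟨-1, 1⟩, ⟨1, -1⟩⟩,
   ⟨⟨-1, 1⟩, ⟨0, 0⟩, ⟨1, -1⟩, ⟨-1, 1⟩⟩,
   ⟨⟨0, 0⟩, ⟨2, -1⟩, ⟨-1, 1⟩, ⟨-1, 1⟩⟩,
   ⟨⟨1, 0⟩, ⟨-1, 1⟩, ⟨1, -1⟩, ⟨1, -1⟩⟩,
   ⟨⟨2, -1⟩, ⟨1, 0⟩, ⟨-1, 1⟩, ⟨1, -1⟩⟩,
   ⟨⟨0, 0⟩, ⟨0, 0⟩, ⟨-1, 0⟩, ⟨0, 0⟩⟩,
   ⟨⟨-1, 0⟩, ⟨-1, 1⟩, ⟨1, 0⟩, ⟨0, 0⟩⟩,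
   ⟨⟨-2, 1⟩, ⟨1, -1⟩, ⟨0, 0⟩, ⟨-2, 1⟩⟩,
   ⟨⟨1, -1⟩, ⟨-1, 0⟩, ⟨0, 0⟩, ⟨2, -1⟩⟩,
   ⟨⟨-1, 0⟩, ⟨-2, 1⟩, ⟨2, -1⟩, ⟨1, 0⟩⟩,
   ⟨⟨1, -1⟩, ⟨1, -1⟩, ⟨-2, 1⟩, ⟨1, 0⟩⟩,
   ⟨⟨-2, 1⟩, ⟨-1, 1⟩, ⟨2, -1⟩, ⟨-1, 0⟩⟩,
   ⟨⟨0, 0⟩, ⟨2, -1⟩, ⟨-2, 1⟩, ⟨-1, 0⟩⟩,
   ⟨⟨-2, 1⟩, ⟨1, 0⟩, ⟨0, 0⟩, ⟨-2, 1⟩⟩,
   ⟨⟨1, -1⟩, ⟨-1, 1⟩, ⟨0, 0⟩, ⟨2, -1⟩⟩,
   ⟨⟨0, 0⟩, ⟨1, -1⟩, ⟨-1, 0⟩, ⟨0, 0⟩⟩,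
   ⟨⟨-1, 0⟩, ⟨0, 0⟩, ⟨1, 0⟩, ⟨0, 0⟩⟩,
   ⟨⟨0, 0⟩, ⟨-1, 0⟩, ⟨0, 0⟩, ⟨1, 0⟩⟩,
   ⟨⟨-1, 1⟩, ⟨0, 0⟩, ⟨0, 0⟩, ⟨-1, 0⟩⟩,
   ⟨⟨-1, 1⟩, ⟨-1, 0⟩, ⟨1, -1⟩, ⟨0, 0⟩⟩,
   ⟨⟨0, 0⟩, ⟨1, -1⟩, ⟨-1, 1⟩, ⟨0, 0⟩⟩,
   ⟨⟨-1, 1⟩, ⟨1, -1⟩, ⟨-1, 0⟩, ⟨-1, 1⟩⟩,
   ⟨⟨-2, 1⟩, ⟨0, 0⟩, ⟨1, 0⟩, ⟨-1, 1⟩⟩,
   ⟨⟨1, 0⟩, ⟨0, 0⟩, ⟨-1, 0⟩, ⟨1, -1⟩⟩,
   ⟨⟨0, 0⟩, ⟨-1, 1⟩, ⟨1, 0⟩, ⟨1, -1⟩⟩,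
   ⟨⟨-1, 1⟩, ⟨-1, 1⟩, ⟨1, -1⟩, ⟨0, 0⟩⟩,
   ⟨⟨0, 0⟩, ⟨1, 0⟩, ⟨-1, 1⟩, ⟨0, 0⟩⟩,
   ⟨⟨0, 0⟩, ⟨0, 0⟩, ⟨0, 0⟩, ⟨1, 0⟩⟩,
   ⟨⟨-1, 1⟩, ⟨1, 0⟩, ⟨0, 0⟩, ⟨-1, 0⟩⟩,
   ⟨⟨-1, 0⟩, ⟨-2, 1⟩, ⟨2, -1⟩, ⟨0, 0⟩⟩,
   ⟨⟨1, -1⟩, ⟨1, -1⟩, ⟨-2, 1⟩, ⟨0, 0⟩⟩,
   ⟨⟨-1, 0⟩, ⟨0, 0⟩, ⟨0, 0⟩, ⟨-1, 1⟩⟩,
   ⟨⟨1, -1⟩, ⟨-1, 1⟩, ⟨0, 0⟩, ⟨1, -1⟩⟩,
   ⟨⟨-2, 1⟩, ⟨0, 0⟩, ⟨1, -1⟩, ⟨-2, 1⟩⟩,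
   ⟨⟨-1, 0⟩, ⟨2, -1⟩, ⟨-1, 1⟩, ⟨-2, 1⟩⟩,
   ⟨⟨1, -1⟩, ⟨-2, 1⟩, ⟨1, -1⟩, ⟨2, -1⟩⟩,
   ⟨⟨2, -2⟩, ⟨0, 0⟩, ⟨-1, 1⟩, ⟨2, -1⟩⟩,
   ⟨⟨-1, 0⟩, ⟨1, -1⟩, ⟨0, 0⟩, ⟨-1, 1⟩⟩,
   ⟨⟨1, -1⟩, ⟨0, 0⟩, ⟨0, 0⟩, ⟨1, -1⟩⟩,
   ⟨⟨-1, 0⟩, ⟨-1, 1⟩, ⟨2, -1⟩, ⟨0, 0⟩⟩,
   ⟨⟨1, -1⟩, ⟨2, -1⟩, ⟨-2, 1⟩, ⟨0, 0⟩⟩,
   ⟨⟨-1, 1⟩, ⟨1, -1⟩, ⟨-1, 0⟩, ⟨-2, 1⟩⟩,
   ⟨⟨-2, 1⟩, ⟨0, 0⟩, ⟨1, 0⟩, ⟨-2, 1⟩⟩,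
   ⟨⟨2, -1⟩, ⟨-1, 0⟩, ⟨-1, 0⟩, ⟨2, -1⟩⟩,
   ⟨⟨1, -1⟩, ⟨-2, 1⟩, ⟨1, 0⟩, ⟨2, -1⟩⟩,
   ⟨⟨0, 0⟩, ⟨-2, 1⟩, ⟨1, -1⟩, ⟨1, 0⟩⟩,
   ⟨⟨1, -1⟩, ⟨0, 0⟩, ⟨-1, 1⟩, ⟨1, 0⟩⟩,
   ⟨⟨-1, 1⟩, ⟨-1, 1⟩, ⟨1, -1⟩, ⟨-1, 0⟩⟩,
   ⟨⟨0, 0⟩, ⟨1, 0⟩, ⟨-1, 1⟩, ⟨-1, 0⟩⟩,
   ⟨⟨-2, 1⟩, ⟨-1, 0⟩, ⟨2, -1⟩, ⟨-1, 1⟩⟩,
   ⟨⟨0, 0⟩, ⟨2, -2⟩, ⟨-2, 1⟩, ⟨-1, 1⟩⟩,
   ⟨⟨0, 0⟩, ⟨-2, 1⟩, ⟨2, -1⟩, ⟨1, -1⟩⟩,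
   ⟨⟨2, -1⟩, ⟨1, -1⟩, ⟨-2, 1⟩, ⟨1, -1⟩⟩,
   ⟨⟨-2, 1⟩, ⟨-1, 1⟩, ⟨2, -1⟩, ⟨-1, 1⟩⟩,
   ⟨⟨0, 0⟩, ⟨2, -1⟩, ⟨-2, 1⟩, ⟨-1, 1⟩⟩,
   ⟨⟨0, 0⟩, ⟨-2, 2⟩, ⟨2, -1⟩, ⟨1, -1⟩⟩,
   ⟨⟨2, -1⟩, ⟨1, 0⟩, ⟨-2, 1⟩, ⟨1, -1⟩⟩,
   ⟨⟨0, 0⟩, ⟨-1, 0⟩, ⟨1, -1⟩, ⟨1, 0⟩⟩,
   ⟨⟨1, -1⟩, ⟨1, -1⟩, ⟨-1, 1⟩, ⟨1, 0⟩⟩,
   ⟨⟨-1, 1⟩, ⟨0, 0⟩, ⟨1, -1⟩, ⟨-1, 0⟩⟩,
   ⟨⟨0, 0⟩, ⟨2, -1⟩, ⟨-1, 1⟩, ⟨-1, 0⟩⟩,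
   ⟨⟨-1, 1⟩, ⟨2, -1⟩, ⟨-1, 0⟩, ⟨-2, 1⟩⟩,
   ⟨⟨-2, 1⟩, ⟨1, 0⟩, ⟨1, 0⟩, ⟨-2, 1⟩⟩,
   ⟨⟨2, -1⟩, ⟨0, 0⟩, ⟨-1, 0⟩, ⟨2, -1⟩⟩,
   ⟨⟨1, -1⟩, ⟨-1, 1⟩, ⟨1, 0⟩, ⟨2, -1⟩⟩,
   ⟨⟨-1, 1⟩, ⟨-2, 1⟩, ⟨2, -1⟩, ⟨0, 0⟩⟩,
   ⟨⟨1, 0⟩, ⟨1, -1⟩, ⟨-2, 1⟩, ⟨0, 0⟩⟩,
   ⟨⟨-1, 1⟩, ⟨0, 0⟩, ⟨0, 0⟩, ⟨-1, 1⟩⟩,
   ⟨⟨1, 0⟩, ⟨-1, 1⟩, ⟨0, 0⟩, ⟨1, -1⟩⟩,
   ⟨⟨-2, 2⟩, ⟨0, 0⟩, ⟨1, -1⟩, ⟨-2, 1⟩⟩,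
   ⟨⟨-1, 1⟩, ⟨2, -1⟩, ⟨-1, 1⟩, ⟨-2, 1⟩⟩,
   ⟨⟨1, 0⟩, ⟨-2, 1⟩, ⟨1, -1⟩, ⟨2, -1⟩⟩,
   ⟨⟨2, -1⟩, ⟨0, 0⟩, ⟨-1, 1⟩, ⟨2, -1⟩⟩,
   ⟨⟨-1, 1⟩, ⟨1, -1⟩, ⟨0, 0⟩, ⟨-1, 1⟩⟩,
   ⟨⟨1, 0⟩, ⟨0, 0⟩, ⟨0, 0⟩, ⟨1, -1⟩⟩,
   ⟨⟨-1, 1⟩, ⟨-1, 1⟩, ⟨2, -1⟩, ⟨0, 0⟩⟩,
   ⟨⟨1, 0⟩, ⟨2, -1⟩, ⟨-2, 1⟩, ⟨0, 0⟩⟩,
   ⟨⟨1, -1⟩, ⟨-1, 0⟩, ⟨0, 0⟩, ⟨1, 0⟩⟩,
   ⟨⟨0, 0⟩, ⟨0, 0⟩, ⟨0, 0⟩, ⟨-1, 0⟩⟩,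
   ⟨⟨0, 0⟩, ⟨-1, 0⟩, ⟨1, -1⟩, ⟨0, 0⟩⟩,
   ⟨⟨1, -1⟩, ⟨1, -1⟩, ⟨-1, 1⟩, ⟨0, 0⟩⟩,
   ⟨⟨0, 0⟩, ⟨1, -1⟩, ⟨-1, 0⟩, ⟨-1, 1⟩⟩,
   ⟨⟨-1, 0⟩, ⟨0, 0⟩, ⟨1, 0⟩, ⟨-1, 1⟩⟩,
   ⟨⟨2, -1⟩, ⟨0, 0⟩, ⟨-1, 0⟩, ⟨1, -1⟩⟩,
   ⟨⟨1, -1⟩, ⟨-1, 1⟩, ⟨1, 0⟩, ⟨1, -1⟩⟩,
   ⟨⟨0, 0⟩, ⟨-1, 1⟩, ⟨1, -1⟩, ⟨0, 0⟩⟩,
   ⟨⟨1, -1⟩, ⟨1, 0⟩, ⟨-1, 1⟩, ⟨0, 0⟩⟩,
   ⟨⟨1, -1⟩, ⟨0, 0⟩, ⟨0, 0⟩, ⟨1, 0⟩⟩,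
   ⟨⟨0, 0⟩, ⟨1, 0⟩, ⟨0, 0⟩, ⟨-1, 0⟩⟩,
   ⟨⟨1, 0⟩, ⟨0, 0⟩, ⟨-1, 0⟩, ⟨0, 0⟩⟩,
   ⟨⟨0, 0⟩, ⟨-1, 1⟩, ⟨1, 0⟩, ⟨0, 0⟩⟩,
   ⟨⟨-1, 1⟩, ⟨1, -1⟩, ⟨0, 0⟩, ⟨-2, 1⟩⟩,
   ⟨⟨2, -1⟩, ⟨-1, 0⟩, ⟨0, 0⟩, ⟨2, -1⟩⟩,
   ⟨⟨0, 0⟩, ⟨-2, 1⟩, ⟨2, -1⟩, ⟨1, 0⟩⟩,
   ⟨⟨2, -1⟩, ⟨1, -1⟩, ⟨-2, 1⟩, ⟨1, 0⟩⟩,
   ⟨⟨-1, 1⟩, ⟨-1, 1⟩, ⟨2, -1⟩, ⟨-1, 0⟩⟩,
   ⟨⟨1, 0⟩, ⟨2, -1⟩, ⟨-2, 1⟩, ⟨-1, 0⟩⟩,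
   ⟨⟨-1, 1⟩, ⟨1, 0⟩, ⟨0, 0⟩, ⟨-2, 1⟩⟩,
   ⟨⟨2, -1⟩, ⟨-1, 1⟩, ⟨0, 0⟩, ⟨2, -1⟩⟩,
   ⟨⟨1, 0⟩, ⟨1, -1⟩, ⟨-1, 0⟩, ⟨0, 0⟩⟩,
   ⟨⟨0, 0⟩, ⟨0, 0⟩, ⟨1, 0⟩, ⟨0, 0⟩⟩]

theorem units_length : units.length = 120 := by decide +kernel

theorem units_nodup : units.Nodup := by decide +kernel

theorem units_nrm : ∀ u ∈ units, nrm u = 1 := by decide +kernel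

/-- The elements `z` of `ℤ[τ]` with trace of `z²` at most 8. -/
def small : List Zt :=
  [⟨0, 0⟩, ⟨1, 0⟩, ⟨-1, 0⟩, ⟨0, 1⟩, ⟨0, -1⟩, ⟨1, -1⟩, ⟨-1, 1⟩, ⟨1, 1⟩, ⟨-1, -1⟩, ⟨2, 0⟩, ⟨-2, 0⟩,
   ⟨2, -1⟩, ⟨-2, 1⟩]

theorem mem_small {z : Zt} (h : trc (z * z) ≤ 8) : z ∈ small := by
  obtain ⟨m, n⟩ := z
  rw [trc_def] at h
  simp only [mul_a, mul_b] at h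
  have hn1 : n ≤ 1 := by nlinarith [sq_nonneg (2 * m + n), sq_nonneg (n - 1)]
  have hn2 : -1 ≤ n := by nlinarith [sq_nonneg (2 * m + n), sq_nonneg (n + 1)]
  have hm1 : m ≤ 2 := by nlinarith [sq_nonneg (m + 3 * n), sq_nonneg (m - 2)]
  have hm2 : -2 ≤ m := by nlinarith [sq_nonneg (m + 3 * n), sq_nonneg (m + 2)]
  interval_cases n <;> interval_cases m <;> first | decide | (exfalso; omega)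

/-- `z` is divisible by 2 -/
def ev (z : Zt) : Bool := z.a % 2 == 0 && z.b % 2 == 0

/-- half of `z` -/
def hf (z : Zt) : Zt := ⟨z.a / 2, z.b / 2⟩

/-- candidate check for the enumeration of the units -/
def chk (d0 d1 d2 d3 : Zt) : Bool :=
  !(ev (d0 - (-(S * d3)) + S * (S * d2))) || !(ev (d1 - S * (-(S * d3)) - S * d2)) ||
    !(decide (d0 * d0 + d1 * d1 + d2 * d2 + d3 * d3 = ⟨4, 0⟩)) || 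
    decide ((⟨hf (d0 - (-(S * d3)) + S * (S * d2)), hf (d1 - S * (-(S * d3)) - S * d2),
      -(S * d3), S * d2⟩ : Icos) ∈ units)

theorem chk_all : ∀ d0 ∈ small, ∀ d1 ∈ small, ∀ d2 ∈ small, ∀ d3 ∈ small, chk d0 d1 d2 d3 = true := by
  decide +kernel

theorem S_mul_dbl2 (x : Icos) : S * dbl2 x = x.p3 := by
  rw [dbl2_def]
  linear_combination (-x.p3) * S_mul_T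

theorem S_mul_dbl3 (x : Icos) : -(S * dbl3 x) = x.p2 := by
  rw [dbl3_def]
  linear_combination (-x.p2) * S_mul_T

theorem dbl0_sub (x : Icos) : dbl0 x - x.p2 + S * x.p3 = 2 * x.p0 := by
  rw [dbl0_def]; ring

theorem dbl1_sub (x : Icos) : dbl1 x - S * x.p2 - x.p3 = 2 * x.p1 := by
  rw [dbl1_def]; ring

theorem two_mul_a (z : Zt) : (2 * z).a = 2 * z.a := by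
  rw [two_mul, add_a]; ring

theorem two_mul_b (z : Zt) : (2 * z).b = 2 * z.b := by
  rw [two_mul, add_b]; ring

theorem ev_two_mul (z : Zt) : ev (2 * z) = true := by
  unfold ev
  rw [two_mul_a, two_mul_b, Int.mul_emod_right, Int.mul_emod_right]
  rfl

theorem hf_two_mul (z : Zt) : hf (2 * z) = z := by
  ext
  · change (2 * z).a / 2 = z.a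
    rw [two_mul_a]; omega
  · change (2 * z).b / 2 = z.b
    rw [two_mul_b]; omega

theorem trc_sq_nonneg (z : Zt) : 0 ≤ trc (z * z) := by
  rw [trc_def]; simp only [mul_a, mul_b]
  nlinarith [sq_nonneg (2 * z.a + z.b), sq_nonneg z.b]

/-- The list `units` is complete. -/
theorem mem_units_iff {x : Icos} : x ∈ units ↔ nrm x = 1 := by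
  constructor
  · exact units_nrm x
  · intro hx
    have h4 := four_nrm x
    rw [hx, mul_one] at h4
    have ht := congrArg trc h4
    rw [trc_add, trc_add, trc_add] at ht
    have h8 : trc (4 : Zt) = 8 := rfl
    rw [h8] at ht
    have e0 := trc_sq_nonneg (dbl0 x)
    have e1 := trc_sq_nonneg (dbl1 x)
    have e2 := trc_sq_nonneg (dbl2 x)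
    have e3 := trc_sq_nonneg (dbl3 x)
    have m0 : dbl0 x ∈ small := mem_small (by omega)
    have m1 : dbl1 x ∈ small := mem_small (by omega)
    have m2 : dbl2 x ∈ small := mem_small (by omega)
    have m3 : dbl3 x ∈ small := mem_small (by omega)
    have h := chk_all _ m0 _ m1 _ m2 _ m3
    unfold chk at h
    rw [S_mul_dbl3, S_mul_dbl2, dbl0_sub, dbl1_sub, ev_two_mul, ev_two_mul, hf_two_mul, hf_two_mul,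
      h4] at h
    have h44 : (4 : Zt) = ⟨4, 0⟩ := rfl
    rw [h44] at h
    simpa using h

theorem unit_of_nrm {x : Icos} (h : nrm x = 1) : x * star x = 1 ∧ star x * x = 1 := by
  rw [mul_star_eq, star_mul_eq, h]
  exact ⟨rfl, rfl⟩

/-! ### the unit group -/

/-- The group of icosians of norm 1 (the binary icosahedral group). -/
abbrev U : Type := unitary Icos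

theorem mem_unitary_iff {x : Icos} : x ∈ unitary Icos ↔ nrm x = 1 := by
  constructor
  · intro h
    have h1 := h.2
    rw [mul_star_eq] at h1
    exact congrArg Icos.p0 h1
  · intro h
    exact ⟨(unit_of_nrm h).2, (unit_of_nrm h).1⟩

theorem mem_unitary_iff_mem_units {x : Icos} : x ∈ unitary Icos ↔ x ∈ units := by
  rw [mem_unitary_iff, mem_units_iff]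

/-- unit group as the list -/
noncomputable def unitsEquiv : U ≃ {x : Icos // x ∈ units.toFinset} :=
  Equiv.subtypeEquivRight (fun x => by rw [List.mem_toFinset]; exact mem_unitary_iff_mem_units)

theorem card_U : Nat.card U = 120 := by
  rw [Nat.card_congr unitsEquiv, Nat.card_eq_fintype_card, Fintype.card_coe,
    List.toFinset_card_of_nodup units_nodup, units_length]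

instance finite_U : Finite U := Nat.finite_of_card_ne_zero (by rw [card_U]; norm_num)

/-- The Hurwitz units: those with rational coordinates. -/
def isRat (x : Icos) : Prop := (dbl0 x).b = 0 ∧ (dbl1 x).b = 0 ∧ (dbl2 x).b = 0 ∧ (dbl3 x).b = 0

instance decIsRat : DecidablePred isRat := fun x => by unfold isRat; infer_instance

/-- the 24 Hurwitz units -/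
def hurwitz : List Icos := units.take 24

theorem hurwitz_eq : units.filter (fun x => decide (isRat x)) = hurwitz := by decide +kernel

theorem hurwitz_mul : ∀ x ∈ hurwitz, ∀ y ∈ hurwitz, isRat (x * y) := by decide +kernel

theorem hurwitz_star : ∀ x ∈ hurwitz, isRat (star x) := by decide +kernel

theorem mem_hurwitz {x : Icos} : x ∈ hurwitz ↔ nrm x = 1 ∧ isRat x := by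
  rw [← hurwitz_eq, List.mem_filter, mem_units_iff, decide_eq_true_iff]

/-- The subgroup of Hurwitz units. -/
def T24 : Subgroup U where
  carrier := {u | isRat (u : Icos)}
  one_mem' := by change isRat 1; decide
  mul_mem' := by
    intro x y hx hy
    exact hurwitz_mul _ (mem_hurwitz.2 ⟨mem_unitary_iff.1 x.2, hx⟩) _
      (mem_hurwitz.2 ⟨mem_unitary_iff.1 y.2, hy⟩)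
  inv_mem' := by
    intro x hx
    exact hurwitz_star _ (mem_hurwitz.2 ⟨mem_unitary_iff.1 x.2, hx⟩)

theorem mem_T24 {u : U} : u ∈ T24 ↔ isRat (u : Icos) := Iff.rfl

theorem card_T24 : Nat.card T24 = 24 := by
  have e : T24 ≃ {x : Icos // x ∈ hurwitz.toFinset} :=
    { toFun := fun u => ⟨u.1.1, by
        rw [List.mem_toFinset]; exact mem_hurwitz.2 ⟨mem_unitary_iff.1 u.1.2, u.2⟩⟩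
      invFun := fun x => ⟨⟨x.1, mem_unitary_iff.2 (mem_hurwitz.1 (List.mem_toFinset.1 x.2)).1⟩,
        (mem_hurwitz.1 (List.mem_toFinset.1 x.2)).2⟩
      left_inv := fun u => rfl
      right_inv := fun x => rfl }
  have hn : hurwitz.Nodup := units_nodup.sublist (List.take_sublist _ _)
  rw [Nat.card_congr e, Nat.card_eq_fintype_card, Fintype.card_coe, List.toFinset_card_of_nodup hn]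
  rfl

theorem index_T24 : T24.index = 5 := by
  have h := Subgroup.card_mul_index T24
  rw [card_T24, card_U] at h
  omega

theorem core_check : ∀ x ∈ hurwitz, isRat (eG * x * star eG) → isRat (star eG * x * eG) →
    x = 1 ∨ x = -1 := by decide +kernel

theorem nrm_eG : nrm eG = 1 := by decide
theorem nrm_eI : nrm eI = 1 := by decide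

/-- `-1` as a unit -/
def negOne : U := ⟨-1, mem_unitary_iff.2 (by decide)⟩

theorem mem_core_iff (u : U) : u ∈ T24.normalCore ↔ u = 1 ∨ u = negOne := by
  constructor
  · intro h
    let g : U := ⟨eG, mem_unitary_iff.2 nrm_eG⟩
    have h1 : u ∈ T24 := T24.normalCore_le h
    have h2 : isRat (eG * u * star eG) := h g
    have h3 : isRat (star eG * u * star (star eG)) := h g⁻¹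
    rw [star_star] at h3
    rcases core_check u (mem_hurwitz.2 ⟨mem_unitary_iff.1 u.2, h1⟩) h2 h3 with h4 | h4
    · left; exact Subtype.ext h4
    · right; exact Subtype.ext h4
  · rintro (rfl | rfl)
    · exact one_mem _
    · intro g
      have : g * negOne * g⁻¹ = negOne := by
        apply Subtype.ext
        change (g : Icos) * (-1) * star (g : Icos) = -1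
        rw [mul_neg, neg_mul, mul_one, (unit_of_nrm (mem_unitary_iff.1 g.2)).1]
      change g * negOne * g⁻¹ ∈ T24
      rw [this]
      change isRat (-1)
      decide

theorem negOne_ne : (1 : U) ≠ negOne := by
  intro h
  have := congrArg Subtype.val h
  revert this
  change (1 : Icos) = -1 → False
  decide

theorem card_core : Nat.card T24.normalCore = 2 := by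
  have h : (T24.normalCore : Set U) = {1, negOne} := by
    ext u; rw [SetLike.mem_coe, mem_core_iff]; rfl
  change Nat.card (T24.normalCore : Set U) = 2
  rw [h, Nat.card_coe_set_eq, Set.ncard_pair negOne_ne]

/-- The binary icosahedral group maps onto `A₅` with kernel `±1`. -/
theorem exists_pi : ∃ π : U →* alternatingGroup (Fin 5), Function.Surjective π ∧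
    ∀ u, π u = 1 ↔ u = 1 ∨ u = negOne := by
  obtain ⟨π, h1, h2⟩ := Cfsg.Agent.J2.CosetA5.exists_surjective_alternating T24 card_U index_T24
    card_core
  refine ⟨π, h1, fun u => ?_⟩
  rw [← MonoidHom.mem_ker, h2, mem_core_iff]

end Cfsg.Agent.J2.Units
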