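import Cfsg.Agent.J2.Simple
import Cfsg.Agent.J2.Stab
import Cfsg.Agent.J2Type.Pres

/-!
# Six elements of the icosian `J2` satisfying the relations of `Cfsg.Agent.J2Type.Pres`
-/

set_option autoImplicit false
set_option linter.unusedSimpArgs false

open Quaternion

namespace Cfsg.Agent.J2.SixGens

open Cfsg.Spor Cfsg.Agent.J2.ZTau Cfsg.Agent.J2.Ico Cfsg.Agent.J2.Lattice Cfsg.Agent.J2.Refl
  Cfsg.Agent.J2.Group Cfsg.Agent.J2.Stab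

/-! ### words in reflections -/

/-- apply a word in reflections to a vector -/
def run (L : List Vec) (v : Vec) : Vec := L.foldr (fun r v => refl r v) v

/-- all letters are roots -/
def rootsB (L : List Vec) : Bool := L.all rootB

open Classical in
/-- a reflection as an element of `W` -/
noncomputable def rfW (r : Vec) : W := if h : IsRoot r then ⟨rf r h, rf_mem h⟩ else 1

/-- the element of `W` of a word -/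
noncomputable def wd (L : List Vec) : W := (L.map rfW).prod

theorem wd_append (L M : List Vec) : wd (L ++ M) = wd L * wd M := by
  unfold wd; rw [List.map_append, List.prod_append]

theorem wd_nil : wd [] = 1 := rfl

theorem rfW_mul_self (r : Vec) : rfW r * rfW r = 1 := by
  unfold rfW
  split_ifs with h
  · exact Subtype.ext (rf_mul_self h)
  · rw [one_mul]

theorem rfW_inv (r : Vec) : (rfW r)⁻¹ = rfW r := inv_eq_of_mul_eq_one_left (rfW_mul_self r)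

theorem wd_reverse (L : List Vec) : wd L.reverse = (wd L)⁻¹ := by
  induction L with
  | nil => simp [wd]
  | cons r L ih =>
    rw [List.reverse_cons, wd_append, ih]
    have h1 : wd [r] = rfW r := by simp [wd]
    have h2 : wd (r :: L) = rfW r * wd L := by simp [wd]
    rw [h1, h2, mul_inv_rev, rfW_inv]

theorem wd_apply {L : List Vec} (hL : rootsB L = true) (v : Lam) :
    (((wd L : W) : Equiv.Perm Lam) v : Vec) = run L v := by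
  induction L with
  | nil => rfl
  | cons r L ih =>
    unfold rootsB at hL ih
    rw [List.all_cons, Bool.and_eq_true] at hL
    have hr : IsRoot r := rootB_iff.1 hL.1
    have h2 : wd (r :: L) = rfW r * wd L := by simp [wd]
    have h3 : rfW r = ⟨rf r hr, rf_mem hr⟩ := by unfold rfW; rw [dif_pos hr]
    rw [h2, Subgroup.coe_mul, Equiv.Perm.mul_apply, h3]
    change ((rf r hr _ : Lam) : Vec) = refl r (run L v)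
    rw [rf_apply, ih hL.2]

/-- check that two words agree (up to sign) on the three basis vectors -/
def chk (L M : List Vec) : Bool :=
  rootsB L && (rootsB M && (decide (run L e1 = run M e1 ∧ run L e2 = run M e2 ∧ run L e3 = run M e3)))

/-- check that the two words are negatives of each other -/
def chkN (L M : List Vec) : Bool :=
  rootsB L && (rootsB M &&
    (decide (run L e1 = -run M e1 ∧ run L e2 = -run M e2 ∧ run L e3 = -run M e3)))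

theorem wd_eq {L M : List Vec} (h : chk L M = true) : wd L = wd M := by
  unfold chk at h
  rw [Bool.and_eq_true, Bool.and_eq_true, decide_eq_true_iff] at h
  obtain ⟨hL, hM, h1, h2, h3⟩ := h
  apply Subtype.ext
  apply W_ext (wd L).2 (wd M).2
  · apply Subtype.ext; rw [wd_apply hL, wd_apply hM]; exact h1
  · apply Subtype.ext; rw [wd_apply hL, wd_apply hM]; exact h2
  · apply Subtype.ext; rw [wd_apply hL, wd_apply hM]; exact h3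

theorem wd_eqN {L M : List Vec} (h : chkN L M = true) :
    wd L = ⟨Equiv.neg Lam, neg_mem_W⟩ * wd M := by
  unfold chkN at h
  rw [Bool.and_eq_true, Bool.and_eq_true, decide_eq_true_iff] at h
  obtain ⟨hL, hM, h1, h2, h3⟩ := h
  apply Subtype.ext
  have hn : ∀ v : Lam, (((⟨Equiv.neg Lam, neg_mem_W⟩ * wd M : W) : Equiv.Perm Lam) v : Vec) =
      -run M v := by
    intro v
    rw [Subgroup.coe_mul, Equiv.Perm.mul_apply, ← wd_apply hM]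
    rfl
  apply W_ext (wd L).2 (⟨Equiv.neg Lam, neg_mem_W⟩ * wd M : W).2
  · apply Subtype.ext; rw [wd_apply hL, hn]; exact h1
  · apply Subtype.ext; rw [wd_apply hL, hn]; exact h2
  · apply Subtype.ext; rw [wd_apply hL, hn]; exact h3

/-- the projection of `W` onto `J2` -/
noncomputable def pr : W →* J2 :=
  equivJ2.toMonoidHom.comp (QuotientGroup.mk' (Subgroup.center W))

theorem pr_surjective : Function.Surjective pr :=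
  equivJ2.surjective.comp (QuotientGroup.mk'_surjective _)

theorem pr_eq_one {g : W} : pr g = 1 ↔ g ∈ Subgroup.center W := by
  unfold pr
  rw [MonoidHom.comp_apply, MulEquiv.toMonoidHom_eq_coe, MonoidHom.coe_coe,
    MulEquiv.map_eq_one_iff, QuotientGroup.mk'_apply, QuotientGroup.eq_one_iff]

theorem pr_neg : pr ⟨Equiv.neg Lam, neg_mem_W⟩ = 1 := pr_eq_one.2 neg_mem_center

/-- the element of `J2` of a word -/
noncomputable def J (L : List Vec) : J2 := pr (wd L)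

theorem J_append (L M : List Vec) : J (L ++ M) = J L * J M := by
  unfold J; rw [wd_append, map_mul]

theorem J_reverse (L : List Vec) : J L.reverse = (J L)⁻¹ := by
  unfold J; rw [wd_reverse, map_inv]

theorem J_nil : J [] = 1 := by unfold J; rw [wd_nil, map_one]

theorem J_eq {L M : List Vec} (h : chk L M = true) : J L = J M := by
  unfold J; rw [wd_eq h]

theorem J_eqN {L M : List Vec} (h : chkN L M = true) : J L = J M := by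
  unfold J; rw [wd_eqN h, map_mul, pr_neg, one_mul]

theorem J_mul (L M : List Vec) : J L * J M = J (L ++ M) := (J_append L M).symm
theorem J_inv (L : List Vec) : (J L)⁻¹ = J L.reverse := (J_reverse L).symm
theorem J_one : (1 : J2) = J [] := J_nil.symm
theorem J_sq (L : List Vec) : J L ^ 2 = J (L ++ L) := by rw [pow_two, J_mul]
theorem J_cube (L : List Vec) : J L ^ 3 = J (L ++ L ++ L) := by
  rw [pow_succ, pow_two, J_mul, J_mul]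

/-! ### the data -/

/-- a root -/
def r0 : Vec := ⟨⟨⟨-2, 0⟩, ⟨0, 0⟩, ⟨0, 0⟩, ⟨0, 0⟩⟩,
  ⟨⟨0, 0⟩, ⟨0, 0⟩, ⟨0, 0⟩, ⟨0, 0⟩⟩,
  ⟨⟨0, 0⟩, ⟨0, 0⟩, ⟨0, 0⟩, ⟨0, 0⟩⟩⟩
/-- a root -/
def r1 : Vec := ⟨⟨⟨0, 0⟩, ⟨0, 0⟩, ⟨0, 0⟩, ⟨0, 0⟩⟩,
  ⟨⟨-2, 0⟩, ⟨0, 0⟩, ⟨0, 0⟩, ⟨0, 0⟩⟩,
  ⟨⟨0, 0⟩, ⟨0, 0⟩, ⟨0, 0⟩, ⟨0, 0⟩⟩⟩
/-- a root -/
def r5 : Vec := ⟨⟨⟨0, 0⟩, ⟨0, 0⟩, ⟨0, 0⟩, ⟨0, 0⟩⟩,
  ⟨⟨-3, 1⟩, ⟨1, 0⟩, ⟨1, 0⟩, ⟨-3, 2⟩⟩,
  ⟨⟨-1, 1⟩, ⟨1, 0⟩, ⟨-1, 0⟩, ⟨-1, 0⟩⟩⟩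
/-- a root -/
def r11 : Vec := ⟨⟨⟨0, 0⟩, ⟨0, 0⟩, ⟨0, 0⟩, ⟨0, 0⟩⟩,
  ⟨⟨-1, 0⟩, ⟨-1, 0⟩, ⟨0, 0⟩, ⟨0, 0⟩⟩,
  ⟨⟨-1, 0⟩, ⟨1, 0⟩, ⟨0, 0⟩, ⟨0, 0⟩⟩⟩
/-- a root -/
def r74 : Vec := ⟨⟨⟨-1, 0⟩, ⟨0, 0⟩, ⟨1, 0⟩, ⟨-1, 0⟩⟩,
  ⟨⟨2, -1⟩, ⟨0, 0⟩, ⟨-1, 1⟩, ⟨1, -1⟩⟩,
  ⟨⟨0, 0⟩, ⟨-1, 1⟩, ⟨0, 0⟩, ⟨0, 0⟩⟩⟩
/-- a root -/
def r149 : Vec := ⟨⟨⟨-2, 2⟩, ⟨0, 0⟩, ⟨1, -1⟩, ⟨-3, 1⟩⟩,
  ⟨⟨1, 0⟩, ⟨0, 0⟩, ⟨0, 0⟩, ⟨0, 0⟩⟩,
  ⟨⟨0, 0⟩, ⟨-1, 0⟩, ⟨0, 0⟩, ⟨0, 0⟩⟩⟩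
/-- a root -/
def r153 : Vec := ⟨⟨⟨-2, 2⟩, ⟨0, 0⟩, ⟨1, -1⟩, ⟨-3, 1⟩⟩,
  ⟨⟨0, 0⟩, ⟨1, 0⟩, ⟨0, 0⟩, ⟨0, 0⟩⟩,
  ⟨⟨1, 0⟩, ⟨0, 0⟩, ⟨0, 0⟩, ⟨0, 0⟩⟩⟩
/-- a root -/
def r179 : Vec := ⟨⟨⟨-1, 1⟩, ⟨0, 0⟩, ⟨1, 0⟩, ⟨0, 0⟩⟩,
  ⟨⟨0, 0⟩, ⟨-1, 0⟩, ⟨0, 0⟩, ⟨1, 0⟩⟩,
  ⟨⟨-2, 2⟩, ⟨0, 0⟩, ⟨1, -1⟩, ⟨-2, 1⟩⟩⟩
/-- a root -/
def r185 : Vec := ⟨⟨⟨-1, 1⟩, ⟨0, 0⟩, ⟨1, 0⟩, ⟨0, 0⟩⟩,
  ⟨⟨2, -2⟩, ⟨0, 0⟩, ⟨-1, 1⟩, ⟨2, -1⟩⟩,
  ⟨⟨0, 0⟩, ⟨-1, 0⟩, ⟨0, 0⟩, ⟨1, 0⟩⟩⟩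
/-- a root -/
def r192 : Vec := ⟨⟨⟨-1, 1⟩, ⟨0, 0⟩, ⟨0, 0⟩, ⟨-1, 0⟩⟩,
  ⟨⟨0, 0⟩, ⟨1, -1⟩, ⟨0, 0⟩, ⟨-1, 0⟩⟩,
  ⟨⟨2, -1⟩, ⟨0, 0⟩, ⟨-1, 1⟩, ⟨2, -1⟩⟩⟩
/-- a root -/
def r210 : Vec := ⟨⟨⟨-1, 1⟩, ⟨0, 0⟩, ⟨0, 0⟩, ⟨-1, 0⟩⟩,
  ⟨⟨0, -1⟩, ⟨-1, 1⟩, ⟨1, 0⟩, ⟨0, 0⟩⟩,
  ⟨⟨0, 0⟩, ⟨2, -2⟩, ⟨-2, 1⟩, ⟨-1, 1⟩⟩⟩
/-- a root -/
def r290 : Vec := ⟨⟨⟨-1, 0⟩, ⟨0, 0⟩, ⟨0, 0⟩, ⟨0, 0⟩⟩,
  ⟨⟨0, 0⟩, ⟨-1, 0⟩, ⟨0, 0⟩, ⟨0, 0⟩⟩,
  ⟨⟨0, 0⟩, ⟨2, -2⟩, ⟨-3, 1⟩, ⟨-1, 1⟩⟩⟩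
/-- a root -/
def r296 : Vec := ⟨⟨⟨-1, 0⟩, ⟨0, 0⟩, ⟨1, 0⟩, ⟨0, 0⟩⟩,
  ⟨⟨-2, 1⟩, ⟨0, 0⟩, ⟨1, -1⟩, ⟨-2, 1⟩⟩,
  ⟨⟨0, -1⟩, ⟨-1, 1⟩, ⟨1, 0⟩, ⟨0, 0⟩⟩⟩
/-- the element `v` as a word in reflections -/
def wV : List Vec := [r1, r11, r179, r185]
/-- the element `x` as a word in reflections -/
def wX : List Vec := [r0, r192, r210, r296]
/-- the element `a` as a word in reflections -/
def wA : List Vec := [r1, r5, r149, r153]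
/-- the element `z` as a word in reflections -/
def wZ : List Vec := [r0]
/-- the element `y` as a word in reflections -/
def wY : List Vec := [r74, r290]
/-- the element `l` as a word in reflections -/
def wL : List Vec := [r290]

/-! ### the relations -/

theorem rel_v2 : J (wV ++ wV) = J ([]) := J_eqN (by decide +kernel)
theorem rel_x3 : J (wX ++ wX ++ wX) = J ([]) := J_eq (by decide +kernel)
theorem rel_vx : J ((wV ++ wX) ++ (wV ++ wX) ++ (wV ++ wX)) = J ([]) := J_eqN (by decide +kernel)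
theorem rel_a2 : J (wA ++ wA) = J ([]) := J_eqN (by decide +kernel)
theorem rel_xa : J ((wX ++ wA) ++ (wX ++ wA)) = J ([]) := J_eqN (by decide +kernel)
theorem rel_va : J ((wV ++ wA) ++ (wV ++ wA) ++ (wV ++ wA)) = J ([]) := J_eq (by decide +kernel)
theorem rel_z2 : J (wZ ++ wZ) = J ([]) := J_eq (by decide +kernel)
theorem rel_y3 : J (wY ++ wY ++ wY) = J ([]) := J_eq (by decide +kernel)
theorem rel_zy : J ((wZ ++ wY) ++ (wZ ++ wY) ++ (wZ ++ wY)) = J ([]) := J_eqN (by decide +kernel)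
theorem rel_l2 : J (wL ++ wL) = J ([]) := J_eq (by decide +kernel)
theorem rel_yl : J ((wY ++ wL) ++ (wY ++ wL)) = J ([]) := J_eq (by decide +kernel)
theorem rel_zl : J ((wZ ++ wL) ++ (wZ ++ wL) ++ (wZ ++ wL)) = J ([]) := J_eq (by decide +kernel)
theorem rel_vz : J (wV ++ wZ) = J (wZ ++ wV) := J_eq (by decide +kernel)
theorem rel_vy : J (wV ++ wY) = J (wY ++ wV) := J_eq (by decide +kernel)
theorem rel_vl : J (wV ++ wL) = J (wL ++ wV) := J_eq (by decide +kernel)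
theorem rel_xz : J (wX ++ wZ) = J (wZ ++ wX) := J_eq (by decide +kernel)
theorem rel_xy : J (wX ++ wY) = J (wY ++ wX) := J_eq (by decide +kernel)
theorem rel_xl : J (wX ++ wL) = J (wL ++ wX) := J_eq (by decide +kernel)
theorem rel_az : J (wA ++ wZ) = J (wZ ++ wA) := J_eq (by decide +kernel)
theorem rel_aly : J (wA ++ (wL ++ wY)) = J ((wL ++ wY) ++ wA) := J_eq (by decide +kernel)

/-- `e = y⁻¹ z y` -/
def wE : List Vec := wY.reverse ++ wZ ++ wY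
/-- `q = a e a` -/
def wQ : List Vec := wA ++ wE ++ wA

theorem rel_eq4 : J ((wE ++ wQ) ++ (wE ++ wQ)) = J wZ := J_eqN (by decide +kernel)
theorem rel_n1 : J (wY.reverse ++ (wQ ++ wV ++ wQ) ++ wY) =
    J (wQ ++ (wX.reverse ++ wV ++ wX) ++ wQ) := J_eq (by decide +kernel)

theorem J_E : (J wY)⁻¹ * J wZ * J wY = J wE := by
  unfold wE; rw [J_append, J_append, J_reverse]

theorem J_Q : J wA * ((J wY)⁻¹ * J wZ * J wY) * J wA = J wQ := by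
  rw [J_E]; unfold wQ; rw [J_append, J_append]

theorem rels : Cfsg.Agent.J2Type.Pres.Rels (J wV) (J wX) (J wA) (J wZ) (J wY) (J wL) where
  v2 := by rw [J_mul, rel_v2, J_nil]
  x3 := by rw [J_cube, rel_x3, J_nil]
  vx := by rw [J_mul, J_cube, rel_vx, J_nil]
  a2 := by rw [J_mul, rel_a2, J_nil]
  xa := by rw [J_mul, J_sq, rel_xa, J_nil]
  va := by rw [J_mul, J_cube, rel_va, J_nil]
  z2 := by rw [J_mul, rel_z2, J_nil]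
  y3 := by rw [J_cube, rel_y3, J_nil]
  zy := by rw [J_mul, J_cube, rel_zy, J_nil]
  l2 := by rw [J_mul, rel_l2, J_nil]
  yl := by rw [J_mul, J_sq, rel_yl, J_nil]
  zl := by rw [J_mul, J_cube, rel_zl, J_nil]
  vz := by rw [J_mul, J_mul, rel_vz]
  vy := by rw [J_mul, J_mul, rel_vy]
  vl := by rw [J_mul, J_mul, rel_vl]
  xz := by rw [J_mul, J_mul, rel_xz]
  xy := by rw [J_mul, J_mul, rel_xy]
  xl := by rw [J_mul, J_mul, rel_xl]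
  az := by rw [J_mul, J_mul, rel_az]
  aly := by rw [J_mul, J_mul, J_mul, rel_aly]
  eq4 := by rw [J_Q, J_E, J_mul, J_sq, rel_eq4]
  n1 := by
    rw [J_Q, J_mul, J_mul, J_inv, J_inv, J_mul, J_mul, J_mul, J_mul, J_mul, J_mul, rel_n1]

theorem z_ne_one : J wZ ≠ 1 := by
  intro h
  unfold J at h
  rw [pr_eq_one] at h
  have hr : IsRoot r0 := rootB_iff.1 (by decide)
  have h0 : wd wZ = ⟨rf r0 hr, rf_mem hr⟩ := by
    have h1 : wd wZ = rfW r0 := by simp [wd, wZ]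
    rw [h1]; unfold rfW; rw [dif_pos hr]
  have e : r0 = (-1 : Icos) • e1 := by
    decide
  have hu : (-1 : Icos) * star (-1 : Icos) = 1 := by decide
  have h2 : rf r0 hr = rf e1 root_e1 := by
    rw [rf_congr hr (isRoot_smul root_e1 hu) e, rf_smul root_e1 hu]
  have h3 : wd wZ = ⟨rf e1 root_e1, rf_mem root_e1⟩ := by
    rw [h0]; exact Subtype.ext h2
  rw [h3, Subgroup.mem_center_iff] at h
  apply Cfsg.Agent.J2.Simple.not_comm_mod_center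
  rw [h, inv_mul_cancel]
  exact one_mem _

theorem exists_rels : ∃ v x a z y l : J2, Cfsg.Agent.J2Type.Pres.Rels v x a z y l ∧ z ≠ 1 :=
  ⟨_, _, _, _, _, _, rels, z_ne_one⟩

end Cfsg.Agent.J2.SixGens
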