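import Cfsg.Agent.SporadicA.J2Hundred
import Cfsg.Agent.J2Type.PresIso
import Cfsg.Agent.J2.SixGens

/-!
# Six permutations of degree 100 satisfying the relations of `Cfsg.Agent.J2Type.Pres`

They generate the Hall–Janko group on 100 points (`SporadicA.J2Hundred.G`, simple of order 604800).
Hence every group of order 604800 with six elements satisfying the relations (and `z ≠ 1`) is
isomorphic to it, in particular the icosian `J2` once its order is known.
-/

set_option autoImplicit false

namespace Cfsg.Agent.J2.HundredGens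

open Equiv Cfsg.Agent.SporadicA.PermTab Cfsg.Agent.SporadicA.J2Data Cfsg.Agent.SporadicA.J2Hundred
  Cfsg.Agent.J2Type.Pres

/-- the generators a..e -/
def gen (k : ℕ) : Perm (Fin 100) := match k with
  | 0 => pA
  | 1 => pB
  | 2 => pC
  | 3 => pD
  | _ => pE

/-- the tables of a..e -/
def tab (k : ℕ) : ℕ := match k with
  | 0 => tA
  | 1 => tB
  | 2 => tC
  | 3 => tD
  | _ => tE

theorem gen_val (k : ℕ) (i : Fin 100) : ((gen k i : Fin 100) : ℕ) = lk (tab k) i := by
  match k with
  | 0 => exact mkPerm_val tA tA iA i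
  | 1 => exact mkPerm_val tB tB iB i
  | 2 => exact mkPerm_val tC tC iC i
  | 3 => exact mkPerm_val tD tD iD i
  | (n + 4) => exact mkPerm_val tE tE iE i

theorem gen_mem (k : ℕ) : gen k ∈ G := by
  match k with
  | 0 => exact mA
  | 1 => exact mB
  | 2 => exact mC
  | 3 => exact mD
  | (n + 4) => exact mE

/-- the permutation of a word -/
noncomputable def pw (L : List ℕ) : Perm (Fin 100) := (L.map gen).prod

/-- the action of a word on numbers -/
def run (L : List ℕ) (j : ℕ) : ℕ := L.foldr (fun k j => lk (tab k) j) j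

theorem pw_cons (k : ℕ) (L : List ℕ) : pw (k :: L) = gen k * pw L := by
  unfold pw; rw [List.map_cons, List.prod_cons]

theorem pw_append (L M : List ℕ) : pw (L ++ M) = pw L * pw M := by
  unfold pw; rw [List.map_append, List.prod_append]

theorem pw_nil : pw [] = 1 := rfl

theorem pw_mem (L : List ℕ) : pw L ∈ G := by
  induction L with
  | nil => exact one_mem _
  | cons k L ih => rw [pw_cons]; exact mul_mem (gen_mem k) ih

theorem pw_val (L : List ℕ) (i : Fin 100) : ((pw L i : Fin 100) : ℕ) = run L i := by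
  induction L with
  | nil => rfl
  | cons k L ih =>
    rw [pw_cons, Perm.mul_apply, gen_val, ih]; rfl

/-- check that two words agree -/
def chk (L M : List ℕ) : Bool := allB (fun i => Nat.beq (run L i) (run M i)) 100

theorem pw_eq {L M : List ℕ} (h : chk L M = true) : pw L = pw M := by
  unfold chk at h
  rw [allB_iff] at h
  ext1 i
  apply Fin.ext
  rw [pw_val, pw_val]
  exact Nat.eq_of_beq_eq_true (h i i.2)

theorem pw_mul (L M : List ℕ) : pw L * pw M = pw (L ++ M) := (pw_append L M).symm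
theorem pw_sq (L : List ℕ) : pw L ^ 2 = pw (L ++ L) := by rw [pow_two, pw_mul]
theorem pw_cube (L : List ℕ) : pw L ^ 3 = pw (L ++ L ++ L) := by
  rw [pow_succ, pow_two, pw_mul, pw_mul]

theorem gen_mul_self (k : ℕ) : gen k * gen k = 1 := by
  match k with
  | 0 => exact pw_eq (L := [0, 0]) (M := []) (by decide +kernel)
  | 1 => exact pw_eq (L := [1, 1]) (M := []) (by decide +kernel)
  | 2 => exact pw_eq (L := [2, 2]) (M := []) (by decide +kernel)
  | 3 => exact pw_eq (L := [3, 3]) (M := []) (by decide +kernel)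
  | (n + 4) => exact pw_eq (L := [4, 4]) (M := []) (by decide +kernel)

theorem pw_reverse (L : List ℕ) : pw L.reverse = (pw L)⁻¹ := by
  induction L with
  | nil => rw [List.reverse_nil, pw_nil, inv_one]
  | cons k L ih =>
    have h1 : pw [k] = gen k := by rw [pw_cons, pw_nil, mul_one]
    rw [List.reverse_cons, pw_append, ih, pw_cons k L, mul_inv_rev, h1,
      inv_eq_of_mul_eq_one_left (gen_mul_self k)]

theorem pw_inv (L : List ℕ) : (pw L)⁻¹ = pw L.reverse := (pw_reverse L).symm

/-- word of `v` in the generators a..e -/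
def wV : List ℕ := [4]
/-- word of `x` in the generators a..e -/
def wX : List ℕ := [3, 2, 3, 1, 2, 3, 2, 1, 0, 1, 2, 3, 0, 1, 2, 1, 0, 1, 0]
/-- word of `a` in the generators a..e -/
def wA : List ℕ := [3]
/-- word of `z` in the generators a..e -/
def wZ : List ℕ := [0]
/-- word of `y` in the generators a..e -/
def wY : List ℕ := [1, 2, 0, 1, 0, 1, 0]
/-- word of `l` in the generators a..e -/
def wL : List ℕ := [1, 2, 0, 1]

theorem rel_v2 : pw (wV ++ wV) = pw ([]) := pw_eq (by decide +kernel)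
theorem rel_x3 : pw (wX ++ wX ++ wX) = pw ([]) := pw_eq (by decide +kernel)
theorem rel_vx : pw ((wV ++ wX) ++ (wV ++ wX) ++ (wV ++ wX)) = pw ([]) := pw_eq (by decide +kernel)
theorem rel_a2 : pw (wA ++ wA) = pw ([]) := pw_eq (by decide +kernel)
theorem rel_xa : pw ((wX ++ wA) ++ (wX ++ wA)) = pw ([]) := pw_eq (by decide +kernel)
theorem rel_va : pw ((wV ++ wA) ++ (wV ++ wA) ++ (wV ++ wA)) = pw ([]) := pw_eq (by decide +kernel)
theorem rel_z2 : pw (wZ ++ wZ) = pw ([]) := pw_eq (by decide +kernel)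
theorem rel_y3 : pw (wY ++ wY ++ wY) = pw ([]) := pw_eq (by decide +kernel)
theorem rel_zy : pw ((wZ ++ wY) ++ (wZ ++ wY) ++ (wZ ++ wY)) = pw ([]) := pw_eq (by decide +kernel)
theorem rel_l2 : pw (wL ++ wL) = pw ([]) := pw_eq (by decide +kernel)
theorem rel_yl : pw ((wY ++ wL) ++ (wY ++ wL)) = pw ([]) := pw_eq (by decide +kernel)
theorem rel_zl : pw ((wZ ++ wL) ++ (wZ ++ wL) ++ (wZ ++ wL)) = pw ([]) := pw_eq (by decide +kernel)
theorem rel_vz : pw (wV ++ wZ) = pw (wZ ++ wV) := pw_eq (by decide +kernel)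
theorem rel_vy : pw (wV ++ wY) = pw (wY ++ wV) := pw_eq (by decide +kernel)
theorem rel_vl : pw (wV ++ wL) = pw (wL ++ wV) := pw_eq (by decide +kernel)
theorem rel_xz : pw (wX ++ wZ) = pw (wZ ++ wX) := pw_eq (by decide +kernel)
theorem rel_xy : pw (wX ++ wY) = pw (wY ++ wX) := pw_eq (by decide +kernel)
theorem rel_xl : pw (wX ++ wL) = pw (wL ++ wX) := pw_eq (by decide +kernel)
theorem rel_az : pw (wA ++ wZ) = pw (wZ ++ wA) := pw_eq (by decide +kernel)
theorem rel_aly : pw (wA ++ (wL ++ wY)) = pw ((wL ++ wY) ++ wA) := pw_eq (by decide +kernel)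

/-- `e = y⁻¹ z y` -/
def wE : List ℕ := wY.reverse ++ wZ ++ wY
/-- `q = a e a` -/
def wQ : List ℕ := wA ++ wE ++ wA

theorem rel_eq4 : pw ((wE ++ wQ) ++ (wE ++ wQ)) = pw wZ := pw_eq (by decide +kernel)
theorem rel_n1 : pw (wY.reverse ++ (wQ ++ wV ++ wQ) ++ wY) =
    pw (wQ ++ (wX.reverse ++ wV ++ wX) ++ wQ) := pw_eq (by decide +kernel)

theorem pw_E : (pw wY)⁻¹ * pw wZ * pw wY = pw wE := by
  unfold wE; rw [pw_append, pw_append, pw_reverse]

theorem pw_Q : pw wA * ((pw wY)⁻¹ * pw wZ * pw wY) * pw wA = pw wQ := by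
  rw [pw_E]; unfold wQ; rw [pw_append, pw_append]

theorem rels_perm : Rels (pw wV) (pw wX) (pw wA) (pw wZ) (pw wY) (pw wL) where
  v2 := by rw [pw_mul, rel_v2, pw_nil]
  x3 := by rw [pw_cube, rel_x3, pw_nil]
  vx := by rw [pw_mul, pw_cube, rel_vx, pw_nil]
  a2 := by rw [pw_mul, rel_a2, pw_nil]
  xa := by rw [pw_mul, pw_sq, rel_xa, pw_nil]
  va := by rw [pw_mul, pw_cube, rel_va, pw_nil]
  z2 := by rw [pw_mul, rel_z2, pw_nil]
  y3 := by rw [pw_cube, rel_y3, pw_nil]
  zy := by rw [pw_mul, pw_cube, rel_zy, pw_nil]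
  l2 := by rw [pw_mul, rel_l2, pw_nil]
  yl := by rw [pw_mul, pw_sq, rel_yl, pw_nil]
  zl := by rw [pw_mul, pw_cube, rel_zl, pw_nil]
  vz := by rw [pw_mul, pw_mul, rel_vz]
  vy := by rw [pw_mul, pw_mul, rel_vy]
  vl := by rw [pw_mul, pw_mul, rel_vl]
  xz := by rw [pw_mul, pw_mul, rel_xz]
  xy := by rw [pw_mul, pw_mul, rel_xy]
  xl := by rw [pw_mul, pw_mul, rel_xl]
  az := by rw [pw_mul, pw_mul, rel_az]
  aly := by rw [pw_mul, pw_mul, pw_mul, rel_aly]
  eq4 := by rw [pw_Q, pw_E, pw_mul, pw_sq, rel_eq4]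
  n1 := by
    rw [pw_Q, pw_mul, pw_mul, pw_inv, pw_inv, pw_mul, pw_mul, pw_mul, pw_mul, pw_mul, pw_mul, rel_n1]

/-- the word as an element of `G` -/
noncomputable def gw (L : List ℕ) : G := ⟨pw L, pw_mem L⟩

theorem rels_of_injective {G₁ G₂ : Type*} [Group G₁] [Group G₂] (f : G₁ →* G₂)
    (hf : Function.Injective f) {v x a z y l : G₁} (h : Rels (f v) (f x) (f a) (f z) (f y) (f l)) :
    Rels v x a z y l where
  v2 := hf (by simpa only [map_mul, map_pow, map_inv, map_one] using h.v2)
  x3 := hf (by simpa only [map_mul, map_pow, map_inv, map_one] using h.x3)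
  vx := hf (by simpa only [map_mul, map_pow, map_inv, map_one] using h.vx)
  a2 := hf (by simpa only [map_mul, map_pow, map_inv, map_one] using h.a2)
  xa := hf (by simpa only [map_mul, map_pow, map_inv, map_one] using h.xa)
  va := hf (by simpa only [map_mul, map_pow, map_inv, map_one] using h.va)
  z2 := hf (by simpa only [map_mul, map_pow, map_inv, map_one] using h.z2)
  y3 := hf (by simpa only [map_mul, map_pow, map_inv, map_one] using h.y3)
  zy := hf (by simpa only [map_mul, map_pow, map_inv, map_one] using h.zy)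
  l2 := hf (by simpa only [map_mul, map_pow, map_inv, map_one] using h.l2)
  yl := hf (by simpa only [map_mul, map_pow, map_inv, map_one] using h.yl)
  zl := hf (by simpa only [map_mul, map_pow, map_inv, map_one] using h.zl)
  vz := hf (by simpa only [map_mul, map_pow, map_inv, map_one] using h.vz)
  vy := hf (by simpa only [map_mul, map_pow, map_inv, map_one] using h.vy)
  vl := hf (by simpa only [map_mul, map_pow, map_inv, map_one] using h.vl)
  xz := hf (by simpa only [map_mul, map_pow, map_inv, map_one] using h.xz)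
  xy := hf (by simpa only [map_mul, map_pow, map_inv, map_one] using h.xy)
  xl := hf (by simpa only [map_mul, map_pow, map_inv, map_one] using h.xl)
  az := hf (by simpa only [map_mul, map_pow, map_inv, map_one] using h.az)
  aly := hf (by simpa only [map_mul, map_pow, map_inv, map_one] using h.aly)
  eq4 := hf (by simpa only [map_mul, map_pow, map_inv, map_one] using h.eq4)
  n1 := hf (by simpa only [map_mul, map_pow, map_inv, map_one] using h.n1)

theorem rels_G : Rels (gw wV) (gw wX) (gw wA) (gw wZ) (gw wY) (gw wL) :=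
  rels_of_injective G.subtype Subtype.val_injective rels_perm

/-- the subgroup generated by the six elements -/
noncomputable def HG : Subgroup G := Subgroup.closure {gw wV, gw wX, gw wA, gw wZ, gw wY, gw wL}

theorem hV : gw wV ∈ HG := Subgroup.subset_closure (by simp)
theorem hA : gw wA ∈ HG := Subgroup.subset_closure (by simp)
theorem hZ : gw wZ ∈ HG := Subgroup.subset_closure (by simp)
theorem hY : gw wY ∈ HG := Subgroup.subset_closure (by simp)
theorem hL : gw wL ∈ HG := Subgroup.subset_closure (by simp)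

theorem gens_le : gens ⊆ (HG.map G.subtype : Subgroup (Perm (Fin 100))) := by
  have h1 : ∀ k, pw [k] = gen k := fun k => by rw [pw_cons, pw_nil, mul_one]
  rintro s (rfl | rfl | rfl | rfl | rfl)
  · exact ⟨_, hZ, show pw wZ = gen 0 by rw [← h1]; exact pw_eq (by decide +kernel)⟩
  · refine ⟨_, mul_mem (mul_mem (mul_mem hZ hL) hY) hZ, ?_⟩
    change pw wZ * pw wL * pw wY * pw wZ = gen 1
    rw [pw_mul, pw_mul, pw_mul, ← h1]; exact pw_eq (by decide +kernel)
  · refine ⟨_, mul_mem (mul_mem hY hZ) (inv_mem hY), ?_⟩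
    change pw wY * pw wZ * (pw wY)⁻¹ = gen 2
    rw [pw_inv, pw_mul, pw_mul, ← h1]; exact pw_eq (by decide +kernel)
  · exact ⟨_, hA, show pw wA = gen 3 by rw [← h1]; exact pw_eq (by decide +kernel)⟩
  · exact ⟨_, hV, show pw wV = gen 4 by rw [← h1]; exact pw_eq (by decide +kernel)⟩

theorem HG_top : HG = ⊤ := by
  rw [eq_top_iff]
  rintro ⟨g, hg⟩ -
  have hle : Subgroup.closure gens ≤ HG.map G.subtype := (Subgroup.closure_le _).2 gens_le
  obtain ⟨g', h1, h2⟩ := hle hg
  have e : g' = ⟨g, hg⟩ := Subtype.ext h2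
  rwa [← e]

/-- Every group of order 604800 with six elements satisfying the relations, `z ≠ 1`, is isomorphic to
the Hall–Janko group on 100 points. -/
theorem iso_hundred {K : Type*} [Group K] (hK : Nat.card K = 604800) {v x a z y l : K}
    (h : Rels v x a z y l) (hz : z ≠ 1) : Nonempty (K ≃* G) := by
  have hs := simple
  exact Cfsg.Agent.J2Type.PresIso.iso_of_rels card_G rels_G HG_top hK h hz

/-- The icosian `J2` is isomorphic to the group on 100 points, given its order. -/
theorem J2_iso (hJ : Nat.card Cfsg.Spor.J2 = 604800) : Nonempty (Cfsg.Spor.J2 ≃* G) := by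
  obtain ⟨v, x, a, z, y, l, h, hz⟩ := Cfsg.Agent.J2.SixGens.exists_rels
  exact iso_hundred hJ h hz

/-- Recognition of `J2` by the relations and the order. -/
theorem iso_J2 (hJ : Nat.card Cfsg.Spor.J2 = 604800) {K : Type*} [Group K]
    (hK : Nat.card K = 604800) {v x a z y l : K} (h : Rels v x a z y l) (hz : z ≠ 1) :
    Nonempty (K ≃* Cfsg.Spor.J2) := by
  obtain ⟨e⟩ := iso_hundred hK h hz
  obtain ⟨f⟩ := J2_iso hJ
  exact ⟨e.trans f.symm⟩

/-- Six generators of the icosian `J2` satisfying the relations, given its order. -/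
theorem exists_gens (hJ : Nat.card Cfsg.Spor.J2 = 604800) : ∃ v x a z y l : Cfsg.Spor.J2,
    Rels v x a z y l ∧ Subgroup.closure {v, x, a, z, y, l} = (⊤ : Subgroup Cfsg.Spor.J2) := by
  obtain ⟨f⟩ := J2_iso hJ
  refine ⟨f.symm (gw wV), f.symm (gw wX), f.symm (gw wA), f.symm (gw wZ), f.symm (gw wY),
    f.symm (gw wL), ?_, ?_⟩
  · apply rels_of_injective f.toMonoidHom f.injective
    simp only [MulEquiv.toMonoidHom_eq_coe, MonoidHom.coe_coe, MulEquiv.apply_symm_apply]
    exact rels_G
  · have h := congrArg (Subgroup.map f.symm.toMonoidHom) HG_top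
    unfold HG at h
    rw [MonoidHom.map_closure] at h
    simp only [Set.image_insert_eq, Set.image_singleton, MulEquiv.toMonoidHom_eq_coe,
      MonoidHom.coe_coe] at h
    rw [h, ← MonoidHom.range_eq_map]
    exact MonoidHom.range_eq_top.2 f.symm.surjective

end Cfsg.Agent.J2.HundredGens
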