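import Mathlib
import Cfsg.Prelude.Def_Spor_J2

/-!
# Assembly of the order of `2·J₂` from the orbit of minimal vectors and a vector stabiliser
-/

set_option autoImplicit false

open Quaternion

namespace Cfsg.Agent.J2.OrderAssembly

open Cfsg.Spor

/-- Orbit-stabiliser for the action of `twoJ2` on the minimal vectors. -/
theorem card_twoJ2
    (hmin : {r : Fin 3 → ℍ[ℝ] | r ∈ icoLeech ∧ qip r r = 4}.ncard = 37800)
    (hpres : ∀ g ∈ twoJ2, ∀ r : icoLeech, qip (r : Fin 3 → ℍ[ℝ]) r = 4 →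
      qip (g r : Fin 3 → ℍ[ℝ]) (g r) = 4)
    (e : icoLeech) (he : qip (e : Fin 3 → ℍ[ℝ]) e = 4)
    (htrans : ∀ r : icoLeech, qip (r : Fin 3 → ℍ[ℝ]) r = 4 → ∃ g ∈ twoJ2, g e = r)
    (hstab : Nat.card {g : Equiv.Perm icoLeech // g ∈ twoJ2 ∧ g e = e} = 32) :
    Nat.card twoJ2 = 1209600 := by
  have h1 : Nat.card (MulAction.orbit twoJ2 e) = 37800 := by
    have hset : (Subtype.val '' (MulAction.orbit twoJ2 e : Set icoLeech)) =
        {r : Fin 3 → ℍ[ℝ] | r ∈ icoLeech ∧ qip r r = 4} := by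
      ext r
      constructor
      · rintro ⟨x, ⟨g, rfl⟩, rfl⟩
        exact ⟨Subtype.property _, hpres g.1 g.2 e he⟩
      · rintro ⟨hr, hr4⟩
        obtain ⟨g, hg, hge⟩ := htrans ⟨r, hr⟩ hr4
        exact ⟨⟨r, hr⟩, ⟨⟨g, hg⟩, hge⟩, rfl⟩
    have h2 : (Subtype.val '' (MulAction.orbit twoJ2 e : Set icoLeech)).ncard =
        (MulAction.orbit twoJ2 e : Set icoLeech).ncard :=
      Set.ncard_image_of_injective _ Subtype.val_injective
    rw [hset, hmin] at h2
    rw [Nat.card_coe_set_eq]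
    exact h2.symm
  have h2 : Nat.card (MulAction.stabilizer twoJ2 e) = 32 := by
    rw [← hstab]
    refine Nat.card_congr ⟨fun g => ⟨g.1.1, g.1.2, g.2⟩, fun g => ⟨⟨g.1, g.2.1⟩, g.2.2⟩, ?_, ?_⟩
    · intro g; rfl
    · intro g; rfl
  have h3 := Nat.card_congr (MulAction.orbitProdStabilizerEquivGroup twoJ2 e)
  rw [Nat.card_prod, h1, h2] at h3
  rw [← h3]

/-- The centre has order 2 when it consists of `1` and negation. -/
theorem card_center
    (e : icoLeech) (he : (e : Fin 3 → ℍ[ℝ]) ≠ 0)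
    (hneg : ∃ z ∈ Subgroup.center twoJ2, ∀ x : icoLeech,
      (((z : Equiv.Perm icoLeech) x : icoLeech) : Fin 3 → ℍ[ℝ]) = -(x : Fin 3 → ℍ[ℝ]))
    (hcen : ∀ z ∈ Subgroup.center twoJ2, (∀ x : icoLeech,
        (((z : Equiv.Perm icoLeech) x : icoLeech) : Fin 3 → ℍ[ℝ]) = (x : Fin 3 → ℍ[ℝ])) ∨
      ∀ x : icoLeech,
        (((z : Equiv.Perm icoLeech) x : icoLeech) : Fin 3 → ℍ[ℝ]) = -(x : Fin 3 → ℍ[ℝ])) :
    Nat.card (Subgroup.center twoJ2) = 2 := by
  obtain ⟨z, hz, hzx⟩ := hneg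
  have hne : z ≠ 1 := by
    rintro rfl
    have h := hzx e
    have h' : (e : Fin 3 → ℍ[ℝ]) = -(e : Fin 3 → ℍ[ℝ]) := h
    apply he
    have h2 : (2 : ℝ) • (e : Fin 3 → ℍ[ℝ]) = 0 := by
      rw [two_smul]
      nth_rewrite 2 [h']
      exact add_neg_cancel _
    exact (smul_eq_zero.1 h2).resolve_left two_ne_zero
  have hset : ((Subgroup.center twoJ2 : Subgroup twoJ2) : Set twoJ2) = {1, z} := by
    ext w
    constructor
    · intro hw
      rcases hcen w hw with h | h
      · left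
        apply Subtype.ext
        apply Equiv.ext
        intro x
        exact Subtype.ext (h x)
      · right
        apply Subtype.ext
        apply Equiv.ext
        intro x
        exact Subtype.ext ((h x).trans (hzx x).symm)
    · rintro (rfl | rfl)
      · exact Subgroup.one_mem _
      · exact hz
  have h2 : ((Subgroup.center twoJ2 : Subgroup twoJ2) : Set twoJ2).ncard = 2 := by
    rw [hset, Set.ncard_pair hne.symm]
  rw [← Nat.card_coe_set_eq] at h2
  exact h2

/-- The order of `J₂` from the orders of `2·J₂` and of its centre. -/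
theorem card_J2 (h1 : Nat.card twoJ2 = 1209600) (h2 : Nat.card (Subgroup.center twoJ2) = 2) :
    Nat.card J2 = 604800 := by
  have h := Subgroup.card_eq_card_quotient_mul_card_subgroup (Subgroup.center twoJ2)
  rw [h1, h2] at h
  have h' : Nat.card J2 * 2 = 1209600 := h.symm
  omega

end Cfsg.Agent.J2.OrderAssembly
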