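import Cfsg.Agent.J2.Lattice
import Cfsg.Agent.J2.OrderAssembly

/-!
# Linearity of the elements of `2·J₂` and its centre

Every element of `twoJ2` is the restriction to the icosian Leech lattice of a left-`ℍ`-linear isometry
of `ℍ³`. The central elements are `1` and negation.
-/

set_option autoImplicit false

open Quaternion

namespace Cfsg.Agent.J2.Center

open Cfsg.Spor Cfsg.Agent.J2.ZTau Cfsg.Agent.J2.Ico Cfsg.Agent.J2.Lattice

/-! ### Linear algebra of the Hermitian product and of the reflections -/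

theorem qip_add_left (x y r : Fin 3 → ℍ[ℝ]) : qip (x + y) r = qip x r + qip y r := by
  simp only [qip, Fin.sum_univ_three, Pi.add_apply, add_mul]; abel

theorem qip_smul_left (c : ℍ[ℝ]) (x r : Fin 3 → ℍ[ℝ]) : qip (c • x) r = c * qip x r := by
  simp only [qip, Fin.sum_univ_three, Pi.smul_apply, smul_eq_mul, mul_add, mul_assoc]

theorem qip_neg_left (x r : Fin 3 → ℍ[ℝ]) : qip (-x) r = -qip x r := by
  simp only [qip, Fin.sum_univ_three, Pi.neg_apply, neg_mul]; abel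

theorem star_qip (x y : Fin 3 → ℍ[ℝ]) : star (qip x y) = qip y x := by
  simp only [qip, Fin.sum_univ_three, star_add, star_mul, star_star]

theorem qip_sub_left (x y r : Fin 3 → ℍ[ℝ]) : qip (x - y) r = qip x r - qip y r := by
  rw [sub_eq_add_neg, qip_add_left, qip_neg_left, sub_eq_add_neg]

theorem qip_sub_right (x y r : Fin 3 → ℍ[ℝ]) : qip r (x - y) = qip r x - qip r y := by
  rw [← star_qip, qip_sub_left, star_sub, star_qip, star_qip]

theorem qip_smul_right (c : ℍ[ℝ]) (x r : Fin 3 → ℍ[ℝ]) : qip r (c • x) = qip r x * star c := by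
  rw [← star_qip, qip_smul_left, star_mul, star_qip]

theorem qrefl_eq (r x : Fin 3 → ℍ[ℝ]) : qrefl r x = x - ((1 / 2 : ℝ) • qip x r) • r := rfl

/-- The reflection as a linear map. -/
noncomputable def reflLin (r : Fin 3 → ℍ[ℝ]) : (Fin 3 → ℍ[ℝ]) →ₗ[ℍ[ℝ]] (Fin 3 → ℍ[ℝ]) where
  toFun := qrefl r
  map_add' x y := by
    rw [qrefl_eq, qrefl_eq, qrefl_eq, qip_add_left, smul_add, add_smul]; abel
  map_smul' c x := by
    rw [qrefl_eq, qrefl_eq, qip_smul_left, RingHom.id_apply, smul_sub, smul_smul,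
      mul_smul_comm]

theorem qip_qrefl (r : Fin 3 → ℍ[ℝ]) (hr : qip r r = 4) (x : Fin 3 → ℍ[ℝ]) :
    qip (qrefl r x) r = -qip x r := by
  rw [qrefl_eq, qip_sub_left, qip_smul_left, hr, smul_mul_assoc]
  have h4 : (4 : ℍ[ℝ]) = ((4 : ℝ) : ℍ[ℝ]) := by norm_cast
  rw [h4, Quaternion.mul_coe_eq_smul, smul_smul]
  norm_num
  rw [two_smul]; abel

theorem qrefl_qrefl (r : Fin 3 → ℍ[ℝ]) (hr : qip r r = 4) (x : Fin 3 → ℍ[ℝ]) :
    qrefl r (qrefl r x) = x := by
  rw [qrefl_eq r (qrefl r x), qip_qrefl r hr, qrefl_eq, smul_neg, neg_smul]; abel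

/-- The reflection as a linear equivalence. -/
noncomputable def reflEquiv (r : Fin 3 → ℍ[ℝ]) (hr : qip r r = 4) :
    (Fin 3 → ℍ[ℝ]) ≃ₗ[ℍ[ℝ]] (Fin 3 → ℍ[ℝ]) :=
  LinearEquiv.ofInvolutive (reflLin r) (qrefl_qrefl r hr)

theorem reflEquiv_apply (r : Fin 3 → ℍ[ℝ]) (hr : qip r r = 4) (x : Fin 3 → ℍ[ℝ]) :
    reflEquiv r hr x = qrefl r x := rfl

theorem qip_qrefl_qrefl (r : Fin 3 → ℍ[ℝ]) (hr : qip r r = 4) (x y : Fin 3 → ℍ[ℝ]) :
    qip (qrefl r x) (qrefl r y) = qip x y := by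
  have h1 : qip (qrefl r x) (qrefl r y) = qip (qrefl r x) y -
      qip (qrefl r x) r * star ((1 / 2 : ℝ) • qip y r) := by
    rw [qrefl_eq r y, qip_sub_right, qip_smul_right]
  rw [h1, qip_qrefl r hr, qrefl_eq r x, qip_sub_left, qip_smul_left, Quaternion.star_smul,
    star_qip, smul_mul_assoc, mul_smul_comm]
  simp

/-- Every element of `twoJ2` is the restriction of a linear isometry of `ℍ³`. -/
theorem exists_linear (g : Equiv.Perm icoLeech) (hg : g ∈ twoJ2) :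
    ∃ L : (Fin 3 → ℍ[ℝ]) ≃ₗ[ℍ[ℝ]] (Fin 3 → ℍ[ℝ]),
      (∀ x : icoLeech, (g x : Fin 3 → ℍ[ℝ]) = L (x : Fin 3 → ℍ[ℝ])) ∧
        ∀ x y, qip (L x) (L y) = qip x y := by
  induction hg using Subgroup.closure_induction with
  | mem f hf =>
    obtain ⟨r, hr, hfr⟩ := hf
    exact ⟨reflEquiv r hr, hfr, qip_qrefl_qrefl r hr⟩
  | one => exact ⟨LinearEquiv.refl _ _, fun _ => rfl, fun _ _ => rfl⟩
  | mul f g _ _ hf hg =>
    obtain ⟨L, hL, hL'⟩ := hf
    obtain ⟨M, hM, hM'⟩ := hg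
    refine ⟨M.trans L, fun x => ?_, fun x y => ?_⟩
    · rw [Equiv.Perm.mul_apply, hL, hM]; rfl
    · rw [LinearEquiv.trans_apply, LinearEquiv.trans_apply, hL', hM']
  | inv f _ hf =>
    obtain ⟨L, hL, hL'⟩ := hf
    refine ⟨L.symm, fun x => ?_, fun x y => ?_⟩
    · apply L.injective
      rw [LinearEquiv.apply_symm_apply, ← hL]
      exact congrArg Subtype.val (f.apply_symm_apply x)
    · rw [← hL', L.apply_symm_apply, L.apply_symm_apply]

/-! ### Reflections as elements of `twoJ2` -/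

theorem qrefl_mem (r x : Fin 3 → ℍ[ℝ]) (hr : r ∈ icoLeech) (hx : x ∈ icoLeech) :
    qrefl r x ∈ icoLeech := by
  obtain ⟨v, hv, rfl⟩ := mem_icoLeech.1 hr
  obtain ⟨w, hw, rfl⟩ := mem_icoLeech.1 hx
  rw [← toV_refl hv hw]
  exact toV_mem.2 (InLam.refl hv hw)

/-- The reflection in a minimal vector as a permutation of the lattice. -/
noncomputable def rperm (r : icoLeech) (hr : qip (r : Fin 3 → ℍ[ℝ]) r = 4) :
    Equiv.Perm icoLeech :=
  Function.Involutive.toPerm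
    (fun x => (⟨qrefl (r : Fin 3 → ℍ[ℝ]) x, qrefl_mem _ _ r.2 x.2⟩ : icoLeech))
    (fun _ => Subtype.ext (qrefl_qrefl _ hr _))

theorem rperm_apply (r : icoLeech) (hr : qip (r : Fin 3 → ℍ[ℝ]) r = 4) (x : icoLeech) :
    ((rperm r hr x : icoLeech) : Fin 3 → ℍ[ℝ]) = qrefl (r : Fin 3 → ℍ[ℝ]) x := rfl

theorem rperm_mem (r : icoLeech) (hr : qip (r : Fin 3 → ℍ[ℝ]) r = 4) : rperm r hr ∈ twoJ2 :=
  Subgroup.subset_closure ⟨r, hr, fun x => rperm_apply r hr x⟩

/-! ### Central elements -/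

theorem four_eq : (4 : ℍ[ℝ]) = ((4 : ℝ) : ℍ[ℝ]) := by norm_cast

theorem qrefl_self (r : Fin 3 → ℍ[ℝ]) (hr : qip r r = 4) : qrefl r r = -r := by
  have h : ((1 / 2 : ℝ) • (4 : ℍ[ℝ])) = 1 + 1 := by
    rw [four_eq, ← Quaternion.coe_smul, smul_eq_mul, one_add_one_eq_two]
    have : (1 / 2 * 4 : ℝ) = 2 := by norm_num
    rw [this]
    norm_cast
  rw [qrefl_eq, hr, h, add_smul, one_smul]; abel

/-- A linear map commuting with a reflection preserves the line of the root. -/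
theorem exists_scalar (r : Fin 3 → ℍ[ℝ]) (hr : qip r r = 4)
    (L : (Fin 3 → ℍ[ℝ]) ≃ₗ[ℍ[ℝ]] (Fin 3 → ℍ[ℝ])) (h : L (qrefl r r) = qrefl r (L r)) :
    ∃ c : ℍ[ℝ], L r = c • r := by
  rw [qrefl_self r hr, map_neg, qrefl_eq] at h
  refine ⟨(1 / 2 : ℝ) • ((1 / 2 : ℝ) • qip (L r) r), ?_⟩
  have h2 : L r + L r = ((1 / 2 : ℝ) • qip (L r) r) • r := by
    have := congrArg (fun t => L r + (((1 / 2 : ℝ) • qip (L r) r) • r) + t) h
    have e1 : L r + (((1 / 2 : ℝ) • qip (L r) r) • r) + -L r =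
      (((1 / 2 : ℝ) • qip (L r) r) • r) := by abel
    have e2 : L r + (((1 / 2 : ℝ) • qip (L r) r) • r) +
      (L r - (((1 / 2 : ℝ) • qip (L r) r) • r)) = L r + L r := by abel
    exact (e1.symm.trans (this.trans e2)).symm
  rw [smul_assoc (1 / 2 : ℝ), ← h2, ← two_smul ℝ (L r), smul_smul]
  norm_num

/-- The lattice vector of an integral root. -/
noncomputable def rt (v : Vec) (h : IsRoot v) : icoLeech := ⟨toV v, toV_mem.2 h.1⟩

theorem rt_coe (v : Vec) (h : IsRoot v) : (rt v h : Fin 3 → ℍ[ℝ]) = toV v := rfl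

theorem qip_rt (v : Vec) (h : IsRoot v) : qip (rt v h : Fin 3 → ℍ[ℝ]) (rt v h) = 4 :=
  (isRoot_iff_qip.1 h).2

theorem isRoot_of_check {v : Vec} (h1 : lamB v = true)
    (h2 : normZ v.x + normZ v.y + normZ v.z = ⟨4, 0⟩) : IsRoot v := by
  refine isRoot_iff.2 ⟨lamB_iff.1 h1, h2.trans ?_⟩
  exact Zt.ext (ofNat_a 4).symm (ofNat_b 4).symm

/-- the icosian 2 -/
def two : Icos := ⟨⟨2, 0⟩, 0, 0, 0⟩

theorem toQ_two : toQ two = 2 := by
  have h : two = ofZt ⟨2, 0⟩ := rfl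
  rw [h, toQ_ofZt]
  have : toR ⟨2, 0⟩ = 2 := by simp [toR_apply]
  rw [this]; norm_cast

/-- the quaternion unit j as an icosian -/
def eJ : Icos := ⟨⟨2, -1⟩, ⟨-1, 1⟩, 0, ⟨2, -2⟩⟩

theorem root1 : IsRoot ⟨two, 0, 0⟩ := isRoot_of_check (by decide) (by decide)
theorem root2 : IsRoot ⟨0, two, 0⟩ := isRoot_of_check (by decide) (by decide)
theorem root3 : IsRoot ⟨0, 0, two⟩ := isRoot_of_check (by decide) (by decide)
theorem root4 : IsRoot ⟨star hh, 1, 1⟩ := isRoot_of_check (by decide) (by decide)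
theorem root5 : IsRoot ⟨1, star hh, 1⟩ := isRoot_of_check (by decide) (by decide)
theorem root6 : IsRoot ⟨eI * star hh, 1, 1⟩ := isRoot_of_check (by decide) (by decide)
theorem root7 : IsRoot ⟨eJ * star hh, 1, 1⟩ := isRoot_of_check (by decide) (by decide)

/-- the quaternion unit j -/
def qJ : ℍ[ℝ] := ⟨0, 0, 1, 0⟩

theorem toQ_eJ : toQ eJ = qJ := by
  have ht := tau_sq
  ext
  · rw [toQ_re]; simp only [eJ, toR_apply, sig_eq, qJ, zero_a, zero_b]; push_cast
    linear_combination (-1 : ℝ) * ht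
  · rw [toQ_imI]; simp only [eJ, toR_apply, sig_eq, map_zero, qJ]; push_cast
    linear_combination (0 : ℝ) * ht
  · rw [toQ_imJ]; simp only [eJ, toR_apply, qJ]; push_cast; linear_combination (1 : ℝ) * ht
  · rw [toQ_imK]; simp only [eJ, map_zero, qJ]; ring

/-- A quaternion commuting with `i` and `j` is real. -/
theorem real_of_commute (c : ℍ[ℝ]) (hi : qI * c = c * qI) (hj : qJ * c = c * qJ) :
    c = ((c.re : ℝ) : ℍ[ℝ]) := by
  have h1 := congrArg QuaternionAlgebra.imK hi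
  have h2 := congrArg QuaternionAlgebra.imJ hi
  have h3 := congrArg QuaternionAlgebra.imK hj
  rw [Quaternion.imK_mul, Quaternion.imK_mul] at h1 h3
  rw [Quaternion.imJ_mul, Quaternion.imJ_mul] at h2
  simp only [qI, qJ] at h1 h2 h3
  ext
  · simp
  · simp; linarith
  · simp; linarith
  · simp; linarith

theorem half_smul_mul_two (q : ℍ[ℝ]) : ((1 / 2 : ℝ) • q) * 2 = q := by
  have h : (2 : ℍ[ℝ]) = ((2 : ℝ) : ℍ[ℝ]) := by norm_cast
  rw [h, Quaternion.mul_coe_eq_smul, smul_smul]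
  norm_num

/-- A linear isometry preserving all lines of roots is `±1`. -/
theorem eq_one_or_neg (L : (Fin 3 → ℍ[ℝ]) ≃ₗ[ℍ[ℝ]] (Fin 3 → ℍ[ℝ]))
    (hiso : ∀ x y, qip (L x) (L y) = qip x y)
    (h : ∀ v : Vec, IsRoot v → ∃ c : ℍ[ℝ], L (toV v) = c • toV v) :
    (∀ x, L x = x) ∨ ∀ x, L x = -x := by
  obtain ⟨c1, h1⟩ := h _ root1
  obtain ⟨c2, h2⟩ := h _ root2
  obtain ⟨c3, h3⟩ := h _ root3
  obtain ⟨c4, h4⟩ := h _ root4
  obtain ⟨c5, h5⟩ := h _ root5
  obtain ⟨c6, h6⟩ := h _ root6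
  obtain ⟨c7, h7⟩ := h _ root7
  have hx : ∀ x : Fin 3 → ℍ[ℝ], x = ((1 / 2 : ℝ) • x 0) • toV ⟨two, 0, 0⟩ +
      ((1 / 2 : ℝ) • x 1) • toV ⟨0, two, 0⟩ + ((1 / 2 : ℝ) • x 2) • toV ⟨0, 0, two⟩ := by
    intro x
    funext t
    fin_cases t
    · simp only [Fin.zero_eta, Pi.add_apply, Pi.smul_apply, smul_eq_mul, toV_zero', toQ_two,
        map_zero, mul_zero, add_zero, half_smul_mul_two]
    · simp only [Fin.mk_one, Pi.add_apply, Pi.smul_apply, smul_eq_mul, toV_one', toQ_two,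
        map_zero, mul_zero, add_zero, zero_add, half_smul_mul_two]
    · simp only [Fin.reduceFinMk, Pi.add_apply, Pi.smul_apply, smul_eq_mul, toV_two', toQ_two,
        map_zero, mul_zero, zero_add, half_smul_mul_two]
  have hL : ∀ x : Fin 3 → ℍ[ℝ], L x = ![x 0 * c1, x 1 * c2, x 2 * c3] := by
    intro x
    have hLx : L x = ((1 / 2 : ℝ) • x 0) • c1 • toV ⟨two, 0, 0⟩ +
      ((1 / 2 : ℝ) • x 1) • c2 • toV ⟨0, two, 0⟩ +
      ((1 / 2 : ℝ) • x 2) • c3 • toV ⟨0, 0, two⟩ := by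
      conv_lhs => rw [hx x, map_add, map_add, map_smul, map_smul, map_smul, h1, h2, h3]
    have hc : ∀ q c : ℍ[ℝ], ((1 / 2 : ℝ) • q) * (c * 2) = q * c := by
      intro q c
      rw [← mul_assoc, smul_mul_assoc, half_smul_mul_two]
    rw [hLx]
    funext t
    fin_cases t
    · simp only [Fin.zero_eta, Pi.add_apply, Pi.smul_apply, smul_eq_mul, toV_zero', toQ_two,
        map_zero, mul_zero, add_zero, hc]
      rfl
    · simp only [Fin.mk_one, Pi.add_apply, Pi.smul_apply, smul_eq_mul, toV_one', toQ_two,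
        map_zero, mul_zero, add_zero, zero_add, hc]
      rfl
    · simp only [Fin.reduceFinMk, Pi.add_apply, Pi.smul_apply, smul_eq_mul, toV_two', toQ_two,
        map_zero, mul_zero, zero_add, hc]
      rfl
  rw [hL] at h4 h5 h6 h7
  have h40 := congrFun h4 0
  have h41 := congrFun h4 1
  have h42 := congrFun h4 2
  have h50 := congrFun h5 0
  have h51 := congrFun h5 1
  have h52 := congrFun h5 2
  have h60 := congrFun h6 0
  have h61 := congrFun h6 1
  have h70 := congrFun h7 0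
  have h71 := congrFun h7 1
  simp [toV] at h40 h41 h42 h50 h51 h52 h60 h61 h70 h71
  have e3 : c3 = c1 := h52.trans h50.symm
  have e4 : c4 = c1 := h42.symm.trans e3
  have e2 : c2 = c1 := h41.trans e4
  have e6 : c6 = c1 := h61.symm.trans e2
  have e7 : c7 = c1 := h71.symm.trans e2
  rw [e4] at h40
  rw [e6, mul_assoc, h40, ← mul_assoc, ← mul_assoc] at h60
  rw [e7, mul_assoc, h40, ← mul_assoc, ← mul_assoc] at h70
  have hH : toQ (star hh) ≠ 0 := by
    rw [← map_zero toQ]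
    exact fun he => absurd (toQ_injective he) (by decide)
  have hi := mul_right_cancel₀ hH h60
  have hj := mul_right_cancel₀ hH h70
  rw [toQ_eI] at hi
  rw [toQ_eJ] at hj
  have hc := real_of_commute c1 hi hj
  have hn := hiso (toV ⟨two, 0, 0⟩) (toV ⟨two, 0, 0⟩)
  rw [h1, qip_smul_left, qip_smul_right, (isRoot_iff_qip.1 root1).2, hc, four_eq] at hn
  have hn' : c1.re * (4 * c1.re) = 4 := by
    have h0 := congrArg QuaternionAlgebra.re hn
    simpa using h0
  have hcc : c1.re = 1 ∨ c1.re = -1 := by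
    have : (c1.re - 1) * (c1.re + 1) = 0 := by linarith
    rcases mul_eq_zero.1 this with h | h
    · left; linarith
    · right; linarith
  rcases hcc with h | h
  · left
    intro x
    rw [hL, e2, e3, hc, h]
    funext t
    fin_cases t <;> simp
  · right
    intro x
    rw [hL, e2, e3, hc, h]
    funext t
    fin_cases t <;> simp

/-- Central elements of `twoJ2` are `1` or negation. -/
theorem center_cases (z : twoJ2) (hz : z ∈ Subgroup.center twoJ2) :
    (∀ x : icoLeech,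
        (((z : Equiv.Perm icoLeech) x : icoLeech) : Fin 3 → ℍ[ℝ]) = (x : Fin 3 → ℍ[ℝ])) ∨
      ∀ x : icoLeech,
        (((z : Equiv.Perm icoLeech) x : icoLeech) : Fin 3 → ℍ[ℝ]) = -(x : Fin 3 → ℍ[ℝ]) := by
  obtain ⟨L, hL, hL'⟩ := exists_linear z.1 z.2
  have key : ∀ v : Vec, IsRoot v → ∃ c : ℍ[ℝ], L (toV v) = c • toV v := by
    intro v hv
    refine exists_scalar (toV v) (isRoot_iff_qip.1 hv).2 L ?_
    have hcomm := Subgroup.mem_center_iff.1 hz ⟨rperm (rt v hv) (qip_rt v hv), rperm_mem _ _⟩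
    have h1 := congrArg (fun g : twoJ2 => (((g : Equiv.Perm icoLeech) (rt v hv) : icoLeech) :
      Fin 3 → ℍ[ℝ])) hcomm
    change ((rperm (rt v hv) (qip_rt v hv) (z.1 (rt v hv)) : icoLeech) : Fin 3 → ℍ[ℝ]) =
      ((z.1 (rperm (rt v hv) (qip_rt v hv) (rt v hv)) : icoLeech) : Fin 3 → ℍ[ℝ]) at h1
    rw [rperm_apply, hL, hL, rperm_apply, rt_coe] at h1
    exact h1.symm
  rcases eq_one_or_neg L hL' key with h | h
  · left; intro x; rw [hL, h]
  · right; intro x; rw [hL, h]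

/-- Negation is in `twoJ2`: it is the product of the reflections in three orthogonal roots. -/
theorem exists_neg_mem : ∃ z ∈ Subgroup.center twoJ2, ∀ x : icoLeech,
    (((z : Equiv.Perm icoLeech) x : icoLeech) : Fin 3 → ℍ[ℝ]) = -(x : Fin 3 → ℍ[ℝ]) := by
  let f1 := rperm (rt _ root1) (qip_rt _ root1)
  let f2 := rperm (rt _ root2) (qip_rt _ root2)
  let f3 := rperm (rt _ root3) (qip_rt _ root3)
  have hmem : f1 * (f2 * f3) ∈ twoJ2 :=
    mul_mem (rperm_mem _ _) (mul_mem (rperm_mem _ _) (rperm_mem _ _))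
  have hval : ∀ x : icoLeech, (((f1 * (f2 * f3)) x : icoLeech) : Fin 3 → ℍ[ℝ]) =
      -(x : Fin 3 → ℍ[ℝ]) := by
    intro x
    rw [Equiv.Perm.mul_apply, Equiv.Perm.mul_apply, rperm_apply, rperm_apply, rperm_apply,
      rt_coe, rt_coe, rt_coe]
    generalize (x : Fin 3 → ℍ[ℝ]) = y
    have h4 : ∀ q : ℍ[ℝ], q - (2⁻¹ : ℝ) • (q * 2 * 2) = -q := by
      intro q
      rw [mul_two, mul_two, ← two_smul ℝ (q + q), smul_smul]
      norm_num
    funext t
    fin_cases t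
    · simp [qrefl, qip, Fin.sum_univ_three, toV, toQ_two]
      exact h4 _
    · simp [qrefl, qip, Fin.sum_univ_three, toV, toQ_two]
      exact h4 _
    · simp [qrefl, qip, Fin.sum_univ_three, toV, toQ_two]
      exact h4 _
  refine ⟨⟨f1 * (f2 * f3), hmem⟩, ?_, hval⟩
  rw [Subgroup.mem_center_iff]
  intro g
  obtain ⟨L, hL, hL'⟩ := exists_linear g.1 g.2
  apply Subtype.ext
  apply Equiv.ext
  intro x
  apply Subtype.ext
  change ((g.1 ((f1 * (f2 * f3)) x) : icoLeech) : Fin 3 → ℍ[ℝ]) =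
    (((f1 * (f2 * f3)) (g.1 x) : icoLeech) : Fin 3 → ℍ[ℝ])
  rw [hval, hL, hL, hval, map_neg]

/-- The centre of `2·J₂` has order 2. -/
theorem card_center : Nat.card (Subgroup.center twoJ2) = 2 := by
  refine Cfsg.Agent.J2.OrderAssembly.card_center (rt _ root1) ?_ exists_neg_mem center_cases
  intro h
  have h0 := congrFun h 0
  rw [rt_coe, toV_zero'] at h0
  have h1 : toQ two = toQ 0 := h0.trans (map_zero toQ).symm
  exact absurd (toQ_injective h1) (by decide)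

end Cfsg.Agent.J2.Center
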