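import Cfsg.Agent.J2.Shapes
import Cfsg.Agent.J2.Units

/-!
# Transitivity of the reflection group on the roots (up to units)
-/

set_option autoImplicit false
set_option linter.unusedSimpArgs false

open Quaternion

namespace Cfsg.Agent.J2.Conj

open Cfsg.Spor Cfsg.Agent.J2.ZTau Cfsg.Agent.J2.Ico Cfsg.Agent.J2.Lattice Cfsg.Agent.J2.Refl
  Cfsg.Agent.J2.Group Cfsg.Agent.J2.Norm Cfsg.Agent.J2.Shapes Cfsg.Agent.J2.Units

/-- `r` is a root that `W` moves to a unit multiple of `s`. -/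
def Lk (r s : Vec) : Prop :=
  ∃ (hr : IsRoot r) (g : Equiv.Perm Lam) (u : Icos), g ∈ W ∧ nrm u = 1 ∧
    ((g (pt hr) : Lam) : Vec) = u • s

theorem Lk.rfl' {r : Vec} (hr : IsRoot r) : Lk r r :=
  ⟨hr, 1, 1, one_mem _, nrm_one, by rw [one_smul]; rfl⟩

theorem star_mul_one {u : Icos} (hu : nrm u = 1) : star u * u = 1 := (unit_of_nrm hu).2
theorem mul_star_one {u : Icos} (hu : nrm u = 1) : u * star u = 1 := (unit_of_nrm hu).1

theorem Lk.symm {r s : Vec} (h : Lk r s) (hs : IsRoot s) : Lk s r := by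
  obtain ⟨hr, g, u, hg, hu, h⟩ := h
  refine ⟨hs, g⁻¹, star u, inv_mem hg, by rw [nrm_star, hu], ?_⟩
  have e : pt hs = star u • g (pt hr) := by
    apply Subtype.ext
    rw [Submodule.coe_smul, h, smul_smul, star_mul_one hu, one_smul]
    rfl
  rw [e, W_smul (inv_mem hg)]
  have e2 : g⁻¹ (g (pt hr)) = pt hr := by
    rw [← Equiv.Perm.mul_apply, inv_mul_cancel, Equiv.Perm.one_apply]
  rw [e2, Submodule.coe_smul]
  rfl

theorem Lk.trans {r s t : Vec} (h : Lk r s) (h' : Lk s t) : Lk r t := by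
  obtain ⟨hr, g, u, hg, hu, h⟩ := h
  obtain ⟨hs, g', u', hg', hu', h'⟩ := h'
  refine ⟨hr, g' * g, u * u', mul_mem hg' hg, by rw [nrm_mul, hu, hu', one_mul], ?_⟩
  have e : g (pt hr) = u • pt hs := Subtype.ext (by rw [Submodule.coe_smul, h]; rfl)
  rw [Equiv.Perm.mul_apply, e, W_smul hg', Submodule.coe_smul, h', smul_smul]

theorem Lk.smul {r s : Vec} (h : Lk r s) {c : Icos} (hc : nrm c = 1) : Lk r (c • s) := by
  obtain ⟨hr, g, u, hg, hu, h⟩ := h
  refine ⟨hr, g, u * star c, hg, by rw [nrm_mul, nrm_star, hu, hc, one_mul], ?_⟩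
  rw [h, smul_smul, mul_assoc, star_mul_one hc, mul_one]

theorem Lk.isRoot {r s : Vec} (h : Lk r s) : IsRoot s := by
  obtain ⟨hr, g, u, hg, hu, h⟩ := h
  have h1 := W_isRoot hg hr
  rw [h] at h1
  have h2 := isRoot_smul h1 (u := star u) (by rw [star_star]; exact star_mul_one hu)
  rwa [smul_smul, star_mul_one hu, one_smul] at h2

/-- The reflections in linked roots are conjugate. -/
theorem Lk.conj {r s : Vec} (h : Lk r s) (hr : IsRoot r) (hs : IsRoot s) :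
    ∃ g ∈ W, g * rf r hr * g⁻¹ = rf s hs := by
  obtain ⟨hr, g, u, hg, hu, h⟩ := h
  refine ⟨g, hg, ?_⟩
  rw [conj_rf hg hr, rf_congr (W_isRoot hg hr) (isRoot_smul hs (mul_star_one hu)) h,
    rf_smul hs (mul_star_one hu)]

/-! ### two reflections -/

theorem step_r {r s : Vec} (hr : IsRoot r) (hs : IsRoot s) (a b : Icos) :
    refl r (a • r + b • s) = (-a - b * hip s r) • r + b • s := by
  unfold Lattice.refl
  rw [hip_add_left (hr.1.smul a) (hs.1.smul b) hr.1, hip_smul_left a hr.1 hr.1,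
    hip_smul_left b hs.1 hr.1, hip_self hr, mul_two, sub_smul, neg_smul, add_smul, add_smul]
  abel

theorem step_s {r s : Vec} (hr : IsRoot r) (hs : IsRoot s) (a b : Icos) :
    refl s (a • r + b • s) = a • r + (-b - a * star (hip s r)) • s := by
  unfold Lattice.refl
  rw [hip_add_left (hr.1.smul a) (hs.1.smul b) hs.1, hip_smul_left a hr.1 hs.1,
    hip_smul_left b hs.1 hs.1, hip_self hs, mul_two, ← star_hip hs.1 hr.1, sub_smul, neg_smul,
    add_smul, add_smul]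
  abel

theorem two_steps {r s : Vec} (hr : IsRoot r) (hs : IsRoot s) :
    refl r (refl s r) = (ofZt (nrm (hip s r)) - 1) • r + (-star (hip s r)) • s := by
  have h0 : r = (1 : Icos) • r + (0 : Icos) • s := by rw [one_smul, zero_smul, add_zero]
  have h1 : refl s r = (1 : Icos) • r + (-star (hip s r)) • s := by
    conv_lhs => rw [h0]
    rw [step_s hr hs, neg_zero, zero_sub, one_mul]
  rw [h1, step_r hr hs]
  congr 2
  rw [neg_mul, star_mul_eq]
  abel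

theorem four_steps {r s : Vec} (hr : IsRoot r) (hs : IsRoot s) :
    refl r (refl s (refl r (refl s r))) =
      (ofZt (nrm (hip s r) * nrm (hip s r) - 3 * nrm (hip s r) + 1)) • r +
      ((2 - ofZt (nrm (hip s r))) * star (hip s r)) • s := by
  rw [two_steps hr hs, step_s hr hs, step_r hr hs]
  have e1 : - -star (hip s r) - (ofZt (nrm (hip s r)) - 1) * star (hip s r) =
      (2 - ofZt (nrm (hip s r))) * star (hip s r) := by noncomm_ring
  rw [e1]
  congr 2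
  rw [mul_assoc, star_mul_eq]
  generalize nrm (hip s r) = n
  have h3 : ofZt (3 * n) = 3 * ofZt n := by
    rw [ofZt_mul]; rfl
  rw [ofZt_add, ofZt_sub, ofZt_mul, h3, ofZt_one]
  noncomm_ring

theorem lk_of_nrm_one {r s : Vec} (hr : IsRoot r) (hs : IsRoot s) (h : nrm (hip s r) = 1) :
    Lk r s := by
  refine ⟨hr, rf r hr * rf s hs, -star (hip s r), mul_mem (rf_mem _) (rf_mem _),
    by rw [nrm_neg, nrm_star, h], ?_⟩
  rw [Equiv.Perm.mul_apply, rf_apply, rf_apply, pt_val, two_steps hr hs, h, ofZt_one, sub_self,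
    zero_smul, zero_add]

theorem lk_of_nrm_quad {r s : Vec} (hr : IsRoot r) (hs : IsRoot s)
    (h : nrm (hip s r) * nrm (hip s r) - 3 * nrm (hip s r) + 1 = 0) :
    Lk r s := by
  refine ⟨hr, rf r hr * rf s hs * (rf r hr * rf s hs), (2 - ofZt (nrm (hip s r))) * star (hip s r),
    mul_mem (mul_mem (rf_mem _) (rf_mem _)) (mul_mem (rf_mem _) (rf_mem _)), ?_, ?_⟩
  · rw [nrm_mul, nrm_star]
    have e : nrm (2 - ofZt (nrm (hip s r))) = (2 - nrm (hip s r)) * (2 - nrm (hip s r)) := by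
      rw [← ofZt_two, ← ofZt_sub]
      generalize 2 - nrm (hip s r) = m
      rw [nrm_def]; simp only [ofZt]; ring
    rw [e]
    generalize nrm (hip s r) = n at h
    linear_combination (n - 1) * h
  · rw [Equiv.Perm.mul_apply, Equiv.Perm.mul_apply, Equiv.Perm.mul_apply, rf_apply, rf_apply,
      rf_apply, rf_apply, pt_val, four_steps hr hs, h, ofZt_zero, zero_smul, zero_add]

/-- `1`, `τ²` or `σ²` -/
def good (n : Zt) : Bool := decide (n = ⟨1, 0⟩) || (decide (n = ⟨1, 1⟩) || decide (n = ⟨2, -1⟩))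

theorem good_iff {n : Zt} : good n = true ↔ n = 1 ∨ n = ⟨1, 1⟩ ∨ n = ⟨2, -1⟩ := by
  have h1 : (1 : Zt) = ⟨1, 0⟩ := rfl
  rw [good, Bool.or_eq_true, Bool.or_eq_true, decide_eq_true_iff, decide_eq_true_iff,
    decide_eq_true_iff, h1]

theorem lk_of_good {r s : Vec} (hr : IsRoot r) (hs : IsRoot s)
    (h : nrm (hip s r) = 1 ∨ nrm (hip s r) = ⟨1, 1⟩ ∨ nrm (hip s r) = ⟨2, -1⟩) : Lk r s := by
  rcases h with h | h | h
  · exact lk_of_nrm_one hr hs h
  · exact lk_of_nrm_quad hr hs (by rw [h]; decide)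
  · exact lk_of_nrm_quad hr hs (by rw [h]; decide)

theorem lk_e1 {s : Vec} (hs : IsRoot s) (h : nrm s.x = 1) : Lk e1 s :=
  lk_of_nrm_one root_e1 hs (by rw [hip_e1, h])
theorem lk_e2 {s : Vec} (hs : IsRoot s) (h : nrm s.y = 1) : Lk e2 s :=
  lk_of_nrm_one root_e2 hs (by rw [hip_e2, h])
theorem lk_e3 {s : Vec} (hs : IsRoot s) (h : nrm s.z = 1) : Lk e3 s :=
  lk_of_nrm_one root_e3 hs (by rw [hip_e3, h])

/-- the root (1, h̄, 1) -/
def q13 : Vec := ⟨1, star hh, 1⟩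
/-- the root (1, 1, h̄) -/
def q12 : Vec := ⟨1, 1, star hh⟩

theorem root_q13 : IsRoot q13 := rootB_iff.1 (by decide)
theorem root_q12 : IsRoot q12 := rootB_iff.1 (by decide)

theorem lk_e1_e3 : Lk e1 e3 :=
  (lk_e1 root_q13 nrm_one).trans ((lk_e3 root_q13 nrm_one).symm root_q13)
theorem lk_e1_e2 : Lk e1 e2 :=
  (lk_e1 root_q12 nrm_one).trans ((lk_e2 root_q12 nrm_one).symm root_q12)

/-- two auxiliary roots of shape (1, τ², σ²) -/
def t1 : Vec := ⟨⟨⟨-2, 1⟩, ⟨-1, 0⟩, ⟨1, -1⟩, ⟨-1, 1⟩⟩, ⟨⟨-1, 0⟩, ⟨-1, 1⟩, ⟨2, 0⟩, ⟨0, 0⟩⟩,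
  ⟨⟨3, -2⟩, ⟨0, 0⟩, ⟨-2, 1⟩, ⟨2, -1⟩⟩⟩
/-- two auxiliary roots of shape (1, τ², σ²) -/
def t2 : Vec := ⟨⟨⟨-2, 1⟩, ⟨-1, 0⟩, ⟨1, -1⟩, ⟨-1, 1⟩⟩, ⟨⟨-1, 0⟩, ⟨-1, 1⟩, ⟨2, 0⟩, ⟨0, 0⟩⟩,
  ⟨⟨-3, 2⟩, ⟨0, 0⟩, ⟨2, -1⟩, ⟨-2, 1⟩⟩⟩

theorem root_t1 : IsRoot t1 := rootB_iff.1 (by decide)
theorem root_t2 : IsRoot t2 := rootB_iff.1 (by decide)
theorem lk_e1_t1 : Lk e1 t1 := lk_e1 root_t1 (by decide)
theorem lk_e1_t2 : Lk e1 t2 := lk_e1 root_t2 (by decide)

theorem check22 : ∀ w ∈ units, ∀ v ∈ [(⟨hh, w * hh, 0⟩ : Vec), ⟨hh, 0, w * hh⟩, ⟨0, hh, w * hh⟩],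
    lamB v = true → good (nrm (hip v t1)) = true ∨ good (nrm (hip v t2)) = true := by
  decide +kernel

theorem lk_of_check {v : Vec} (hv : IsRoot v)
    (h : good (nrm (hip v t1)) = true ∨ good (nrm (hip v t2)) = true) : Lk e1 v := by
  rcases h with h | h
  · exact lk_e1_t1.trans (lk_of_good root_t1 hv (good_iff.1 h))
  · exact lk_e1_t2.trans (lk_of_good root_t2 hv (good_iff.1 h))

theorem lk_smul_of {a : Icos} (ha : nrm a = 1) {v w : Vec} (hv : IsRoot v) (e : v = a • w)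
    (h : IsRoot w → Lk e1 w) : Lk e1 v := by
  have hw : w = star a • v := by rw [e, smul_smul, star_mul_one ha, one_smul]
  have hw' : IsRoot w := by
    rw [hw]; exact isRoot_smul hv (by rw [star_star]; exact star_mul_one ha)
  rw [e]
  exact (h hw').smul ha

/-- `W` is transitive on the roots up to units. -/
theorem lk_all {v : Vec} (hv : IsRoot v) : Lk e1 v := by
  rcases shapes hv with h | ⟨a, b, ha, hb, e⟩ | ⟨a, b, ha, hb, e⟩ | ⟨a, b, ha, hb, e⟩ |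
    ⟨c, hc, e⟩ | ⟨c, hc, e⟩ | ⟨c, hc, e⟩
  · rcases h with ⟨h1, h2, h3⟩ | ⟨h1, h2, h3⟩ | ⟨h1, h2, h3⟩ | ⟨h1, h2, h3⟩ | ⟨h1, h2, h3⟩ |
      ⟨h1, h2, h3⟩ | ⟨h1, h2, h3⟩ | ⟨h1, h2, h3⟩ | ⟨h1, h2, h3⟩
    · exact lk_e1_e2.trans (lk_e2 hv h2)
    · exact lk_e1 hv h1
    · exact lk_e1 hv h1
    · exact lk_e1 hv h1
    · exact lk_e1 hv h1
    · exact lk_e1_e2.trans (lk_e2 hv h2)
    · exact lk_e1_e2.trans (lk_e2 hv h2)
    · exact lk_e1_e3.trans (lk_e3 hv h3)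
    · exact lk_e1_e3.trans (lk_e3 hv h3)
  · have hw : star a * b ∈ units := mem_units_iff.2 (by rw [nrm_mul, nrm_star, ha, hb, one_mul])
    have e' : v = a • (⟨hh, (star a * b) * hh, 0⟩ : Vec) := by
      rw [e]; ext1
      · rfl
      · rw [smul_y, ← mul_assoc, ← mul_assoc, mul_star_one ha, one_mul]
      · rw [smul_z, mul_zero]
    refine lk_smul_of ha hv e' (fun hr => lk_of_check hr ?_)
    exact check22 _ hw _ (by simp) (lamB_iff.2 hr.1)
  · have hw : star a * b ∈ units := mem_units_iff.2 (by rw [nrm_mul, nrm_star, ha, hb, one_mul])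
    have e' : v = a • (⟨hh, 0, (star a * b) * hh⟩ : Vec) := by
      rw [e]; ext1
      · rfl
      · rw [smul_y, mul_zero]
      · rw [smul_z, ← mul_assoc, ← mul_assoc, mul_star_one ha, one_mul]
    refine lk_smul_of ha hv e' (fun hr => lk_of_check hr ?_)
    exact check22 _ hw _ (by simp) (lamB_iff.2 hr.1)
  · have hw : star a * b ∈ units := mem_units_iff.2 (by rw [nrm_mul, nrm_star, ha, hb, one_mul])
    have e' : v = a • (⟨0, hh, (star a * b) * hh⟩ : Vec) := by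
      rw [e]; ext1
      · rw [smul_x, mul_zero]
      · rfl
      · rw [smul_z, ← mul_assoc, ← mul_assoc, mul_star_one ha, one_mul]
    refine lk_smul_of ha hv e' (fun hr => lk_of_check hr ?_)
    exact check22 _ hw _ (by simp) (lamB_iff.2 hr.1)
  · rw [e]; exact (Lk.rfl' root_e1).smul hc
  · rw [e]; exact lk_e1_e2.smul hc
  · rw [e]; exact lk_e1_e3.smul hc

/-- All reflections are conjugate in `W`. -/
theorem rf_conj {r s : Vec} (hr : IsRoot r) (hs : IsRoot s) :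
    ∃ g ∈ W, g * rf r hr * g⁻¹ = rf s hs :=
  (((lk_all hr).symm hr).trans (lk_all hs)).conj hr hs

end Cfsg.Agent.J2.Conj
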