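import Cfsg.Agent.J2.Stab
import Cfsg.Agent.J2.Conj

/-!
# `W` is transitive on the roots (as vectors)
-/

set_option autoImplicit false

open Quaternion

namespace Cfsg.Agent.J2.UnitOrbit

open Cfsg.Spor Cfsg.Agent.J2.ZTau Cfsg.Agent.J2.Ico Cfsg.Agent.J2.Lattice Cfsg.Agent.J2.Refl
  Cfsg.Agent.J2.Norm Cfsg.Agent.J2.Units Cfsg.Agent.J2.Group Cfsg.Agent.J2.Stab

/-- Some element of `W` maps `e1` to `u e1`. -/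
def Good (u : Icos) : Prop := ∃ g ∈ W, (g l1 : Vec) = u • e1

theorem Good.mul {u v : Icos} (hu : Good u) (hv : Good v) : Good (u * v) := by
  obtain ⟨g, hg, h⟩ := hu
  obtain ⟨g', hg', h'⟩ := hv
  refine ⟨g' * g, mul_mem hg' hg, ?_⟩
  have e : g l1 = u • l1 := Subtype.ext (by rw [Submodule.coe_smul, h, l1_val])
  rw [Equiv.Perm.mul_apply, e, W_smul hg', Submodule.coe_smul, h', smul_smul]

theorem good_one : Good 1 := ⟨1, one_mem _, by rw [Equiv.Perm.one_apply, l1_val, one_smul]⟩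

theorem good_two (r s : Vec) (u : Icos) (hr : rootB r = true) (hs : rootB s = true)
    (h : refl s (refl r e1) = u • e1) : Good u :=
  ⟨rf s (rootB_iff.1 hs) * rf r (rootB_iff.1 hr), mul_mem (rf_mem _) (rf_mem _), by
    rw [Equiv.Perm.mul_apply, rf_apply, rf_apply, l1_val, h]⟩

theorem good_three (r s t : Vec) (u : Icos) (hr : rootB r = true) (hs : rootB s = true)
    (ht : rootB t = true) (h : refl t (refl s (refl r e1)) = u • e1) : Good u :=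
  ⟨rf t (rootB_iff.1 ht) * (rf s (rootB_iff.1 hs) * rf r (rootB_iff.1 hr)),
    mul_mem (rf_mem _) (mul_mem (rf_mem _) (rf_mem _)), by
    rw [Equiv.Perm.mul_apply, Equiv.Perm.mul_apply, rf_apply, rf_apply, rf_apply, l1_val, h]⟩

/-- `½(-1+i+j+k)`, of order 3 -/
def uW : Icos := ⟨⟨1, -1⟩, ⟨1, 0⟩, ⟨-1, 1⟩, ⟨1, -1⟩⟩

/-- a unit of order 10 -/
def uZ : Icos := ⟨⟨1, 0⟩, ⟨1, -1⟩, ⟨-2, 1⟩, ⟨0, 0⟩⟩

theorem good_i : Good uI :=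
  good_two ⟨hh, -hh, 0⟩ ⟨hh, hh * uI, 0⟩ uI (by decide) (by decide) (by decide)

theorem good_j : Good uJ :=
  good_two ⟨hh, -hh, 0⟩ ⟨hh, hh * uJ, 0⟩ uJ (by decide) (by decide) (by decide)

theorem good_w : Good uW :=
  good_three
    ⟨⟨⟨-1, 0⟩, ⟨0, 0⟩, ⟨0, 0⟩, ⟨0, 0⟩⟩, ⟨⟨1, 0⟩, ⟨0, -1⟩, ⟨-1, 0⟩, ⟨1, 0⟩⟩,
      ⟨⟨-3, 2⟩, ⟨-1, 1⟩, ⟨2, -1⟩, ⟨-2, 1⟩⟩⟩
    ⟨⟨⟨0, -1⟩, ⟨-1, 0⟩, ⟨0, 0⟩, ⟨1, 0⟩⟩, ⟨⟨-1, 1⟩, ⟨-2, 1⟩, ⟨3, -2⟩, ⟨0, 0⟩⟩,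
      ⟨⟨0, 0⟩, ⟨2, -2⟩, ⟨-2, 1⟩, ⟨-1, 1⟩⟩⟩
    ⟨⟨⟨-1, 0⟩, ⟨-1, 0⟩, ⟨0, 0⟩, ⟨0, 0⟩⟩, ⟨⟨-1, 0⟩, ⟨-1, 0⟩, ⟨0, 0⟩, ⟨0, 0⟩⟩,
      ⟨⟨0, 0⟩, ⟨0, 0⟩, ⟨0, 0⟩, ⟨0, 0⟩⟩⟩ uW (by decide) (by decide) (by decide) (by decide)

theorem good_z : Good uZ :=
  good_three
    ⟨⟨⟨-1, 0⟩, ⟨0, 0⟩, ⟨0, 0⟩, ⟨0, 0⟩⟩, ⟨⟨-1, 0⟩, ⟨1, 0⟩, ⟨-1, 1⟩, ⟨-1, 1⟩⟩,
      ⟨⟨1, 0⟩, ⟨0, 0⟩, ⟨0, 0⟩, ⟨0, 0⟩⟩⟩
    ⟨⟨⟨-1, 0⟩, ⟨0, 0⟩, ⟨0, 0⟩, ⟨0, 0⟩⟩, ⟨⟨1, -1⟩, ⟨-1, 1⟩, ⟨1, -1⟩, ⟨1, -1⟩⟩,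
      ⟨⟨-1, 1⟩, ⟨-2, 1⟩, ⟨2, -2⟩, ⟨0, 0⟩⟩⟩
    ⟨⟨⟨-1, 0⟩, ⟨0, 0⟩, ⟨0, 0⟩, ⟨0, 0⟩⟩, ⟨⟨-1, 0⟩, ⟨0, 0⟩, ⟨0, 0⟩, ⟨0, 0⟩⟩,
      ⟨⟨1, 0⟩, ⟨1, 0⟩, ⟨-1, 1⟩, ⟨1, -1⟩⟩⟩ uZ (by decide) (by decide) (by decide) (by decide)

/-- list of powers of `u`: `[1, u, u², …, u^(n-1)]` -/
def pws (u : Icos) : ℕ → List Icos
  | 0 => []
  | n + 1 => 1 :: (pws u n).map (fun x => u * x)

theorem good_pws {u : Icos} (hu : Good u) (n : ℕ) : ∀ x ∈ pws u n, Good x := by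
  induction n with
  | zero => intro x hx; exact absurd hx (by simp [pws])
  | succ n ih =>
    intro x hx
    simp only [pws, List.mem_cons, List.mem_map] at hx
    rcases hx with rfl | ⟨y, hy, rfl⟩
    · exact good_one
    · exact hu.mul (ih y hy)

/-- products -/
def lmulL (l l' : List Icos) : List Icos := l.flatMap fun x => l'.map fun y => x * y

theorem good_lmulL {l l' : List Icos} (h : ∀ x ∈ l, Good x) (h' : ∀ x ∈ l', Good x) :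
    ∀ x ∈ lmulL l l', Good x := by
  intro x hx
  simp only [lmulL, List.mem_flatMap, List.mem_map] at hx
  obtain ⟨a, ha, b, hb, rfl⟩ := hx
  exact (h a ha).mul (h' b hb)

theorem units_covered : ∀ u ∈ units,
    u ∈ lmulL (lmulL (lmulL (pws uI 4) (pws uJ 2)) (pws uW 3)) (pws uZ 5) := by
  decide +kernel

theorem good_all {u : Icos} (hu : nrm u = 1) : Good u := by
  have h := units_covered u (mem_units_iff.2 hu)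
  exact good_lmulL (good_lmulL (good_lmulL (good_pws good_i 4) (good_pws good_j 2))
    (good_pws good_w 3)) (good_pws good_z 5) u h

/-- For every unit `u` some element of `W` maps `(2,0,0)` to `u (2,0,0)`. -/
theorem exists_unit {u : Icos} (hu : nrm u = 1) : ∃ g ∈ W, g l1 = u • l1 := by
  obtain ⟨g, hg, h⟩ := good_all hu
  exact ⟨g, hg, Subtype.ext (by rw [Submodule.coe_smul, h, l1_val])⟩

/-- `W` is transitive on the roots. -/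
theorem trans_roots {v : Vec} (hv : IsRoot v) : ∃ g ∈ W, (g l1 : Vec) = v := by
  obtain ⟨hr, g, u, hg, hu, h⟩ := (Cfsg.Agent.J2.Conj.lk_all hv)
  obtain ⟨k, hk, h'⟩ := exists_unit (u := star u) (by rw [nrm_star, hu])
  refine ⟨g * k, mul_mem hg hk, ?_⟩
  rw [Equiv.Perm.mul_apply, h', W_smul hg, Submodule.coe_smul]
  change star u • (g (pt hr) : Vec) = v
  rw [h, smul_smul, (unit_of_nrm hu).2, one_smul]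

end Cfsg.Agent.J2.UnitOrbit
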