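import Cfsg.Agent.J2.Refl

/-!
# The reflection group `W ≅ twoJ2`: linearity, conjugation, centre, comparison with `twoJ2` and `J2`
-/

set_option autoImplicit false
set_option linter.unusedSimpArgs false

open Quaternion

namespace Cfsg.Agent.J2.Group

open Cfsg.Spor Cfsg.Agent.J2.ZTau Cfsg.Agent.J2.Ico Cfsg.Agent.J2.Lattice Cfsg.Agent.J2.Refl

theorem rf_add {r : Vec} (hr : IsRoot r) (u v : Lam) :
    rf r hr (u + v) = rf r hr u + rf r hr v := by
  apply Subtype.ext
  rw [rf_apply, Submodule.coe_add, Submodule.coe_add, rf_apply, rf_apply]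
  exact refl_add hr.1 u.2 v.2

theorem rf_smul_vec {r : Vec} (hr : IsRoot r) (c : Icos) (v : Lam) :
    rf r hr (c • v) = c • rf r hr v := by
  apply Subtype.ext
  rw [rf_apply, Submodule.coe_smul, Submodule.coe_smul, rf_apply]
  exact refl_smul hr.1 c v.2

theorem W_add {g : Equiv.Perm Lam} (hg : g ∈ W) (u v : Lam) : g (u + v) = g u + g v := by
  revert u v
  refine W_induction (p := fun g => ∀ u v : Lam, g (u + v) = g u + g v) (fun _ _ => rfl) ?_ hg
  intro r hr g _ ih u v
  rw [Equiv.Perm.mul_apply, ih, Equiv.Perm.mul_apply, Equiv.Perm.mul_apply]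
  exact rf_add hr (g u) (g v)

theorem W_smul {g : Equiv.Perm Lam} (hg : g ∈ W) (c : Icos) (v : Lam) : g (c • v) = c • g v := by
  revert c v
  refine W_induction (p := fun g => ∀ (c : Icos) (v : Lam), g (c • v) = c • g v)
    (fun _ _ => rfl) ?_ hg
  intro r hr g _ ih c v
  rw [Equiv.Perm.mul_apply, ih, Equiv.Perm.mul_apply]
  exact rf_smul_vec hr c (g v)

theorem W_ip {g : Equiv.Perm Lam} (hg : g ∈ W) (u v : Lam) :
    ip (g u : Vec) (g v : Vec) = ip (u : Vec) (v : Vec) := by
  revert u v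
  refine W_induction (p := fun g => ∀ u v : Lam, ip (g u : Vec) (g v : Vec) = ip (u : Vec) (v : Vec))
    (fun _ _ => rfl) ?_ hg
  intro r hr g _ ih u v
  rw [Equiv.Perm.mul_apply, Equiv.Perm.mul_apply]
  rw [← ih u v]
  exact ip_refl_refl hr (g u).2 (g v).2

theorem W_hip {g : Equiv.Perm Lam} (hg : g ∈ W) (u v : Lam) :
    hip (g u : Vec) (g v : Vec) = hip (u : Vec) (v : Vec) := by
  unfold hip; rw [W_ip hg]

theorem W_neg {g : Equiv.Perm Lam} (hg : g ∈ W) (v : Lam) : g (-v) = -g v := by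
  have h := W_smul hg (-1) v
  rwa [neg_one_smul, neg_one_smul] at h

theorem W_sub {g : Equiv.Perm Lam} (hg : g ∈ W) (u v : Lam) : g (u - v) = g u - g v := by
  rw [sub_eq_add_neg, W_add hg, W_neg hg, ← sub_eq_add_neg]

/-- the lattice point of a root -/
noncomputable def pt {r : Vec} (hr : IsRoot r) : Lam := ⟨r, hr.1⟩

theorem pt_val {r : Vec} (hr : IsRoot r) : (pt hr : Vec) = r := rfl

theorem W_isRoot {g : Equiv.Perm Lam} (hg : g ∈ W) {r : Vec} (hr : IsRoot r) :
    IsRoot (g (pt hr) : Vec) :=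
  ⟨(g (pt hr)).2, by rw [W_ip hg, pt_val]; exact hr.2⟩

/-- `g f_r g⁻¹ = f_{g r}` -/
theorem conj_rf {g : Equiv.Perm Lam} (hg : g ∈ W) {r : Vec} (hr : IsRoot r) :
    g * rf r hr * g⁻¹ = rf (g (pt hr) : Vec) (W_isRoot hg hr) := by
  ext1 v
  rw [Equiv.Perm.mul_apply, Equiv.Perm.mul_apply]
  apply Subtype.ext
  rw [rf_apply]
  have e : rf r hr (g⁻¹ v) = g⁻¹ v - hip ((g⁻¹ v : Lam) : Vec) r • pt hr := Subtype.ext rfl
  rw [e, W_sub hg, W_smul hg]
  have e2 : g (g⁻¹ v) = v := by
    rw [← Equiv.Perm.mul_apply, mul_inv_cancel, Equiv.Perm.one_apply]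
  rw [e2]
  have e3 : hip ((g⁻¹ v : Lam) : Vec) r = hip (v : Vec) (g (pt hr) : Vec) := by
    have h := W_hip hg (g⁻¹ v) (pt hr)
    rw [e2] at h
    exact h.symm
  rw [e3]
  rfl

theorem rf_congr {r s : Vec} (hr : IsRoot r) (hs : IsRoot s) (h : r = s) : rf r hr = rf s hs := by
  subst h; rfl

theorem isRoot_smul {r : Vec} (hr : IsRoot r) {u : Icos} (hu : u * star u = 1) :
    IsRoot (u • r) := by
  refine ⟨hr.1.smul u, ?_⟩
  rw [ip_smul_left, ip_smul_right, hr.2]
  have h4 : (4 : Icos) = ofZt 4 := ofZt_four.symm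
  rw [h4, ofZt_comm, ← mul_assoc, hu, one_mul]

theorem star_mul_of_mul_star {u : Icos} (hu : u * star u = 1) : star u * u = 1 := by
  have h1 : u * star u = ofZt (normZ u) := mul_star_self u
  have h2 : normZ u = 1 := by
    rw [hu, ← ofZt_one] at h1; exact (ofZt_injective h1).symm
  have h3 : star u * star (star u) = ofZt (normZ (star u)) := mul_star_self _
  rw [star_star] at h3
  have h4 : normZ (star u) = normZ u := by
    simp only [normZ, star_p0, star_p1, star_p2, star_p3]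
    have hS : S * S = S + 1 := S_sq
    linear_combination (0 : Zt) * hS
  rw [h3, h4, h2, ofZt_one]

theorem rf_smul {r : Vec} (hr : IsRoot r) {u : Icos} (hu : u * star u = 1) :
    rf (u • r) (isRoot_smul hr hu) = rf r hr := by
  ext1 v
  apply Subtype.ext
  rw [rf_apply, rf_apply]
  unfold Lattice.refl
  rw [hip_smul_right u v.2 hr.1, smul_smul, mul_assoc, star_mul_of_mul_star hu, mul_one]

/-! ### the frame (2,0,0), (0,2,0), (0,0,2) and −1 -/

/-- the icosian 2 -/
def two : Icos := ⟨⟨2, 0⟩, ⟨0, 0⟩, ⟨0, 0⟩, ⟨0, 0⟩⟩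

theorem two_eq : two = 2 := by
  rw [← ofZt_two]; rfl

/-- boolean check for roots -/
def rootB (v : Vec) : Bool :=
  lamB v && decide (normZ v.x + normZ v.y + normZ v.z = ⟨4, 0⟩)

theorem rootB_iff {v : Vec} : rootB v = true ↔ IsRoot v := by
  have h4 : (4 : Zt) = ⟨4, 0⟩ := by decide
  rw [isRoot_iff, rootB, Bool.and_eq_true, lamB_iff, decide_eq_true_iff, h4]

/-- the root (2,0,0) -/
def e1 : Vec := ⟨two, 0, 0⟩
/-- the root (0,2,0) -/
def e2 : Vec := ⟨0, two, 0⟩
/-- the root (0,0,2) -/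
def e3 : Vec := ⟨0, 0, two⟩

theorem root_e1 : IsRoot e1 := rootB_iff.1 (by decide)
theorem root_e2 : IsRoot e2 := rootB_iff.1 (by decide)
theorem root_e3 : IsRoot e3 := rootB_iff.1 (by decide)

theorem mul_star_two (x : Icos) : x * star two = x + x := by
  have h : star two = 2 := by rw [← two_eq]; decide
  rw [h, mul_two]

theorem hip_e1 (v : Vec) : hip v e1 = v.x := by
  unfold hip ip e1
  simp only [star_zero, mul_zero, add_zero, mul_star_two, half_add_self]

theorem hip_e2 (v : Vec) : hip v e2 = v.y := by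
  unfold hip ip e2
  simp only [star_zero, mul_zero, add_zero, zero_add, mul_star_two, half_add_self]

theorem hip_e3 (v : Vec) : hip v e3 = v.z := by
  unfold hip ip e3
  simp only [star_zero, mul_zero, add_zero, zero_add, mul_star_two, half_add_self]

theorem refl_e1 (v : Vec) : refl e1 v = ⟨-v.x, v.y, v.z⟩ := by
  unfold Lattice.refl
  rw [hip_e1]
  ext1
  · simp only [sub_x, smul_x, e1, two_eq, mul_two]; abel
  · simp only [sub_y, smul_y, e1, mul_zero, sub_zero]
  · simp only [sub_z, smul_z, e1, mul_zero, sub_zero]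

theorem refl_e2 (v : Vec) : refl e2 v = ⟨v.x, -v.y, v.z⟩ := by
  unfold Lattice.refl
  rw [hip_e2]
  ext1
  · simp only [sub_x, smul_x, e2, mul_zero, sub_zero]
  · simp only [sub_y, smul_y, e2, two_eq, mul_two]; abel
  · simp only [sub_z, smul_z, e2, mul_zero, sub_zero]

theorem refl_e3 (v : Vec) : refl e3 v = ⟨v.x, v.y, -v.z⟩ := by
  unfold Lattice.refl
  rw [hip_e3]
  ext1
  · simp only [sub_x, smul_x, e3, mul_zero, sub_zero]
  · simp only [sub_y, smul_y, e3, mul_zero, sub_zero]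
  · simp only [sub_z, smul_z, e3, two_eq, mul_two]; abel

theorem rf_e1_e2_e3 : rf e1 root_e1 * rf e2 root_e2 * rf e3 root_e3 = Equiv.neg Lam := by
  ext1 v
  apply Subtype.ext
  rw [Equiv.Perm.mul_apply, Equiv.Perm.mul_apply, rf_apply, rf_apply, rf_apply, refl_e3, refl_e2,
    refl_e1]
  rfl

/-- −1 is in the reflection group. -/
theorem neg_mem_W : (Equiv.neg Lam : Equiv.Perm Lam) ∈ W := by
  rw [← rf_e1_e2_e3]
  exact mul_mem (mul_mem (rf_mem _) (rf_mem _)) (rf_mem _)

/-- −1 commutes with the reflection group. -/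
theorem neg_comm {g : Equiv.Perm Lam} (hg : g ∈ W) : g * Equiv.neg Lam = Equiv.neg Lam * g := by
  ext1 v
  exact W_neg hg v

theorem neg_mem_center : (⟨Equiv.neg Lam, neg_mem_W⟩ : W) ∈ Subgroup.center W := by
  rw [Subgroup.mem_center_iff]
  intro g
  exact Subtype.ext (neg_comm g.2)

/-- An element commuting with all reflections is central. -/
theorem mem_center_W {z : W} :
    z ∈ Subgroup.center W ↔ ∀ (r : Vec) (hr : IsRoot r), z.1 * rf r hr = rf r hr * z.1 := by
  rw [Subgroup.mem_center_iff]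
  constructor
  · intro h r hr
    have := h ⟨rf r hr, rf_mem hr⟩
    exact (congrArg Subtype.val this).symm
  · intro h g
    apply Subtype.ext
    change g.1 * z.1 = z.1 * g.1
    refine W_induction (p := fun g => g * z.1 = z.1 * g) (by rw [one_mul, mul_one]) ?_ g.2
    intro r hr g _ ih
    rw [mul_assoc, ih, ← mul_assoc, ← h r hr, mul_assoc]

/-! ### Comparison with `twoJ2` and `J2` -/

/-- the bijection from the model to the icosian Leech lattice -/
noncomputable def eLam : Lam ≃ icoLeech :=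
  Equiv.ofBijective (fun v => ⟨toV (v : Vec), toV_mem.2 v.2⟩) (by
    constructor
    · intro u v h
      exact Subtype.ext (toV_injective (congrArg Subtype.val h))
    · rintro ⟨u, hu⟩
      obtain ⟨v, hv, rfl⟩ := mem_icoLeech.1 hu
      exact ⟨⟨v, hv⟩, rfl⟩)

theorem eLam_coe (v : Lam) : ((eLam v : icoLeech) : Fin 3 → ℍ[ℝ]) = toV (v : Vec) := rfl

theorem isIcoReflection_iff (f : Equiv.Perm icoLeech) :
    IsIcoReflection f ↔ ∃ (r : Vec) (hr : IsRoot r), eLam.permCongrHom (rf r hr) = f := by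
  constructor
  · rintro ⟨⟨u, hu⟩, h4, hf⟩
    obtain ⟨r, hr, rfl⟩ := mem_icoLeech.1 hu
    have hr' : IsRoot r := isRoot_iff_qip.2 ⟨hu, h4⟩
    refine ⟨r, hr', ?_⟩
    ext1 x
    obtain ⟨v, rfl⟩ := eLam.surjective x
    apply Subtype.ext
    rw [hf (eLam v)]
    have e : (eLam.permCongrHom (rf r hr')) (eLam v) = eLam (rf r hr' v) := by
      simp [Equiv.permCongrHom]
    rw [e, eLam_coe, eLam_coe, rf_apply, toV_refl hr'.1 v.2]
  · rintro ⟨r, hr, rfl⟩
    have h := isRoot_iff_qip.1 hr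
    refine ⟨⟨toV r, h.1⟩, h.2, ?_⟩
    intro x
    obtain ⟨v, rfl⟩ := eLam.surjective x
    have e : (eLam.permCongrHom (rf r hr)) (eLam v) = eLam (rf r hr v) := by
      simp [Equiv.permCongrHom]
    rw [e, eLam_coe, eLam_coe, rf_apply, toV_refl hr.1 v.2]

theorem twoJ2_eq : W.map (eLam.permCongrHom : Equiv.Perm Lam →* Equiv.Perm icoLeech) = twoJ2 := by
  unfold W twoJ2
  rw [MonoidHom.map_closure]
  congr 1
  ext f
  constructor
  · rintro ⟨_, ⟨r, hr, rfl⟩, rfl⟩
    exact (isIcoReflection_iff _).2 ⟨r, hr, rfl⟩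
  · intro hf
    obtain ⟨r, hr, h⟩ := (isIcoReflection_iff f).1 hf
    exact ⟨rf r hr, ⟨r, hr, rfl⟩, h⟩

/-- The model group is isomorphic to `twoJ2`. -/
noncomputable def equivTwoJ2 : W ≃* twoJ2 :=
  (MulEquiv.subgroupMap eLam.permCongrHom W).trans (MulEquiv.subgroupCongr twoJ2_eq)

theorem equivTwoJ2_apply (g : W) :
    ((equivTwoJ2 g : twoJ2) : Equiv.Perm icoLeech) = eLam.permCongrHom (g : Equiv.Perm Lam) := rfl

theorem map_center_of_mulEquiv {G H : Type*} [Group G] [Group H] (e : G ≃* H) :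
    (Subgroup.center G).map (e : G →* H) = Subgroup.center H := by
  ext x
  simp only [Subgroup.mem_map, Subgroup.mem_center_iff]
  constructor
  · rintro ⟨g, hg, rfl⟩ y
    obtain ⟨z, rfl⟩ := e.surjective y
    have := congrArg e (hg z)
    simpa using this
  · intro h
    refine ⟨e.symm x, fun g => ?_, by simp⟩
    apply e.injective
    simpa using h (e g)

/-- `J2` in the model. -/
noncomputable def equivJ2 : W ⧸ Subgroup.center W ≃* J2 :=
  QuotientGroup.congr _ _ equivTwoJ2 (map_center_of_mulEquiv equivTwoJ2)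

end Cfsg.Agent.J2.Group
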