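import Cfsg.Agent.J2.U33
import Cfsg.Agent.S0280

/-!
# The index 100 subgroup: the part of S1624 that does not depend on the icosian model

From a group `J` of order `604800` acting on a set `V`, five generators `g j`, one hundred subsets `B a` of `V`
permuted by them through tables, the first four fixing `B 0`, and 63 points of `V` on which the first four act as
`U33.sig`, we obtain the subgroup of index 100 isomorphic to `PSU_3(3)` with subdegrees 36 and 63.
-/

set_option autoImplicit false

namespace Cfsg.Agent.J2.HundredAbs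

open scoped Pointwise

/-- The orbit of `B a₁` under the group generated by the `k j`, from tables. -/
theorem orbit_eq {J V ι : Type*} [Group J] [MulAction J V] {N m : ℕ} (k : ι → J)
    (B : Fin N → Set V) (s : ι → Fin N → Fin N) (hk : ∀ j a, k j • B a = B (s j a))
    (e : Fin m → Fin N) (hB : Function.Injective B) (he : Function.Injective e) (a₁ : Fin N)
    (w : Fin m → List ι) (hw : ∀ i, (w i).foldr s a₁ = e i)
    (hcl : ∀ j i, ∃ i', s j (e i) = e i') (h₁ : ∃ i, e i = a₁) :
    {X : Set V | ∃ x ∈ Subgroup.closure (Set.range k), x • B a₁ = X} = Set.range (B ∘ e) := by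
  classical
  have key : ∀ x ∈ Subgroup.closure (Set.range k), ∀ i, ∃ i', x • B (e i) = B (e i') := by
    intro x hx
    induction hx using Subgroup.closure_induction with
    | mem x hx =>
      obtain ⟨j, rfl⟩ := hx
      intro i
      obtain ⟨i', hi'⟩ := hcl j i
      exact ⟨i', by rw [hk, hi']⟩
    | one => intro i; exact ⟨i, one_smul _ _⟩
    | mul x y _ _ hx hy =>
      intro i
      obtain ⟨i', h1⟩ := hy i
      obtain ⟨i'', h2⟩ := hx i'
      exact ⟨i'', by rw [mul_smul, h1, h2]⟩
    | inv x _ hx =>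
      choose f hf using hx
      have hinj : Function.Injective f := by
        intro i i' h
        have h1 : x • B (e i) = x • B (e i') := by rw [hf, hf, h]
        exact he (hB (smul_left_cancel x h1))
      intro i
      obtain ⟨i', rfl⟩ := (Finite.injective_iff_surjective.1 hinj) i
      exact ⟨i', by rw [← hf, inv_smul_smul]⟩
  apply Set.Subset.antisymm
  · rintro X ⟨x, hx, rfl⟩
    obtain ⟨i, rfl⟩ := h₁
    obtain ⟨i', hi'⟩ := key x hx i
    exact ⟨i', hi'.symm⟩
  · rintro X ⟨i, rfl⟩
    refine ⟨((w i).map k).prod, ?_, ?_⟩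
    · apply Subgroup.list_prod_mem
      intro x hx
      obtain ⟨j, -, rfl⟩ := List.mem_map.1 hx
      exact Subgroup.subset_closure ⟨j, rfl⟩
    · have : ∀ l : List ι, (l.map k).prod • B a₁ = B (l.foldr s a₁) := by
        intro l
        induction l with
        | nil => simp
        | cons j l ih =>
          rw [List.map_cons, List.prod_cons, mul_smul, ih, hk, List.foldr_cons]
      rw [this, hw]
      rfl

theorem card_psu_three : Nat.card (Cfsg.PSU 3 U33.K9 3) = 6048 := by
  have h := Cfsg.Agent.S0280.result (F := U33.K9) (q := 3) U33.card_k9 3 (by norm_num)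
  norm_num [Finset.prod_range_succ, Nat.even_iff] at h
  omega

/-- A group whose elements `k s` induce the four permutations `U33.sig s` on some 63 points has at least 6048
elements. -/
theorem card_ge {J V : Type*} [Group J] [Finite J] [MulAction J V] (k : Fin 4 → J)
    (P : Fin 63 → V) (hP : Function.Injective P) (h : ∀ s i, k s • P i = P (U33.sig s i)) :
    6048 ≤ Nat.card (Subgroup.closure (Set.range k)) := by
  classical
  refine U33.card_closure_sig.trans ?_
  have key : ∀ τ ∈ Subgroup.closure (Set.range U33.sig), ∃ x ∈ Subgroup.closure (Set.range k),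
      ∀ i, x • P i = P (τ i) := by
    intro τ hτ
    induction hτ using Subgroup.closure_induction with
    | mem τ hτ =>
      obtain ⟨s, rfl⟩ := hτ
      exact ⟨k s, Subgroup.subset_closure ⟨s, rfl⟩, h s⟩
    | one => exact ⟨1, one_mem _, fun i => one_smul _ _⟩
    | mul τ υ _ _ h1 h2 =>
      obtain ⟨x, hx, h1⟩ := h1
      obtain ⟨y, hy, h2⟩ := h2
      exact ⟨x * y, mul_mem hx hy, fun i => by
        rw [mul_smul, h2, h1]; rfl⟩
    | inv τ _ h1 =>
      obtain ⟨x, hx, h1⟩ := h1
      refine ⟨x⁻¹, inv_mem hx, fun i => ?_⟩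
      rw [inv_smul_eq_iff, h1]
      congr 1
      exact (Equiv.apply_symm_apply τ i).symm
  choose! f hf using key
  let F : Subgroup.closure (Set.range U33.sig) → Subgroup.closure (Set.range k) :=
    fun τ => ⟨f τ, (hf τ τ.2).1⟩
  apply Nat.card_le_card_of_injective F
  rintro ⟨τ, hτ⟩ ⟨υ, hυ⟩ hF
  have h1 : f τ = f υ := congrArg Subtype.val hF
  apply Subtype.ext
  apply Equiv.ext
  intro i
  apply hP
  rw [← (hf τ hτ).2 i, ← (hf υ hυ).2 i, h1]

theorem main_abs {J : Type} [Group J] [Finite J] (hcard : Nat.card J = 604800)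
    {V : Type} [MulAction J V] (g : Fin 5 → J) (hg : Subgroup.closure (Set.range g) = ⊤)
    (B : Fin 100 → Set V) (hB : Function.Injective B) (s : Fin 5 → Fin 100 → Fin 100)
    (hs : ∀ j a, g j • B a = B (s j a))
    (hs0 : ∀ j : Fin 4, s j.castSucc 0 = 0)
    (P : Fin 63 → V) (hP : Function.Injective P)
    (h : ∀ (j : Fin 4) i, g j.castSucc • P i = P (U33.sig j i))
    (w : Fin 100 → List (Fin 5)) (hw : ∀ a, (w a).foldr s 0 = a)
    (e1 : Fin 36 → Fin 100) (he1 : Function.Injective e1)
    (w1 : Fin 36 → List (Fin 4))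
    (hw1 : ∀ i, (w1 i).foldr (fun j : Fin 4 => s j.castSucc) (e1 0) = e1 i)
    (hcl1 : ∀ (j : Fin 4) i, ∃ i', s j.castSucc (e1 i) = e1 i')
    (e2 : Fin 63 → Fin 100) (he2 : Function.Injective e2)
    (w2 : Fin 63 → List (Fin 4))
    (hw2 : ∀ i, (w2 i).foldr (fun j : Fin 4 => s j.castSucc) (e2 0) = e2 i)
    (hcl2 : ∀ (j : Fin 4) i, ∃ i', s j.castSucc (e2 i) = e2 i') :
    ∃ H : Subgroup J, H.index = 100 ∧
      (∃ (F : Type) (_ : Field F) (_ : Fintype F), Fintype.card F = 9 ∧
        Nonempty (↥H ≃* Cfsg.PSU 3 F 3)) ∧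
      ∃ c₁ c₂ : J ⧸ H, (MulAction.orbit ↥H c₁).ncard = 36 ∧
        (MulAction.orbit ↥H c₂).ncard = 63 := by
  classical
  let H : Subgroup J := MulAction.stabilizer J (B 0)
  -- the orbit of `B 0`
  have horb : MulAction.orbit J (B 0) = Set.range B := by
    have h0 := orbit_eq g B s hs id hB Function.injective_id 0 w hw (fun j i => ⟨_, rfl⟩)
      ⟨0, rfl⟩
    rw [hg] at h0
    ext X
    rw [MulAction.mem_orbit_iff]
    have h1 : X ∈ {X : Set V | ∃ x ∈ (⊤ : Subgroup J), x • B 0 = X} ↔ X ∈ Set.range (B ∘ id) := by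
      rw [h0]
    simpa using h1
  have hidx : H.index = 100 := by
    rw [MulAction.index_stabilizer, horb, Set.ncard_range_of_injective hB]
    simp
  have hcardH : Nat.card H = 6048 := by
    have h1 := H.card_mul_index
    rw [hidx, hcard] at h1
    omega
  -- generators of `H`
  let k : Fin 4 → J := fun j => g j.castSucc
  have hkH : ∀ j, k j ∈ H := by
    intro j
    rw [MulAction.mem_stabilizer_iff, hs, hs0]
  have hle : Subgroup.closure (Set.range k) ≤ H := by
    rw [Subgroup.closure_le]
    rintro _ ⟨j, rfl⟩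
    exact hkH j
  have hHk : Subgroup.closure (Set.range k) = H := by
    apply Subgroup.eq_of_le_of_card_ge hle
    rw [hcardH]
    exact card_ge k P hP h
  refine ⟨H, hidx, ⟨U33.K9, inferInstance, inferInstance, U33.card_k9, ?_⟩, ?_⟩
  · exact SporadicStructure.PsuMatch.iso_psu_of_match (G := H) (V := V) (K := U33.K9)
      (X := Fin 63) (ι := Fin 4) (n := 3) (q := 3) U33.card_k9 le_rfl P hP U33.vec
      (fun i j c hc h => U33.vec_nonprop i j c hc h) (fun j => ⟨k j, hkH j⟩) U33.su U33.sig
      (fun j i => h j i) (fun j i => U33.su_mulVec j i)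
      (by rw [hcardH]; exact U33.card_closure_sig)
      (by rw [card_psu_three]; exact U33.card_closure_sig)
  · -- the orbits on the cosets
    have hι : ∀ (x : J) (m : ℕ) (e : Fin m → Fin 100) (i₀ : Fin m), Function.Injective e →
        x • B 0 = B (e i₀) →
        {X : Set V | ∃ y ∈ Subgroup.closure (Set.range k), y • B (e i₀) = X} =
          Set.range (B ∘ e) →
        (MulAction.orbit ↥H ((x : J) : J ⧸ H)).ncard = m := by
      intro x m e i₀ he hx hX
      have hinj := MulAction.injective_ofQuotientStabilizer J (B 0)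
      rw [← Set.ncard_image_of_injective _ hinj]
      have himg : MulAction.ofQuotientStabilizer J (B 0) '' (MulAction.orbit ↥H ((x : J) : J ⧸ H))
          = Set.range (B ∘ e) := by
        rw [← hX, hHk]
        ext X
        constructor
        · rintro ⟨_, ⟨y, rfl⟩, rfl⟩
          refine ⟨y, y.2, ?_⟩
          rw [← hx]
          exact (mul_smul _ _ _).symm
        · rintro ⟨y, hy, rfl⟩
          refine ⟨(⟨y, hy⟩ : H) • ((x : J) : J ⧸ H), ⟨⟨y, hy⟩, rfl⟩, ?_⟩
          rw [← hx]
          exact mul_smul _ _ _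
      rw [himg, Set.ncard_range_of_injective (hB.comp he)]
      simp
    have hreach : ∀ a : Fin 100, ∃ x : J, x • B 0 = B a := by
      intro a
      have h1 : B a ∈ MulAction.orbit J (B 0) := by rw [horb]; exact ⟨a, rfl⟩
      exact h1
    obtain ⟨x1, hx1⟩ := hreach (e1 0)
    obtain ⟨x2, hx2⟩ := hreach (e2 0)
    exact ⟨(x1 : J ⧸ H), (x2 : J ⧸ H),
      hι x1 36 e1 0 he1 hx1 (orbit_eq k B (fun j => s j.castSucc) (fun j a => hs _ _) e1 hB he1
        (e1 0) w1 hw1 hcl1 ⟨0, rfl⟩),
      hι x2 63 e2 0 he2 hx2 (orbit_eq k B (fun j => s j.castSucc) (fun j a => hs _ _) e2 hB he2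
        (e2 0) w2 hw2 hcl2 ⟨0, rfl⟩)⟩

end Cfsg.Agent.J2.HundredAbs
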