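import Cfsg.Agent.J2.ModPrime

/-!
# Kernel-fast checks of `refl g v = u • t` for roots, with natural numbers modulo 29
-/

set_option autoImplicit false
set_option linter.unusedSimpArgs false

namespace Cfsg.Agent.J2.ModCheck

open Cfsg.Agent.J2.ZTau Cfsg.Agent.J2.Ico Cfsg.Agent.J2.Lattice Cfsg.Agent.J2.Refl
  Cfsg.Agent.J2.Group Cfsg.Agent.J2.Norm Cfsg.Agent.J2.ModPrime

/-- Four natural numbers, the residues of the coordinates of an icosian. -/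
structure Q4 where
  /-- coordinate -/
  a : ℕ
  /-- coordinate -/
  b : ℕ
  /-- coordinate -/
  c : ℕ
  /-- coordinate -/
  d : ℕ

/-- `q` represents `x` modulo `5 + τ`. -/
def Rel (x : Icos) (q : Q4) : Prop :=
  rho x.p0 = (q.a : ZMod 29) ∧ rho x.p1 = (q.b : ZMod 29) ∧ rho x.p2 = (q.c : ZMod 29) ∧
    rho x.p3 = (q.d : ZMod 29)

/-- product -/
def qmul (x y : Q4) : Q4 :=
  ⟨Nat.mod (Nat.add (Nat.mul x.a y.a) (Nat.mul 28 (Nat.add (Nat.mul x.b y.b)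
      (Nat.add (Nat.mul 6 (Nat.mul x.c y.b)) (Nat.add (Nat.mul x.c y.c) (Nat.add (Nat.mul x.d y.b)
        (Nat.mul x.d y.d))))))) 29,
   Nat.mod (Nat.add (Nat.add (Nat.add (Nat.mul x.a y.b) (Nat.mul x.b y.a)) (Nat.add
      (Nat.mul x.c y.b) (Nat.mul x.c y.d))) (Nat.mul 28 (Nat.add (Nat.mul 6 (Nat.mul x.d y.b))
        (Nat.mul x.d y.c)))) 29,
   Nat.mod (Nat.add (Nat.add (Nat.add (Nat.mul x.a y.c) (Nat.mul x.c y.a)) (Nat.add
      (Nat.mul x.c y.c) (Nat.mul x.d y.b))) (Nat.mul 28 (Nat.add (Nat.mul x.b y.d)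
        (Nat.mul 6 (Nat.mul x.c y.d))))) 29,
   Nat.mod (Nat.add (Nat.add (Nat.add (Nat.mul x.a y.d) (Nat.mul x.d y.a)) (Nat.add
      (Nat.mul x.b y.c) (Nat.mul x.d y.c))) (Nat.mul 28 (Nat.add (Nat.mul x.c y.b)
        (Nat.mul 6 (Nat.mul x.d y.d))))) 29⟩

/-- sum -/
def qadd (x y : Q4) : Q4 :=
  ⟨Nat.add x.a y.a, Nat.add x.b y.b, Nat.add x.c y.c, Nat.add x.d y.d⟩

/-- multiple by a natural number -/
def qsmul (n : ℕ) (x : Q4) : Q4 := ⟨Nat.mul n x.a, Nat.mul n x.b, Nat.mul n x.c, Nat.mul n x.d⟩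

/-- conjugate -/
def qstar (x : Q4) : Q4 :=
  ⟨Nat.mod (Nat.add (Nat.add x.a x.c) (Nat.mul 23 x.d)) 29, Nat.mod (Nat.mul 28 x.b) 29,
    Nat.mod (Nat.mul 28 x.c) 29, Nat.mod (Nat.mul 28 x.d) 29⟩

theorem c28 : ((28 : ℕ) : ZMod 29) = -1 := by decide
theorem c6 : ((6 : ℕ) : ZMod 29) = 6 := by decide
theorem c23 : ((23 : ℕ) : ZMod 29) = -6 := by decide
theorem c15 : ((15 : ℕ) : ZMod 29) * 2 = 1 := by decide
theorem c30 : (2 : ZMod 29) * 15 = 1 := by decide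

theorem cmod (n : ℕ) : ((Nat.mod n 29 : ℕ) : ZMod 29) = (n : ZMod 29) := ZMod.natCast_mod n 29
theorem cadd (m n : ℕ) : ((Nat.add m n : ℕ) : ZMod 29) = (m : ZMod 29) + n := Nat.cast_add m n
theorem cmul (m n : ℕ) : ((Nat.mul m n : ℕ) : ZMod 29) = (m : ZMod 29) * n := Nat.cast_mul m n

theorem Rel.mul {x y : Icos} {q r : Q4} (hx : Rel x q) (hy : Rel y r) : Rel (x * y) (qmul q r) := by
  obtain ⟨a0, a1, a2, a3⟩ := hx
  obtain ⟨b0, b1, b2, b3⟩ := hy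
  refine ⟨?_, ?_, ?_, ?_⟩
  · rw [mul_p0]
    simp only [map_add, map_sub, map_mul, rho_S, a0, a1, a2, a3, b0, b1, b2, b3, qmul, cmod, cadd,
      cmul, c28, c6]
    ring
  · rw [mul_p1]
    simp only [map_add, map_sub, map_mul, rho_S, a0, a1, a2, a3, b0, b1, b2, b3, qmul, cmod, cadd,
      cmul, c28, c6]
    ring
  · rw [mul_p2]
    simp only [map_add, map_sub, map_mul, rho_S, a0, a1, a2, a3, b0, b1, b2, b3, qmul, cmod, cadd,
      cmul, c28, c6]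
    ring
  · rw [mul_p3]
    simp only [map_add, map_sub, map_mul, rho_S, a0, a1, a2, a3, b0, b1, b2, b3, qmul, cmod, cadd,
      cmul, c28, c6]
    ring

theorem Rel.add {x y : Icos} {q r : Q4} (hx : Rel x q) (hy : Rel y r) : Rel (x + y) (qadd q r) := by
  obtain ⟨a0, a1, a2, a3⟩ := hx
  obtain ⟨b0, b1, b2, b3⟩ := hy
  refine ⟨?_, ?_, ?_, ?_⟩ <;>
    simp only [add_p0, add_p1, add_p2, add_p3, map_add, a0, a1, a2, a3, b0, b1, b2, b3, qadd, cadd]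

theorem Rel.sub {x y : Icos} {q r : Q4} (hx : Rel x q) (hy : Rel y r) :
    Rel (x - y) (qadd q (qsmul 28 r)) := by
  obtain ⟨a0, a1, a2, a3⟩ := hx
  obtain ⟨b0, b1, b2, b3⟩ := hy
  refine ⟨?_, ?_, ?_, ?_⟩ <;>
    simp only [sub_p0, sub_p1, sub_p2, sub_p3, map_sub, a0, a1, a2, a3, b0, b1, b2, b3, qadd,
      qsmul, cadd, cmul, c28] <;> ring

theorem Rel.star {x : Icos} {q : Q4} (hx : Rel x q) : Rel (star x) (qstar q) := by
  obtain ⟨a0, a1, a2, a3⟩ := hx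
  refine ⟨?_, ?_, ?_, ?_⟩ <;>
    simp only [star_p0, star_p1, star_p2, star_p3, map_add, map_sub, map_mul, map_neg, rho_S, a0,
      a1, a2, a3, qstar, cmod, cadd, cmul, c28, c23] <;> ring

theorem Rel.half {x y : Icos} {q : Q4} (h : x + x = y) (hy : Rel y q) : Rel x (qsmul 15 q) := by
  subst h
  obtain ⟨a0, a1, a2, a3⟩ := hy
  simp only [add_p0, add_p1, add_p2, add_p3, map_add] at a0 a1 a2 a3
  refine ⟨?_, ?_, ?_, ?_⟩
  · simp only [qsmul, cmul, ← a0]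
    linear_combination (-(rho x.p0)) * c15
  · simp only [qsmul, cmul, ← a1]
    linear_combination (-(rho x.p1)) * c15
  · simp only [qsmul, cmul, ← a2]
    linear_combination (-(rho x.p2)) * c15
  · simp only [qsmul, cmul, ← a3]
    linear_combination (-(rho x.p3)) * c15

/-! ### Decoding -/

/-- An octal digit minus 4. -/
def dg (n k : ℕ) : ℤ := Int.subNatNat ((n >>> (3 * k)) % 8) 4

/-- Decoding. -/
def ic (n k : ℕ) : Icos :=
  ⟨⟨dg n k, dg n (k + 1)⟩, ⟨dg n (k + 2), dg n (k + 3)⟩, ⟨dg n (k + 4), dg n (k + 5)⟩,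
    ⟨dg n (k + 6), dg n (k + 7)⟩⟩

/-- Decoding a triple. -/
def dec (n : ℕ) : Vec := ⟨ic n 0, ic n 8, ic n 16⟩

/-- Residue of a pair of digits. -/
def rd (n k : ℕ) : ℕ :=
  Nat.mod (Nat.add (Nat.add (Nat.mod (Nat.shiftRight n (Nat.mul 3 k)) 8) 25)
    (Nat.mul 24 (Nat.add (Nat.mod (Nat.shiftRight n (Nat.mul 3 (Nat.succ k))) 8) 25))) 29

/-- Residues of an icosian. -/
def qdec (n k : ℕ) : Q4 :=
  ⟨rd n k, rd n (Nat.add k 2), rd n (Nat.add k 4), rd n (Nat.add k 6)⟩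

theorem rho_rd (n k : ℕ) : rho ⟨dg n k, dg n (k + 1)⟩ = (rd n k : ZMod 29) := by
  have h25 : ((25 : ℕ) : ZMod 29) = -4 := by decide
  have h24 : ((24 : ℕ) : ZMod 29) = 24 := by decide
  have hd : ∀ k, ((dg n k : ℤ) : ZMod 29) = ((Nat.mod (Nat.shiftRight n (Nat.mul 3 k)) 8 : ℕ) : ZMod 29) - 4 := by
    intro k
    unfold dg
    rw [Int.subNatNat_eq_coe]
    push_cast
    rfl
  rw [rho_apply]
  simp only [rd, cmod, cadd, cmul, h25, h24]
  rw [hd, hd]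
  ring

theorem rel_ic (n k : ℕ) : Rel (ic n k) (qdec n k) :=
  ⟨rho_rd n k, rho_rd n (k + 2), rho_rd n (k + 4), rho_rd n (k + 6)⟩

/-! ### The check -/

/-- componentwise equality modulo 29 -/
def qeq (x y : Q4) : Bool :=
  Nat.beq (Nat.mod x.a 29) (Nat.mod y.a 29) && (Nat.beq (Nat.mod x.b 29) (Nat.mod y.b 29) &&
    (Nat.beq (Nat.mod x.c 29) (Nat.mod y.c 29) && Nat.beq (Nat.mod x.d 29) (Nat.mod y.d 29)))

theorem Rel.eq {x y : Icos} {q r : Q4} (hx : Rel x q) (hy : Rel y r) (h : qeq q r = true) :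
    rho x.p0 = rho y.p0 ∧ rho x.p1 = rho y.p1 ∧ rho x.p2 = rho y.p2 ∧ rho x.p3 = rho y.p3 := by
  obtain ⟨a0, a1, a2, a3⟩ := hx
  obtain ⟨b0, b1, b2, b3⟩ := hy
  unfold qeq at h
  simp only [Bool.and_eq_true] at h
  obtain ⟨h0, h1, h2, h3⟩ := h
  have e0 := congrArg (fun n : ℕ => (n : ZMod 29)) (Nat.eq_of_beq_eq_true h0)
  have e1 := congrArg (fun n : ℕ => (n : ZMod 29)) (Nat.eq_of_beq_eq_true h1)
  have e2 := congrArg (fun n : ℕ => (n : ZMod 29)) (Nat.eq_of_beq_eq_true h2)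
  have e3 := congrArg (fun n : ℕ => (n : ZMod 29)) (Nat.eq_of_beq_eq_true h3)
  simp only [cmod] at e0 e1 e2 e3
  exact ⟨by rw [a0, b0, e0], by rw [a1, b1, e1], by rw [a2, b2, e2], by rw [a3, b3, e3]⟩

/-- half of the Hermitian product, modulo the prime -/
def qhip (v0 v1 v2 g0 g1 g2 : Q4) : Q4 :=
  qsmul 15 (qadd (qadd (qmul v0 (qstar g0)) (qmul v1 (qstar g1))) (qmul v2 (qstar g2)))

/-- one coordinate of the reflection -/
def qref (h v g : Q4) : Q4 := qadd v (qsmul 28 (qmul h g))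

/-- The check of `refl (dec g) (dec v) = ic u 0 • dec t`. -/
def relB (g v t u : ℕ) : Bool :=
  let g0 := qdec g 0; let g1 := qdec g 8; let g2 := qdec g 16
  let v0 := qdec v 0; let v1 := qdec v 8; let v2 := qdec v 16
  let h := qhip v0 v1 v2 g0 g1 g2
  let w := qdec u 0
  qeq (qref h v0 g0) (qmul w (qdec t 0)) && (qeq (qref h v1 g1) (qmul w (qdec t 8)) &&
    qeq (qref h v2 g2) (qmul w (qdec t 16)))

theorem isRoot_refl {r v : Vec} (hr : IsRoot r) (hv : IsRoot v) : IsRoot (refl r v) :=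
  ⟨InLam.refl hr.1 hv.1, by rw [ip_refl_refl hr hv.1 hv.1]; exact hv.2⟩

theorem relB_spec {g v t u : ℕ} (hg : IsRoot (dec g)) (hv : IsRoot (dec v)) (ht : IsRoot (dec t))
    (hu : ic u 0 * star (ic u 0) = 1) (h : relB g v t u = true) :
    refl (dec g) (dec v) = ic u 0 • dec t := by
  unfold relB at h
  simp only [Bool.and_eq_true] at h
  obtain ⟨h0, h1, h2⟩ := h
  have hh : Rel (hip (dec v) (dec g)) (qhip (qdec v 0) (qdec v 8) (qdec v 16) (qdec g 0)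
      (qdec g 8) (qdec g 16)) := by
    refine Rel.half (hip_add_hip hv.1 hg.1) ?_
    exact Rel.add (Rel.add (Rel.mul (rel_ic v 0) (Rel.star (rel_ic g 0)))
      (Rel.mul (rel_ic v 8) (Rel.star (rel_ic g 8))))
      (Rel.mul (rel_ic v 16) (Rel.star (rel_ic g 16)))
  have e0 := Rel.eq (Rel.sub (rel_ic v 0) (Rel.mul hh (rel_ic g 0)))
    (Rel.mul (rel_ic u 0) (rel_ic t 0)) h0
  have e1 := Rel.eq (Rel.sub (rel_ic v 8) (Rel.mul hh (rel_ic g 8)))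
    (Rel.mul (rel_ic u 0) (rel_ic t 8)) h1
  have e2 := Rel.eq (Rel.sub (rel_ic v 16) (Rel.mul hh (rel_ic g 16)))
    (Rel.mul (rel_ic u 0) (rel_ic t 16)) h2
  exact eq_of_rho (isRoot_refl hg hv) (isRoot_smul ht hu) e0.1 e0.2.1 e0.2.2.1 e0.2.2.2
    e1.1 e1.2.1 e1.2.2.1 e1.2.2.2 e2.1 e2.2.1 e2.2.2.1 e2.2.2.2

end Cfsg.Agent.J2.ModCheck
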