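import Cfsg.Agent.J2.HundredData
import Cfsg.Agent.J2.ModCheck

/-!
# The 315 roots and the five reflections: verified tables

Kernel checks of the tables of `HundredData`: all 315 codes are roots, the five reflections permute the 315 lines by
the tables, the reflections of the 315 roots are distinct, the one hundred sets are permuted by the tables.
-/

set_option autoImplicit false

namespace Cfsg.Agent.J2.HundredRoots

open Cfsg.Agent.J2.ZTau Cfsg.Agent.J2.Ico Cfsg.Agent.J2.Lattice Cfsg.Agent.J2.Refl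
  Cfsg.Agent.J2.Group Cfsg.Agent.J2.HundredData Cfsg.Agent.J2.ModPrime
  Cfsg.Agent.J2.ModCheck

/-- Code of the root with number `i`. -/
def rc (i : ℕ) : ℕ := ent RT 72 0xffffffffffffffffff i

/-- Code of the unit with number `i`. -/
def uc (i : ℕ) : ℕ := ent UN 24 0xffffff i

theorem rootB_all : allB (fun i => rootB (dec (rc i))) 315 = true := by decide +kernel

/-- boolean check for units -/
def unitB (x : Icos) : Bool := decide (x * star x = (⟨⟨1, 0⟩, ⟨0, 0⟩, ⟨0, 0⟩, ⟨0, 0⟩⟩ : Icos))

theorem unitB_all : allB (fun i => unitB (ic (uc i) 0)) 120 = true := by decide +kernel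

theorem isRoot_rc {i : ℕ} (hi : i < 315) : IsRoot (dec (rc i)) :=
  rootB_iff.1 (allB_spec rootB_all i hi)

theorem unit_uc {i : ℕ} (hi : i < 120) : ic (uc i) 0 * star (ic (uc i) 0) = 1 :=
  of_decide_eq_true (allB_spec unitB_all i hi)

/-- The check for the reflection with number `g`, permutation table `T` and unit table `X`. -/
def chk (g T X : ℕ) (i : ℕ) : Bool :=
  Nat.blt (ent X 7 127 i) 120 && (Nat.blt (ent T 9 511 i) 315 &&
    (Nat.beq (ent T 9 511 (ent T 9 511 i)) i &&
      relB (rc g) (rc i) (rc (ent T 9 511 i)) (uc (ent X 7 127 i))))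

theorem chk0 : allB (chk (ent GN 9 511 0) TB0 UX0) 315 = true := by decide +kernel
theorem chk1 : allB (chk (ent GN 9 511 1) TB1 UX1) 315 = true := by decide +kernel
theorem chk2 : allB (chk (ent GN 9 511 2) TB2 UX2) 315 = true := by decide +kernel
theorem chk3 : allB (chk (ent GN 9 511 3) TB3 UX3) 315 = true := by decide +kernel
theorem chk4 : allB (chk (ent GN 9 511 4) TB4 UX4) 315 = true := by decide +kernel

theorem chk_all (j : Fin 5) : allB (chk (ent GN 9 511 j.val) (TB j) (UX j)) 315 = true := by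
  fin_cases j
  · exact chk0
  · exact chk1
  · exact chk2
  · exact chk3
  · exact chk4

theorem gn_lt : ∀ j : Fin 5, ent GN 9 511 j.val < 315 := by decide +kernel

/-- The root with number `i`. -/
def rt (i : Fin 315) : Vec := dec (rc i.val)

theorem isRoot_rt (i : Fin 315) : IsRoot (rt i) := isRoot_rc i.2

/-- The numbers of the five generating reflections. -/
def gen (j : Fin 5) : Fin 315 := ⟨ent GN 9 511 j.val, gn_lt j⟩

theorem chk_spec (j : Fin 5) (i : ℕ) (hi : i < 315) : ent (UX j) 7 127 i < 120 ∧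
    ent (TB j) 9 511 i < 315 ∧ ent (TB j) 9 511 (ent (TB j) 9 511 i) = i ∧
    refl (rt (gen j)) (dec (rc i)) =
      ic (uc (ent (UX j) 7 127 i)) 0 • dec (rc (ent (TB j) 9 511 i)) := by
  have h := allB_spec (chk_all j) i hi
  unfold chk at h
  simp only [Bool.and_eq_true] at h
  obtain ⟨h1, h2, h3, h4⟩ := h
  have h1' := Nat.blt_eq.mp h1
  have h2' := Nat.blt_eq.mp h2
  exact ⟨h1', h2', Nat.eq_of_beq_eq_true h3,
    relB_spec (isRoot_rt (gen j)) (isRoot_rc hi) (isRoot_rc h2') (unit_uc h1') h4⟩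

/-- Permutation table of the lines. -/
def tab (j : Fin 5) (i : Fin 315) : Fin 315 := ⟨ent (TB j) 9 511 i.val, (chk_spec j i.val i.2).2.1⟩

theorem tab_tab (j : Fin 5) (i : Fin 315) : tab j (tab j i) = i :=
  Fin.ext (chk_spec j i.val i.2).2.2.1

/-- The reflection with number `gen j` moves the line `i` to the line `tab j i`. -/
theorem refl_rt (j : Fin 5) (i : Fin 315) : ∃ u : Icos, u * star u = 1 ∧
    refl (rt (gen j)) (rt i) = u • rt (tab j i) :=
  ⟨_, unit_uc (chk_spec j i.val i.2).1, (chk_spec j i.val i.2).2.2.2⟩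

/-! ### Distinct reflections -/

/-- pack the coordinates of a product -/
def qk (x : Q4) (k : ℕ) : ℕ :=
  Nat.add x.a (Nat.mul 32 (Nat.add x.b (Nat.mul 32 (Nat.add x.c (Nat.mul 32 (Nat.add x.d
    (Nat.mul 32 k)))))))

/-- Key of the reflection with code `n`. -/
def key (n : ℕ) : ℕ :=
  qk (qmul (qstar (qdec n 0)) (qdec n 0)) (qk (qmul (qstar (qdec n 0)) (qdec n 8))
    (qk (qmul (qstar (qdec n 0)) (qdec n 16)) (qk (qmul (qstar (qdec n 8)) (qdec n 16))
      (qk (qmul (qstar (qdec n 8)) (qdec n 8)) 0))))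

theorem key_all : allB (fun i => allB (fun k => Nat.beq i k ||
    !(Nat.beq (key (rc i)) (key (rc k)))) i) 315 = true := by decide +kernel

theorem lt_qmul (x y : Q4) : (qmul x y).a < 29 ∧ (qmul x y).b < 29 ∧ (qmul x y).c < 29 ∧
    (qmul x y).d < 29 :=
  ⟨Nat.mod_lt _ (by norm_num), Nat.mod_lt _ (by norm_num), Nat.mod_lt _ (by norm_num),
    Nat.mod_lt _ (by norm_num)⟩

theorem eq_of_cast {m n : ℕ} (hm : m < 29) (hn : n < 29) (h : (m : ZMod 29) = n) : m = n := by
  have := (ZMod.natCast_eq_natCast_iff' m n 29).1 h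
  rwa [Nat.mod_eq_of_lt hm, Nat.mod_eq_of_lt hn] at this

theorem qmul_eq {x x' : Icos} {q r q' r' : Q4} (h : Rel x (qmul q r)) (h' : Rel x' (qmul q' r'))
    (hx : x = x') (k : ℕ) : qk (qmul q r) k = qk (qmul q' r') k := by
  subst hx
  obtain ⟨a0, a1, a2, a3⟩ := h
  obtain ⟨b0, b1, b2, b3⟩ := h'
  obtain ⟨c0, c1, c2, c3⟩ := lt_qmul q r
  obtain ⟨d0, d1, d2, d3⟩ := lt_qmul q' r'
  unfold qk
  rw [eq_of_cast c0 d0 (a0.symm.trans b0), eq_of_cast c1 d1 (a1.symm.trans b1),
    eq_of_cast c2 d2 (a2.symm.trans b2), eq_of_cast c3 d3 (a3.symm.trans b3)]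

theorem refl_e1_eq {r : Vec} (hr : IsRoot r) :
    refl r e1 = ⟨two - star r.x * r.x, -(star r.x * r.y), -(star r.x * r.z)⟩ := by
  unfold Lattice.refl
  rw [← star_hip hr.1 root_e1.1, hip_e1]
  ext1 <;> simp [e1]

theorem refl_e2_eq {r : Vec} (hr : IsRoot r) :
    refl r e2 = ⟨-(star r.y * r.x), two - star r.y * r.y, -(star r.y * r.z)⟩ := by
  unfold Lattice.refl
  rw [← star_hip hr.1 root_e2.1, hip_e2]
  ext1 <;> simp [e2]

theorem key_eq {m n : ℕ} (hm : IsRoot (dec m)) (hn : IsRoot (dec n))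
    (h : rf (dec m) hm = rf (dec n) hn) : key m = key n := by
  have h1 : refl (dec m) e1 = refl (dec n) e1 := by
    have := congrArg (fun f : Equiv.Perm Lam => (f (pt root_e1) : Vec)) h
    exact this
  have h2 : refl (dec m) e2 = refl (dec n) e2 := by
    have := congrArg (fun f : Equiv.Perm Lam => (f (pt root_e2) : Vec)) h
    exact this
  rw [refl_e1_eq hm, refl_e1_eq hn, Vec.mk.injEq] at h1
  rw [refl_e2_eq hm, refl_e2_eq hn, Vec.mk.injEq] at h2
  obtain ⟨a1, a2, a3⟩ := h1
  obtain ⟨-, b2, b3⟩ := h2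
  have a1' := sub_right_inj.1 a1
  have a2' := neg_inj.1 a2
  have a3' := neg_inj.1 a3
  have b2' := sub_right_inj.1 b2
  have b3' := neg_inj.1 b3
  unfold key
  rw [qmul_eq (Rel.mul (Rel.star (rel_ic m 0)) (rel_ic m 0))
      (Rel.mul (Rel.star (rel_ic n 0)) (rel_ic n 0)) a1',
    qmul_eq (Rel.mul (Rel.star (rel_ic m 0)) (rel_ic m 8))
      (Rel.mul (Rel.star (rel_ic n 0)) (rel_ic n 8)) a2',
    qmul_eq (Rel.mul (Rel.star (rel_ic m 0)) (rel_ic m 16))
      (Rel.mul (Rel.star (rel_ic n 0)) (rel_ic n 16)) a3',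
    qmul_eq (Rel.mul (Rel.star (rel_ic m 8)) (rel_ic m 16))
      (Rel.mul (Rel.star (rel_ic n 8)) (rel_ic n 16)) b3',
    qmul_eq (Rel.mul (Rel.star (rel_ic m 8)) (rel_ic m 8))
      (Rel.mul (Rel.star (rel_ic n 8)) (rel_ic n 8)) b2']

theorem rf_rt_inj {i k : Fin 315} (h : rf (rt i) (isRoot_rt i) = rf (rt k) (isRoot_rt k)) :
    i = k := by
  have hk : key (rc i.val) = key (rc k.val) := key_eq _ _ h
  rcases lt_trichotomy i.val k.val with h1 | h1 | h1
  · have h2 := allB_spec (allB_spec key_all k.val k.2) i.val h1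
    rw [Bool.or_eq_true] at h2
    rcases h2 with h2 | h2
    · exact Fin.ext (Nat.eq_of_beq_eq_true h2).symm
    · rw [hk, Nat.beq_refl] at h2
      exact absurd h2 (by decide)
  · exact Fin.ext h1
  · have h2 := allB_spec (allB_spec key_all i.val i.2) k.val h1
    rw [Bool.or_eq_true] at h2
    rcases h2 with h2 | h2
    · exact Fin.ext (Nat.eq_of_beq_eq_true h2)
    · rw [hk, Nat.beq_refl] at h2
      exact absurd h2 (by decide)

/-! ### The one hundred sets -/

/-- bit `i` of `m` -/
def bit (m i : ℕ) : ℕ := Nat.land (Nat.shiftRight m i) 1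

/-- the mask of the set with number `a` -/
def setM (a : ℕ) : ℕ := ent ST 315 M315 a

/-- check of one reflection on one set -/
def chkS (T S a : ℕ) : Bool :=
  Nat.blt (ent S 7 127 a) 100 &&
    allB (fun i => Nat.beq (bit (setM a) i) (bit (setM (ent S 7 127 a)) (ent T 9 511 i))) 315

theorem chkS0 : allB (chkS TB0 SP0) 100 = true := by decide +kernel
theorem chkS1 : allB (chkS TB1 SP1) 100 = true := by decide +kernel
theorem chkS2 : allB (chkS TB2 SP2) 100 = true := by decide +kernel
theorem chkS3 : allB (chkS TB3 SP3) 100 = true := by decide +kernel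
theorem chkS4 : allB (chkS TB4 SP4) 100 = true := by decide +kernel

theorem chkS_all (j : Fin 5) : allB (chkS (TB j) (SP j)) 100 = true := by
  fin_cases j
  · exact chkS0
  · exact chkS1
  · exact chkS2
  · exact chkS3
  · exact chkS4

theorem chkS_spec (j : Fin 5) (a : ℕ) (ha : a < 100) : ent (SP j) 7 127 a < 100 ∧
    ∀ i < 315, bit (setM a) i = bit (setM (ent (SP j) 7 127 a)) (ent (TB j) 9 511 i) := by
  have h := allB_spec (chkS_all j) a ha
  unfold chkS at h
  rw [Bool.and_eq_true] at h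
  exact ⟨Nat.blt_eq.mp h.1, fun i hi => Nat.eq_of_beq_eq_true (allB_spec h.2 i hi)⟩

/-- The permutation of the one hundred sets. -/
def sp (j : Fin 5) (a : Fin 100) : Fin 100 := ⟨ent (SP j) 7 127 a.val, (chkS_spec j a.val a.2).1⟩

/-- the set with number `a` -/
def S315 (a : Fin 100) : Set (Fin 315) := {i | bit (setM a.val) i.val = 1}

theorem mem_S315 (j : Fin 5) (a : Fin 100) (i : Fin 315) :
    i ∈ S315 a ↔ tab j i ∈ S315 (sp j a) := by
  change bit (setM a.val) i.val = 1 ↔ bit (setM (sp j a).val) (tab j i).val = 1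
  rw [(chkS_spec j a.val a.2).2 i.val i.2]
  rfl

theorem setM_all : allB (fun a => allB (fun b => !(Nat.beq (setM a) (setM b))) a) 100 = true := by
  decide +kernel

theorem bit_eq_one_iff (m i : ℕ) : bit m i = 1 ↔ m.testBit i = true := by
  have h : bit m i = (m >>> i) % 2 := Nat.and_one_is_mod _
  rw [h, Nat.testBit_eq_decide_div_mod_eq, Nat.shiftRight_eq_div_pow, decide_eq_true_iff]

set_option exponentiation.threshold 400 in
theorem hM315 : M315 < 2 ^ 315 := by decide +kernel

theorem S315_inj : Function.Injective S315 := by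
  intro a b h
  have h1 : setM a.val = setM b.val := by
    apply Nat.eq_of_testBit_eq
    intro i
    rcases Nat.lt_or_ge i 315 with hi | hi
    · have h2 : (⟨i, hi⟩ : Fin 315) ∈ S315 a ↔ (⟨i, hi⟩ : Fin 315) ∈ S315 b := by rw [h]
      change bit (setM a.val) i = 1 ↔ bit (setM b.val) i = 1 at h2
      rw [bit_eq_one_iff, bit_eq_one_iff] at h2
      exact Bool.eq_iff_iff.2 h2
    · have hm : M315 < 2 ^ i := by
        refine lt_of_lt_of_le (b := 2 ^ 315) hM315 ?_
        exact Nat.pow_le_pow_right (by norm_num) hi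
      have h3 : ∀ c, (setM c).testBit i = false := by
        intro c
        apply Nat.testBit_lt_two_pow
        exact lt_of_le_of_lt Nat.and_le_right hm
      rw [h3, h3]
  rcases lt_trichotomy a.val b.val with h2 | h2 | h2
  · have h3 := allB_spec (allB_spec setM_all b.val b.2) a.val h2
    rw [h1, Nat.beq_refl] at h3
    exact absurd h3 (by decide)
  · exact Fin.ext h2
  · have h3 := allB_spec (allB_spec setM_all a.val a.2) b.val h2
    rw [h1, Nat.beq_refl] at h3
    exact absurd h3 (by decide)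

end Cfsg.Agent.J2.HundredRoots
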