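import Cfsg.Agent.J2.HundredAbs
import Cfsg.Agent.J2.HundredRoots

/-!
# The index 100 subgroup of J2, from the order of J2

`main`: if `J2` has order 604800 then it has a subgroup of index 100 isomorphic to `PSU_3(3)` with subdegrees 36, 63.
`J2` acts on the elements of the reflection group `W` by conjugation.
-/

set_option autoImplicit false

namespace Cfsg.Agent.J2.HundredFinal

open Cfsg.Spor Cfsg.Agent.J2.Ico Cfsg.Agent.J2.Lattice Cfsg.Agent.J2.Refl Cfsg.Agent.J2.Group
  Cfsg.Agent.J2.HundredData Cfsg.Agent.J2.HundredRoots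
open scoped Pointwise

/-- The group generated by five elements as in `main_abs` is everything. -/
theorem closure_eq_top {J : Type} [Group J] [Finite J] (hcard : Nat.card J = 604800)
    {V : Type} [MulAction J V] (g : Fin 5 → J)
    (B : Fin 100 → Set V) (hB : Function.Injective B) (s : Fin 5 → Fin 100 → Fin 100)
    (hs : ∀ j a, g j • B a = B (s j a))
    (hs0 : ∀ j : Fin 4, s j.castSucc 0 = 0)
    (P : Fin 63 → V) (hP : Function.Injective P)
    (h : ∀ (j : Fin 4) i, g j.castSucc • P i = P (U33.sig j i))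
    (w : Fin 100 → List (Fin 5)) (hw : ∀ a, (w a).foldr s 0 = a) :
    Subgroup.closure (Set.range g) = ⊤ := by
  classical
  let K : Subgroup J := Subgroup.closure (Set.range g)
  have horb : MulAction.orbit K (B 0) = Set.range B := by
    have h0 := HundredAbs.orbit_eq g B s hs id hB Function.injective_id 0 w hw
      (fun j i => ⟨_, rfl⟩) ⟨0, rfl⟩
    have h1 : (Set.range (B ∘ id) : Set (Set V)) = Set.range B := rfl
    rw [← h1, ← h0]
    ext X
    constructor
    · rintro ⟨⟨x, hx⟩, rfl⟩
      exact ⟨x, hx, rfl⟩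
    · rintro ⟨x, hx, rfl⟩
      exact ⟨⟨x, hx⟩, rfl⟩
  have hidx : (MulAction.stabilizer K (B 0)).index = 100 := by
    rw [MulAction.index_stabilizer, horb, Set.ncard_range_of_injective hB]
    simp
  have hst : 6048 ≤ Nat.card (MulAction.stabilizer K (B 0)) := by
    refine (HundredAbs.card_ge (fun j : Fin 4 => g j.castSucc) P hP h).trans ?_
    have hle : ∀ x ∈ Subgroup.closure (Set.range fun j : Fin 4 => g j.castSucc), x ∈ K := by
      intro x hx
      refine Subgroup.closure_mono ?_ hx
      rintro _ ⟨j, rfl⟩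
      exact ⟨j.castSucc, rfl⟩
    have hfix : ∀ x ∈ Subgroup.closure (Set.range fun j : Fin 4 => g j.castSucc),
        x ∈ MulAction.stabilizer J (B 0) := by
      intro x hx
      refine (Subgroup.closure_le _).2 ?_ hx
      rintro _ ⟨j, rfl⟩
      change g j.castSucc • B 0 = B 0
      rw [hs, hs0]
    let f : Subgroup.closure (Set.range fun j : Fin 4 => g j.castSucc) →
        MulAction.stabilizer K (B 0) := fun x => ⟨⟨x, hle x x.2⟩, hfix x x.2⟩
    apply Nat.card_le_card_of_injective f
    intro x y hxy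
    exact Subtype.ext (congrArg (fun z : MulAction.stabilizer K (B 0) => ((z : K) : J)) hxy)
  have hK := (MulAction.stabilizer K (B 0)).card_mul_index
  rw [hidx] at hK
  apply Subgroup.eq_top_of_le_card
  rw [hcard]
  change 604800 ≤ Nat.card K
  omega

/-- The action of `G / Z(G)` on `G` by conjugation. -/
def conjQ (G : Type*) [Group G] : G ⧸ Subgroup.center G →* MulAut G :=
  QuotientGroup.lift (Subgroup.center G) MulAut.conj (by
    intro z hz
    ext x
    rw [MulAut.conj_apply, MulAut.one_apply, ← Subgroup.mem_center_iff.1 hz x,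
      mul_inv_cancel_right])

/-- `J2` acts on the reflection group by conjugation. -/
noncomputable def actHom : J2 →* MulAut W := (conjQ W).comp equivJ2.symm.toMonoidHom

/-- The action of `J2` on `W`. -/
@[reducible] noncomputable def actJ2 : MulAction J2 W := MulAction.compHom W actHom

/-- the element of `W` given by the reflection with number `i` -/
noncomputable def P315 (i : Fin 315) : W := ⟨rf (rt i) (isRoot_rt i), rf_mem _⟩

theorem P315_inj : Function.Injective P315 := by
  intro i k h
  exact rf_rt_inj (congrArg Subtype.val h)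

/-- The five elements of `J2`. -/
noncomputable def g (j : Fin 5) : J2 := equivJ2 (QuotientGroup.mk (P315 (gen j)))

theorem actHom_g (j : Fin 5) (x : W) :
    actHom (g j) x = P315 (gen j) * x * (P315 (gen j))⁻¹ := by
  have h : actHom (g j) = MulAut.conj (P315 (gen j)) := by
    unfold actHom g
    rw [MonoidHom.comp_apply]
    change conjQ W (equivJ2.symm (equivJ2 (QuotientGroup.mk (P315 (gen j))))) = _
    rw [MulEquiv.symm_apply_apply]
    rfl
  rw [h, MulAut.conj_apply]

theorem conj_P315 (j : Fin 5) (i : Fin 315) :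
    P315 (gen j) * P315 i * (P315 (gen j))⁻¹ = P315 (tab j i) := by
  apply Subtype.ext
  change rf (rt (gen j)) (isRoot_rt _) * rf (rt i) (isRoot_rt _) *
    (rf (rt (gen j)) (isRoot_rt _))⁻¹ = rf (rt (tab j i)) (isRoot_rt _)
  rw [conj_rf (rf_mem (isRoot_rt (gen j))) (isRoot_rt i)]
  obtain ⟨u, hu, h⟩ := refl_rt j i
  rw [← rf_smul (isRoot_rt (tab j i)) hu]
  exact rf_congr _ _ h

attribute [local instance] actJ2

theorem g_smul (j : Fin 5) (i : Fin 315) : g j • P315 i = P315 (tab j i) := by
  change actHom (g j) (P315 i) = _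
  rw [actHom_g, conj_P315]

/-- the one hundred sets of reflections -/
def B (a : Fin 100) : Set W := P315 '' S315 a

theorem B_inj : Function.Injective B := by
  intro a b h
  exact S315_inj (P315_inj.image_injective h)

theorem g_smul_B (j : Fin 5) (a : Fin 100) : g j • B a = B (sp j a) := by
  unfold B
  apply Set.Subset.antisymm
  · rintro _ ⟨_, ⟨i, hi, rfl⟩, rfl⟩
    exact ⟨tab j i, (mem_S315 j a i).1 hi, (g_smul j i).symm⟩
  · rintro _ ⟨i, hi, rfl⟩
    refine ⟨P315 (tab j i), ⟨tab j i, ?_, rfl⟩, ?_⟩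
    · rw [mem_S315 j a, tab_tab]; exact hi
    · change g j • P315 (tab j i) = P315 i
      rw [g_smul, tab_tab]

theorem pl_lt : ∀ i : Fin 63, ent PL 9 511 i.val < 315 := by decide +kernel

/-- The 63 lines in the order of `U33`. -/
def pl (i : Fin 63) : Fin 315 := ⟨ent PL 9 511 i.val, pl_lt i⟩

theorem pl_inj : Function.Injective pl := by
  have h : ∀ i k : Fin 63, ent PL 9 511 i.val = ent PL 9 511 k.val → i = k := by decide +kernel
  intro i k hik
  exact h i k (congrArg Fin.val hik)

theorem tab_pl : ∀ (j : Fin 4) (i : Fin 63), ent (TB j.castSucc) 9 511 (ent PL 9 511 i.val) =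
    ent PL 9 511 (U33.tab j i).val := by decide +kernel

theorem sp0 : ∀ j : Fin 4, ent (SP j.castSucc) 7 127 0 = 0 := by decide +kernel

/-- fast evaluation of words in the permutations of the one hundred sets -/
def evN (w : List (Fin 5)) (a : ℕ) : ℕ := w.foldr (fun j a => ent (SP j) 7 127 a) a

theorem evN_eq (w : List (Fin 5)) (a : Fin 100) : (w.foldr sp a).val = evN w a.val := by
  induction w with
  | nil => rfl
  | cons j w ih =>
    rw [List.foldr_cons]
    change ent (SP j) 7 127 (w.foldr sp a).val = ent (SP j) 7 127 (evN w a.val)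
    rw [ih]

/-- words with four letters -/
def evN4 (w : List (Fin 4)) (a : ℕ) : ℕ := w.foldr (fun j a => ent (SP j.castSucc) 7 127 a) a

theorem evN4_eq (w : List (Fin 4)) (a : Fin 100) :
    (w.foldr (fun j : Fin 4 => sp j.castSucc) a).val = evN4 w a.val := by
  induction w with
  | nil => rfl
  | cons j w ih =>
    rw [List.foldr_cons]
    change ent (SP j.castSucc) 7 127 (w.foldr (fun j : Fin 4 => sp j.castSucc) a).val =
      ent (SP j.castSucc) 7 127 (evN4 w a.val)
    rw [ih]

theorem w_all : ∀ a : Fin 100, evN (wL.getD a.val []) 0 = a.val := by decide +kernel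

theorem e1_lt : ∀ i : Fin 36, e1L.getD i.val 0 < 100 := by decide +kernel
theorem e2_lt : ∀ i : Fin 63, e2L.getD i.val 0 < 100 := by decide +kernel

/-- the orbit of length 36 -/
def o1 (i : Fin 36) : Fin 100 := ⟨e1L.getD i.val 0, e1_lt i⟩
/-- the orbit of length 63 -/
def o2 (i : Fin 63) : Fin 100 := ⟨e2L.getD i.val 0, e2_lt i⟩

theorem o1_inj : Function.Injective o1 := by
  have h : ∀ i k : Fin 36, e1L.getD i.val 0 = e1L.getD k.val 0 → i = k := by decide +kernel
  intro i k hik
  exact h i k (congrArg Fin.val hik)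

theorem o2_inj : Function.Injective o2 := by
  have h : ∀ i k : Fin 63, e2L.getD i.val 0 = e2L.getD k.val 0 → i = k := by decide +kernel
  intro i k hik
  exact h i k (congrArg Fin.val hik)

theorem w1_all : ∀ i : Fin 36, evN4 (w1L.getD i.val []) (e1L.getD 0 0) = e1L.getD i.val 0 := by
  decide +kernel
theorem w2_all : ∀ i : Fin 63, evN4 (w2L.getD i.val []) (e2L.getD 0 0) = e2L.getD i.val 0 := by
  decide +kernel

theorem cl1 : ∀ (j : Fin 4) (i : Fin 36), ∃ i' : Fin 36,
    ent (SP j.castSucc) 7 127 (e1L.getD i.val 0) = e1L.getD i'.val 0 := by decide +kernel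
theorem cl2 : ∀ (j : Fin 4) (i : Fin 63), ∃ i' : Fin 63,
    ent (SP j.castSucc) 7 127 (e2L.getD i.val 0) = e2L.getD i'.val 0 := by decide +kernel

/-- S1624 from the order of `J2`. -/
theorem main (hcard : Nat.card J2 = 604800) : ∃ H : Subgroup J2, H.index = 100 ∧
    (∃ (F : Type) (_ : Field F) (_ : Fintype F), Fintype.card F = 9 ∧
      Nonempty (↥H ≃* Cfsg.PSU 3 F 3)) ∧
    ∃ c₁ c₂ : J2 ⧸ H, (MulAction.orbit ↥H c₁).ncard = 36 ∧
      (MulAction.orbit ↥H c₂).ncard = 63 := by
  have hfin : Finite J2 := Nat.finite_of_card_ne_zero (by rw [hcard]; norm_num)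
  have hs0 : ∀ j : Fin 4, sp j.castSucc 0 = 0 := fun j => Fin.ext (sp0 j)
  have hP : Function.Injective (fun i => P315 (pl i)) := P315_inj.comp pl_inj
  have h : ∀ (j : Fin 4) i, g j.castSucc • P315 (pl i) = P315 (pl (U33.sig j i)) := by
    intro j i
    rw [g_smul]
    congr 1
    exact Fin.ext (tab_pl j i)
  have hw : ∀ a : Fin 100, (wL.getD a.val []).foldr sp 0 = a := by
    intro a
    apply Fin.ext
    rw [evN_eq]
    exact w_all a
  exact HundredAbs.main_abs hcard g
    (closure_eq_top hcard g B B_inj sp g_smul_B hs0 _ hP h _ hw) B B_inj sp g_smul_B hs0 _ hP h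
    _ hw o1 o1_inj (fun i => w1L.getD i.val [])
    (fun i => Fin.ext ((evN4_eq _ _).trans (w1_all i)))
    (fun j i => by
      obtain ⟨i', hi'⟩ := cl1 j i
      exact ⟨i', Fin.ext hi'⟩)
    o2 o2_inj (fun i => w2L.getD i.val [])
    (fun i => Fin.ext ((evN4_eq _ _).trans (w2_all i)))
    (fun j i => by
      obtain ⟨i', hi'⟩ := cl2 j i
      exact ⟨i', Fin.ext hi'⟩)

end Cfsg.Agent.J2.HundredFinal
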