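import Cfsg.Agent.J2.Ico

/-!
# The icosian Leech lattice in integer coordinates

`Vec` = triples of integral icosians, `InLam` = membership in the icosian Leech lattice (with the
boolean check `lamB`), `ip` = the Hermitian product, `hip` = half of it (an icosian for vectors of the
lattice), `refl r` = the quaternionic reflection.
-/

set_option autoImplicit false
set_option linter.unusedSimpArgs false

open Quaternion

namespace Cfsg.Agent.J2.Lattice

open Cfsg.Spor Cfsg.Agent.J2.ZTau Cfsg.Agent.J2.Ico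

/-! ### Norm, evenness, halving -/

/-- the norm `x * star x` as an element of `ℤ[τ]` -/
def normZ (x : Icos) : Zt :=
  x.p0 * x.p0 + x.p1 * x.p1 + x.p2 * x.p2 + x.p3 * x.p3 + x.p0 * x.p2 - S * (x.p0 * x.p3) +
    S * (x.p1 * x.p2) + x.p1 * x.p3

theorem mul_star_self (x : Icos) : x * star x = ofZt (normZ x) := by
  have hS : S * S = S + 1 := S_sq
  ext1
  · simp only [mul_p0, star_p0, star_p1, star_p2, star_p3, ofZt, normZ]
    ring
  · simp only [mul_p1, star_p0, star_p1, star_p2, star_p3, ofZt, normZ]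
    ring
  · simp only [mul_p2, star_p0, star_p1, star_p2, star_p3, ofZt, normZ]
    ring
  · simp only [mul_p3, star_p0, star_p1, star_p2, star_p3, ofZt, normZ]
    ring

theorem ofZt_comm (c : Zt) (x : Icos) : ofZt c * x = x * ofZt c := by
  ext1 <;> simp only [mul_p0, mul_p1, mul_p2, mul_p3, ofZt] <;> ring

theorem ofZt_injective : Function.Injective ofZt := fun _ _ h => congrArg Icos.p0 h

theorem ofZt_mul (c d : Zt) : ofZt (c * d) = ofZt c * ofZt d := by
  ext1 <;> simp only [mul_p0, mul_p1, mul_p2, mul_p3, ofZt] <;> ring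

theorem ofZt_add (c d : Zt) : ofZt (c + d) = ofZt c + ofZt d := by
  ext1 <;> simp [ofZt]

theorem ofZt_sub (c d : Zt) : ofZt (c - d) = ofZt c - ofZt d := by
  ext1 <;> simp [ofZt]

theorem ofZt_neg (c : Zt) : ofZt (-c) = -ofZt c := by
  ext1 <;> simp [ofZt]

theorem ofZt_one : ofZt 1 = 1 := rfl
theorem ofZt_zero : ofZt 0 = 0 := rfl
theorem ofZt_two : ofZt 2 = 2 := by
  rw [← one_add_one_eq_two, ofZt_add, ofZt_one, one_add_one_eq_two]
theorem ofZt_four : ofZt 4 = 4 := by
  have h4 : (4 : Zt) = 2 + 2 := by norm_num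
  have h4' : (4 : Icos) = 2 + 2 := by norm_num
  rw [h4, ofZt_add, ofZt_two, h4']

/-- all 8 integer coordinates are even -/
def ev (x : Icos) : Bool :=
  x.p0.a % 2 == 0 && x.p0.b % 2 == 0 && x.p1.a % 2 == 0 && x.p1.b % 2 == 0 &&
  x.p2.a % 2 == 0 && x.p2.b % 2 == 0 && x.p3.a % 2 == 0 && x.p3.b % 2 == 0

/-- coordinatewise halving -/
def half (x : Icos) : Icos :=
  ⟨⟨x.p0.a / 2, x.p0.b / 2⟩, ⟨x.p1.a / 2, x.p1.b / 2⟩, ⟨x.p2.a / 2, x.p2.b / 2⟩,
    ⟨x.p3.a / 2, x.p3.b / 2⟩⟩

theorem half_add_self (x : Icos) : half (x + x) = x := by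
  ext <;> simp only [half, add_p0, add_p1, add_p2, add_p3, add_a, add_b] <;> omega

theorem ev_add_self (x : Icos) : ev (x + x) = true := by
  simp only [ev, add_p0, add_p1, add_p2, add_p3, add_a, add_b, Bool.and_eq_true, beq_iff_eq]
  omega

theorem half_add_half {x : Icos} (h : ev x = true) : half x + half x = x := by
  simp only [ev, Bool.and_eq_true, beq_iff_eq] at h
  ext <;> simp only [half, add_p0, add_p1, add_p2, add_p3, add_a, add_b] <;> omega

theorem ev_iff {x : Icos} : ev x = true ↔ ∃ y, x = y + y :=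
  ⟨fun h => ⟨half x, (half_add_half h).symm⟩, by rintro ⟨y, rfl⟩; exact ev_add_self y⟩

theorem add_self_injective {x y : Icos} (h : x + x = y + y) : x = y := by
  rw [← half_add_self x, h, half_add_self]

/-! ### The left ideals `I h` and `I h̄` -/

/-- the icosian h = ½(−√5 + i + j + k) -/
def hh : Icos := ⟨⟨2, -2⟩, ⟨1, 0⟩, ⟨-1, 1⟩, ⟨1, -1⟩⟩

theorem toQ_hh : toQ hh = icoH := by
  have ht := tau_sq
  have h5 := sqrt5_eq
  ext
  · rw [toQ_re]; simp only [hh, toR_apply, icoH, sig_eq, h5]; push_cast; linear_combination (-1/2 : ℝ) * ht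
  · rw [toQ_imI]; simp only [hh, toR_apply, icoH, sig_eq]; push_cast; linear_combination (-1/2 : ℝ) * ht
  · rw [toQ_imJ]; simp only [hh, toR_apply, icoH, sig_eq]; push_cast; linear_combination (1/2 : ℝ) * ht
  · rw [toQ_imK]; simp only [hh, toR_apply, icoH, sig_eq]; push_cast; linear_combination (1/2 : ℝ) * ht

theorem toQ_star_hh : toQ (star hh) = star icoH := by rw [toQ_star, toQ_hh]

theorem hh_mul_star : hh * star hh = 2 := by
  rw [mul_star_self, ← ofZt_two]; rfl

theorem star_mul_hh : star hh * hh = 2 := by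
  have h : star hh * hh = ofZt ⟨2, 0⟩ := by decide
  rw [h, ← ofZt_two]; rfl

/-- `x ∈ I h` -/
def InH (x : Icos) : Prop := ∃ a, x = a * hh
/-- `x ∈ I h̄` -/
def InHs (x : Icos) : Prop := ∃ a, x = a * star hh

/-- boolean check for `x ∈ I h` -/
def hB (x : Icos) : Bool := ev (x * star hh)
/-- boolean check for `x ∈ I h̄` -/
def hsB (x : Icos) : Bool := ev (x * hh)

theorem hB_iff {x : Icos} : hB x = true ↔ InH x := by
  unfold hB
  rw [ev_iff]
  constructor
  · rintro ⟨y, hy⟩
    refine ⟨y, add_self_injective ?_⟩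
    calc x + x = x * (star hh * hh) := by rw [star_mul_hh, mul_two]
      _ = (x * star hh) * hh := by rw [mul_assoc]
      _ = y * hh + y * hh := by rw [hy, add_mul]
  · rintro ⟨a, rfl⟩
    exact ⟨a, by rw [mul_assoc, hh_mul_star, mul_two]⟩

theorem hsB_iff {x : Icos} : hsB x = true ↔ InHs x := by
  unfold hsB
  rw [ev_iff]
  constructor
  · rintro ⟨y, hy⟩
    refine ⟨y, add_self_injective ?_⟩
    calc x + x = x * (hh * star hh) := by rw [hh_mul_star, mul_two]
      _ = (x * hh) * star hh := by rw [mul_assoc]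
      _ = y * star hh + y * star hh := by rw [hy, add_mul]
  · rintro ⟨a, rfl⟩
    exact ⟨a, by rw [mul_assoc, star_mul_hh, mul_two]⟩

theorem InH.add {x y : Icos} (hx : InH x) (hy : InH y) : InH (x + y) := by
  obtain ⟨a, rfl⟩ := hx; obtain ⟨b, rfl⟩ := hy; exact ⟨a + b, by rw [add_mul]⟩
theorem InH.neg {x : Icos} (hx : InH x) : InH (-x) := by
  obtain ⟨a, rfl⟩ := hx; exact ⟨-a, by rw [neg_mul]⟩
theorem InH.sub {x y : Icos} (hx : InH x) (hy : InH y) : InH (x - y) := by
  obtain ⟨a, rfl⟩ := hx; obtain ⟨b, rfl⟩ := hy; exact ⟨a - b, by rw [sub_mul]⟩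
theorem InH.mul {x : Icos} (hx : InH x) (c : Icos) : InH (c * x) := by
  obtain ⟨a, rfl⟩ := hx; exact ⟨c * a, by rw [mul_assoc]⟩
theorem InHs.add {x y : Icos} (hx : InHs x) (hy : InHs y) : InHs (x + y) := by
  obtain ⟨a, rfl⟩ := hx; obtain ⟨b, rfl⟩ := hy; exact ⟨a + b, by rw [add_mul]⟩
theorem InHs.neg {x : Icos} (hx : InHs x) : InHs (-x) := by
  obtain ⟨a, rfl⟩ := hx; exact ⟨-a, by rw [neg_mul]⟩
theorem InHs.sub {x y : Icos} (hx : InHs x) (hy : InHs y) : InHs (x - y) := by
  obtain ⟨a, rfl⟩ := hx; obtain ⟨b, rfl⟩ := hy; exact ⟨a - b, by rw [sub_mul]⟩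
theorem InHs.mul {x : Icos} (hx : InHs x) (c : Icos) : InHs (c * x) := by
  obtain ⟨a, rfl⟩ := hx; exact ⟨c * a, by rw [mul_assoc]⟩

theorem inH_two_mul (x : Icos) : InH (x + x) :=
  ⟨x * star hh, by rw [mul_assoc, star_mul_hh, mul_two]⟩
theorem inHs_two_mul (x : Icos) : InHs (x + x) :=
  ⟨x * hh, by rw [mul_assoc, hh_mul_star, mul_two]⟩

theorem mem_leftIdeal_icoH {x : Icos} : toQ x ∈ leftIdeal icoH ↔ InH x := by
  constructor
  · rintro ⟨a, ha, hx⟩
    obtain ⟨b, rfl⟩ := mem_icosians.1 ha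
    exact ⟨b, toQ_injective (by rw [map_mul, toQ_hh]; exact hx)⟩
  · rintro ⟨a, rfl⟩
    exact ⟨toQ a, toQ_mem a, by rw [map_mul, toQ_hh]⟩

theorem mem_leftIdeal_star_icoH {x : Icos} : toQ x ∈ leftIdeal (star icoH) ↔ InHs x := by
  constructor
  · rintro ⟨a, ha, hx⟩
    obtain ⟨b, rfl⟩ := mem_icosians.1 ha
    exact ⟨b, toQ_injective (by rw [map_mul, toQ_star_hh]; exact hx)⟩
  · rintro ⟨a, rfl⟩
    exact ⟨toQ a, toQ_mem a, by rw [map_mul, toQ_star_hh]⟩

/-! ### Triples -/

/-- A triple of integral icosians. -/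
@[ext] structure Vec where
  /-- first coordinate -/
  x : Icos
  /-- second coordinate -/
  y : Icos
  /-- third coordinate -/
  z : Icos

/-- decidable equality -/
instance decEqVec : DecidableEq Vec := fun u v =>
  if h : u.x = v.x ∧ u.y = v.y ∧ u.z = v.z then isTrue (Vec.ext h.1 h.2.1 h.2.2)
  else isFalse (fun e => h ⟨congrArg Vec.x e, congrArg Vec.y e, congrArg Vec.z e⟩)

/-- scalar multiplication of triples by icosians from the left -/
def vsmul (c : Icos) (v : Vec) : Vec := ⟨c * v.x, c * v.y, c * v.z⟩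

instance zeroVec : Zero Vec := ⟨⟨0, 0, 0⟩⟩
instance addVec : Add Vec := ⟨fun u v => ⟨u.x + v.x, u.y + v.y, u.z + v.z⟩⟩
instance negVec : Neg Vec := ⟨fun u => ⟨-u.x, -u.y, -u.z⟩⟩
instance subVec : Sub Vec := ⟨fun u v => ⟨u.x - v.x, u.y - v.y, u.z - v.z⟩⟩
instance smulVec : SMul Icos Vec := ⟨vsmul⟩

@[simp] theorem zero_x : (0 : Vec).x = 0 := rfl
@[simp] theorem zero_y : (0 : Vec).y = 0 := rfl
@[simp] theorem zero_z : (0 : Vec).z = 0 := rfl
@[simp] theorem add_x (u v : Vec) : (u + v).x = u.x + v.x := rfl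
@[simp] theorem add_y (u v : Vec) : (u + v).y = u.y + v.y := rfl
@[simp] theorem add_z (u v : Vec) : (u + v).z = u.z + v.z := rfl
@[simp] theorem neg_x (u : Vec) : (-u).x = -u.x := rfl
@[simp] theorem neg_y (u : Vec) : (-u).y = -u.y := rfl
@[simp] theorem neg_z (u : Vec) : (-u).z = -u.z := rfl
@[simp] theorem sub_x (u v : Vec) : (u - v).x = u.x - v.x := rfl
@[simp] theorem sub_y (u v : Vec) : (u - v).y = u.y - v.y := rfl
@[simp] theorem sub_z (u v : Vec) : (u - v).z = u.z - v.z := rfl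
@[simp] theorem smul_x (c : Icos) (v : Vec) : (c • v).x = c * v.x := rfl
@[simp] theorem smul_y (c : Icos) (v : Vec) : (c • v).y = c * v.y := rfl
@[simp] theorem smul_z (c : Icos) (v : Vec) : (c • v).z = c * v.z := rfl

/-- The vector of quaternions of a triple. -/
noncomputable def toV (v : Vec) : Fin 3 → ℍ[ℝ] := ![toQ v.x, toQ v.y, toQ v.z]

@[simp] theorem toV_zero' (v : Vec) : toV v 0 = toQ v.x := rfl
@[simp] theorem toV_one' (v : Vec) : toV v 1 = toQ v.y := rfl
@[simp] theorem toV_two' (v : Vec) : toV v 2 = toQ v.z := rfl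

theorem toV_injective : Function.Injective toV := by
  intro u v h
  exact Vec.ext (toQ_injective (congrFun h 0)) (toQ_injective (congrFun h 1))
    (toQ_injective (congrFun h 2))

/-- Membership in the icosian Leech lattice. -/
def InLam (v : Vec) : Prop := InH (v.x - v.y) ∧ InH (v.y - v.z) ∧ InHs (v.x + v.y + v.z)

/-- boolean check of `InLam` -/
def lamB (v : Vec) : Bool := hB (v.x - v.y) && (hB (v.y - v.z) && hsB (v.x + v.y + v.z))

theorem lamB_iff {v : Vec} : lamB v = true ↔ InLam v := by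
  unfold lamB InLam
  rw [Bool.and_eq_true, Bool.and_eq_true, hB_iff, hB_iff, hsB_iff]

theorem toV_mem {v : Vec} : toV v ∈ icoLeech ↔ InLam v := by
  constructor
  · rintro ⟨-, h1, h2, h3⟩
    rw [toV_zero', toV_one', ← map_sub] at h1
    rw [toV_two', toV_one', ← map_sub] at h2
    rw [toV_zero', toV_one', toV_two', ← map_add, ← map_add] at h3
    exact ⟨mem_leftIdeal_icoH.1 h1, mem_leftIdeal_icoH.1 h2, mem_leftIdeal_star_icoH.1 h3⟩
  · rintro ⟨h1, h2, h3⟩
    refine ⟨?_, ?_, ?_, ?_⟩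
    · intro t
      fin_cases t
      · exact toQ_mem _
      · exact toQ_mem _
      · exact toQ_mem _
    · rw [toV_zero', toV_one', ← map_sub]; exact mem_leftIdeal_icoH.2 h1
    · rw [toV_two', toV_one', ← map_sub]; exact mem_leftIdeal_icoH.2 h2
    · rw [toV_zero', toV_one', toV_two', ← map_add, ← map_add]
      exact mem_leftIdeal_star_icoH.2 h3

/-- Every vector of the icosian Leech lattice comes from a unique integral triple. -/
theorem mem_icoLeech {u : Fin 3 → ℍ[ℝ]} : u ∈ icoLeech ↔ ∃ v : Vec, InLam v ∧ toV v = u := by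
  constructor
  · intro hu
    obtain ⟨x, hx⟩ := mem_icosians.1 (hu.1 0)
    obtain ⟨y, hy⟩ := mem_icosians.1 (hu.1 1)
    obtain ⟨z, hz⟩ := mem_icosians.1 (hu.1 2)
    have h : toV ⟨x, y, z⟩ = u := by
      funext t
      fin_cases t
      · exact hx
      · exact hy
      · exact hz
    exact ⟨⟨x, y, z⟩, toV_mem.1 (h ▸ hu), h⟩
  · rintro ⟨v, hv, rfl⟩
    exact toV_mem.2 hv

theorem InLam.add {u v : Vec} (hu : InLam u) (hv : InLam v) : InLam (u + v) := by
  obtain ⟨a, b, c⟩ := hu
  obtain ⟨a', b', c'⟩ := hv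
  refine ⟨?_, ?_, ?_⟩
  · have e : (u + v).x - (u + v).y = (u.x - u.y) + (v.x - v.y) := by simp only [add_x, add_y]; abel
    rw [e]; exact a.add a'
  · have e : (u + v).y - (u + v).z = (u.y - u.z) + (v.y - v.z) := by simp only [add_y, add_z]; abel
    rw [e]; exact b.add b'
  · have e : (u + v).x + (u + v).y + (u + v).z = (u.x + u.y + u.z) + (v.x + v.y + v.z) := by
      simp only [add_x, add_y, add_z]; abel
    rw [e]; exact c.add c'

theorem InLam.smul {v : Vec} (hv : InLam v) (c : Icos) : InLam (c • v) := by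
  obtain ⟨a, b, d⟩ := hv
  refine ⟨?_, ?_, ?_⟩
  · rw [smul_x, smul_y, ← mul_sub]; exact a.mul c
  · rw [smul_z, smul_y, ← mul_sub]; exact b.mul c
  · rw [smul_x, smul_y, smul_z, ← mul_add, ← mul_add]; exact d.mul c

theorem InLam.neg {v : Vec} (hv : InLam v) : InLam (-v) := by
  have e : -v = (-1 : Icos) • v := by ext1 <;> simp
  rw [e]; exact hv.smul _

theorem InLam.sub {u v : Vec} (hu : InLam u) (hv : InLam v) : InLam (u - v) := by
  have e : u - v = u + -v := by ext1 <;> simp [sub_eq_add_neg]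
  rw [e]; exact hu.add hv.neg

/-! ### The Hermitian product -/

/-- The Hermitian product `Σ v_t * star w_t`. -/
def ip (v w : Vec) : Icos := v.x * star w.x + v.y * star w.y + v.z * star w.z

theorem toQ_ip (v w : Vec) : toQ (ip v w) = qip (toV v) (toV w) := by
  simp only [qip, Fin.sum_univ_three, toV_zero', toV_one', toV_two', ip, map_add, map_mul, toQ_star]

/-- On the lattice the Hermitian product takes values in `2 I`. -/
theorem ip_even {v w : Vec} (hv : InLam v) (hw : InLam w) : ∃ c, ip v w = c + c := by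
  obtain ⟨⟨a, ha⟩, ⟨b, hb⟩, ⟨p, hp⟩⟩ := hv
  obtain ⟨⟨a', ha'⟩, ⟨b', hb'⟩, ⟨p', hp'⟩⟩ := hw
  have k1 := hh_mul_star
  have k2 := star_mul_hh
  have ey : v.y = v.x - a * hh := by rw [← ha]; abel
  have ez : v.z = v.x - (a + b) * hh := by rw [add_mul, ← ha, ← hb]; abel
  have ey' : star w.y = star w.x - star hh * star a' := by
    rw [← star_mul, ← ha', star_sub]; abel
  have ez' : star w.z = star w.x - star hh * star (a' + b') := by
    rw [← star_mul, add_mul, ← ha', ← hb', ← star_sub]; congr 1; abel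
  have ep : v.x = p * star hh + (a + (a + b)) * hh - (v.x + v.x) := by
    rw [← hp, ey, ez]; noncomm_ring
  have ep' : star w.x = hh * star p' + star hh * (star a' + (star a' + star b')) -
      (star w.x + star w.x) := by
    have e1 : hh * star p' = star (p' * star hh) := by rw [star_mul, star_star]
    rw [e1, ← hp', star_add, star_add, ey', ez', star_add]
    noncomm_ring
  unfold ip
  rw [ey, ez, ey', ez', star_add]
  generalize star w.x = X' at *
  generalize v.x = X at *
  generalize star hh = g at *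
  generalize hh = h at *
  generalize star a' = A' at *
  generalize star b' = B' at *
  generalize star p' = P' at *
  refine ⟨p * P' - p * g * X' - (a + (a + b)) * (A' + (A' + B')) + X * g * (A' + (A' + B')) +
    a * A' + (a + b) * (A' + B'), ?_⟩
  linear_combination (norm := noncomm_ring) ep * X' + p * g * ep' -
    ep * (g * (A' + (A' + B'))) + p * k2 * P' - (a + (a + b)) * k1 * (A' + (A' + B')) +
    a * k1 * A' + (a + b) * k1 * (A' + B')

/-- half of the Hermitian product -/
def hip (v w : Vec) : Icos := half (ip v w)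

theorem hip_add_hip {v w : Vec} (hv : InLam v) (hw : InLam w) : hip v w + hip v w = ip v w := by
  obtain ⟨c, hc⟩ := ip_even hv hw
  unfold hip
  rw [hc, half_add_self]

theorem toQ_hip {v w : Vec} (hv : InLam v) (hw : InLam w) :
    toQ (hip v w) = (1 / 2 : ℝ) • qip (toV v) (toV w) := by
  rw [← toQ_ip, ← hip_add_hip hv hw, map_add, ← two_smul ℝ (toQ (hip v w)), smul_smul]
  norm_num

/-- The quaternionic reflection in the model. -/
def refl (r v : Vec) : Vec := v - hip v r • r

theorem toV_refl {r v : Vec} (hr : InLam r) (hv : InLam v) :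
    toV (refl r v) = qrefl (toV r) (toV v) := by
  funext t
  unfold qrefl
  rw [← toQ_hip hv hr]
  fin_cases t
  · simp [refl]
  · simp [refl]
  · simp [refl]

theorem InLam.refl {r v : Vec} (hr : InLam r) (hv : InLam v) : InLam (refl r v) :=
  hv.sub (hr.smul _)

/-- `v` is a minimal vector (root): `v ∈ Λ` and `v·v = 4`. -/
def IsRoot (v : Vec) : Prop := InLam v ∧ ip v v = 4

theorem ip_self (v : Vec) : ip v v = ofZt (normZ v.x + normZ v.y + normZ v.z) := by
  unfold ip
  rw [mul_star_self, mul_star_self, mul_star_self, ofZt_add, ofZt_add]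

theorem isRoot_iff {v : Vec} : IsRoot v ↔ InLam v ∧ normZ v.x + normZ v.y + normZ v.z = 4 := by
  unfold IsRoot
  rw [ip_self, ← ofZt_four, ofZt_injective.eq_iff]

theorem isRoot_iff_qip {v : Vec} : IsRoot v ↔ toV v ∈ icoLeech ∧ qip (toV v) (toV v) = 4 := by
  unfold IsRoot
  rw [toV_mem, ← toQ_ip]
  have h4 : toQ (4 : Icos) = (4 : ℍ[ℝ]) := map_ofNat toQ 4
  constructor
  · rintro ⟨h1, h2⟩
    exact ⟨h1, by rw [h2, h4]⟩
  · rintro ⟨h1, h2⟩
    exact ⟨h1, toQ_injective (by rw [h2, h4])⟩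

end Cfsg.Agent.J2.Lattice
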