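import Cfsg.Agent.J2.Ico

/-!
# The norm of icosians

`nrm : Icos → Zt` with `x * star x = ofZt (nrm x)`; it is multiplicative, non-negative in both real
embeddings, and the trace of the norm of a nonzero icosian is at least 2.
-/

set_option autoImplicit false

open Quaternion

namespace Cfsg.Agent.J2.Norm

open Cfsg.Spor Cfsg.Agent.J2.ZTau Cfsg.Agent.J2.Ico

/-! ### totally non-negative elements of `ℤ[τ]` -/

/-- Both real embeddings are non-negative. -/
def TotNonneg (z : Zt) : Prop := 0 ≤ toR z ∧ 0 ≤ toR' z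

/-- The trace `z + z'` of an element of `ℤ[τ]`. -/
def trc (z : Zt) : ℤ := 2 * z.a + z.b

theorem trc_def (z : Zt) : trc z = 2 * z.a + z.b := rfl

theorem trc_add (x y : Zt) : trc (x + y) = trc x + trc y := by
  simp only [trc_def, add_a, add_b]; ring

@[simp] theorem trc_zero : trc 0 = 0 := by simp [trc_def]

theorem toR_add_toR' (z : Zt) : toR z + toR' z = (trc z : ℝ) := by
  rw [toR_apply, toR'_apply, sig_eq, trc_def]; push_cast; ring

theorem toR_mul_toR' (z : Zt) : toR z * toR' z = ((z.a ^ 2 + z.a * z.b - z.b ^ 2 : ℤ) : ℝ) := by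
  rw [toR_apply, toR'_apply, sig_eq]; push_cast
  linear_combination (-(z.b : ℝ) ^ 2) * tau_sq

theorem toR'_injective : Function.Injective toR' := by
  rw [injective_iff_map_eq_zero]
  intro x hx
  have h : toR ⟨x.a + x.b, -x.b⟩ = 0 := by
    rw [← hx, toR_apply, toR'_apply, sig_eq]; push_cast; ring
  have h2 : (⟨x.a + x.b, -x.b⟩ : Zt) = 0 := toR_injective (by rw [h, map_zero])
  have ha := congrArg Zt.a h2
  have hb := congrArg Zt.b h2
  simp only [zero_a, zero_b] at ha hb
  ext
  · simp only [zero_a]; omega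
  · simp only [zero_b]; omega

theorem TotNonneg.disc_pos {z : Zt} (h : TotNonneg z) (hz : z ≠ 0) :
    1 ≤ z.a ^ 2 + z.a * z.b - z.b ^ 2 := by
  have h1 : 0 < toR z := lt_of_le_of_ne h.1 (fun h0 => hz (toR_injective (by rw [← h0, map_zero])))
  have h2 : 0 < toR' z :=
    lt_of_le_of_ne h.2 (fun h0 => hz (toR'_injective (by rw [← h0, map_zero])))
  have h3 := mul_pos h1 h2
  rw [toR_mul_toR'] at h3
  have h4 : 0 < z.a ^ 2 + z.a * z.b - z.b ^ 2 := by exact_mod_cast h3
  omega

theorem TotNonneg.trc_nonneg {z : Zt} (h : TotNonneg z) : 0 ≤ trc z := by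
  have := add_nonneg h.1 h.2
  rw [toR_add_toR'] at this
  exact_mod_cast this

/-- Nonzero totally non-negative elements have trace at least 2. -/
theorem TotNonneg.two_le_trc {z : Zt} (h : TotNonneg z) (hz : z ≠ 0) : 2 ≤ trc z := by
  have h1 := h.disc_pos hz
  have h2 := h.trc_nonneg
  have h3 : (trc z) ^ 2 = 4 * (z.a ^ 2 + z.a * z.b - z.b ^ 2) + 5 * z.b ^ 2 := by
    rw [trc_def]; ring
  nlinarith [sq_nonneg z.b]

theorem TotNonneg.eq_zero_of_trc {z : Zt} (h : TotNonneg z) (ht : trc z < 2) : z = 0 := by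
  by_contra hz
  have := h.two_le_trc hz
  omega

/-- The only totally positive element of trace 2 is 1. -/
theorem TotNonneg.eq_one_of_trc {z : Zt} (h : TotNonneg z) (ht : trc z = 2) : z = 1 := by
  have hz : z ≠ 0 := by rintro rfl; simp at ht
  have h1 := h.disc_pos hz
  rw [trc_def] at ht
  have hb : z.b = 2 - 2 * z.a := by omega
  rw [hb] at h1
  have ha : z.a = 1 := by nlinarith [sq_nonneg (z.a - 1)]
  ext
  · simp [ha]
  · simp [hb, ha]

/-- The totally positive elements of trace 3 are `τ² = 1 + τ` and `σ² = 2 - τ`. -/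
theorem TotNonneg.eq_of_trc_three {z : Zt} (h : TotNonneg z) (ht : trc z = 3) :
    z = ⟨1, 1⟩ ∨ z = ⟨2, -1⟩ := by
  have hz : z ≠ 0 := by rintro rfl; simp at ht
  have h1 := h.disc_pos hz
  rw [trc_def] at ht
  have hb : z.b = 3 - 2 * z.a := by omega
  rw [hb] at h1
  have ha1 : 1 ≤ z.a := by nlinarith
  have ha2 : z.a ≤ 2 := by nlinarith
  have ha : z.a = 1 ∨ z.a = 2 := by omega
  rcases ha with ha | ha
  · left; ext
    · exact ha
    · simp [hb, ha]
  · right; ext
    · exact ha
    · simp [hb, ha]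

/-- The only totally positive element of trace 4 is 2. -/
theorem TotNonneg.eq_two_of_trc {z : Zt} (h : TotNonneg z) (ht : trc z = 4) : z = ⟨2, 0⟩ := by
  have hz : z ≠ 0 := by rintro rfl; simp at ht
  have h1 := h.disc_pos hz
  rw [trc_def] at ht
  have hb : z.b = 4 - 2 * z.a := by omega
  rw [hb] at h1
  have ha1 : 2 ≤ z.a := by nlinarith
  have ha2 : z.a ≤ 2 := by nlinarith
  have ha : z.a = 2 := by omega
  ext
  · exact ha
  · simp [hb, ha]

/-! ### the norm -/

/-- The norm of an icosian, as an element of `ℤ[τ]`. -/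
def nrm (x : Icos) : Zt :=
  x.p0 * x.p0 + x.p1 * x.p1 + x.p2 * x.p2 + x.p3 * x.p3 + x.p0 * x.p2 + x.p1 * x.p3 +
    S * (x.p1 * x.p2 - x.p0 * x.p3)

theorem nrm_def (x : Icos) : nrm x =
  x.p0 * x.p0 + x.p1 * x.p1 + x.p2 * x.p2 + x.p3 * x.p3 + x.p0 * x.p2 + x.p1 * x.p3 +
    S * (x.p1 * x.p2 - x.p0 * x.p3) := rfl

theorem mul_star_eq (x : Icos) : x * star x = ofZt (nrm x) := by
  ext1
  · rw [mul_p0, nrm_def]; simp only [star_p0, star_p1, star_p2, star_p3, ofZt]; ring
  · rw [mul_p1]; simp only [star_p0, star_p1, star_p2, star_p3, ofZt]; ring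
  · rw [mul_p2]; simp only [star_p0, star_p1, star_p2, star_p3, ofZt]; ring
  · rw [mul_p3]; simp only [star_p0, star_p1, star_p2, star_p3, ofZt]; ring

theorem nrm_star (x : Icos) : nrm (star x) = nrm x := by
  rw [nrm_def, nrm_def]; simp only [star_p0, star_p1, star_p2, star_p3]
  rw [S_eq]; ring

theorem star_mul_eq (x : Icos) : star x * x = ofZt (nrm x) := by
  have := mul_star_eq (star x)
  rwa [star_star, nrm_star] at this

theorem normSq_toQ (x : Icos) : Quaternion.normSq (toQ x) = toR (nrm x) := by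
  have h := congrArg toQ (mul_star_eq x)
  rw [map_mul, toQ_star, toQ_ofZt, Quaternion.self_mul_star] at h
  exact Quaternion.coe_injective h

theorem nrm_eq_of_normSq {x : Icos} {z : Zt} (h : Quaternion.normSq (toQ x) = toR z) :
    nrm x = z := toR_injective (by rw [← normSq_toQ, h])

theorem nrm_mul (x y : Icos) : nrm (x * y) = nrm x * nrm y := by
  apply toR_injective
  rw [map_mul, ← normSq_toQ, ← normSq_toQ, ← normSq_toQ, map_mul, map_mul]

@[simp] theorem nrm_zero : nrm 0 = 0 := by decide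
@[simp] theorem nrm_one : nrm 1 = 1 := by decide

theorem nrm_neg (x : Icos) : nrm (-x) = nrm x := by
  rw [nrm_def, nrm_def]; simp only [neg_p0, neg_p1, neg_p2, neg_p3]; ring

theorem nrm_eq_zero {x : Icos} : nrm x = 0 ↔ x = 0 := by
  constructor
  · intro h
    have h1 := normSq_toQ x
    rw [h, map_zero, Quaternion.normSq_eq_zero] at h1
    exact toQ_injective (by rw [h1, map_zero])
  · rintro rfl; exact nrm_zero

/-- The four coordinates of `2 x` with respect to `1, i, j, k`, in `ℤ[τ]`. -/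
def dbl0 (x : Icos) : Zt := 2 * x.p0 + x.p2 - S * x.p3
/-- coordinate of `i` in `2 x` -/
def dbl1 (x : Icos) : Zt := 2 * x.p1 + S * x.p2 + x.p3
/-- coordinate of `j` in `2 x` -/
def dbl2 (x : Icos) : Zt := -(T * x.p3)
/-- coordinate of `k` in `2 x` -/
def dbl3 (x : Icos) : Zt := T * x.p2

theorem dbl0_def (x : Icos) : dbl0 x = 2 * x.p0 + x.p2 - S * x.p3 := rfl
theorem dbl1_def (x : Icos) : dbl1 x = 2 * x.p1 + S * x.p2 + x.p3 := rfl
theorem dbl2_def (x : Icos) : dbl2 x = -(T * x.p3) := rfl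
theorem dbl3_def (x : Icos) : dbl3 x = T * x.p2 := rfl

theorem four_nrm (x : Icos) : dbl0 x * dbl0 x + dbl1 x * dbl1 x + dbl2 x * dbl2 x +
    dbl3 x * dbl3 x = 4 * nrm x := by
  have h := T_sq
  rw [dbl0_def, dbl1_def, dbl2_def, dbl3_def, nrm_def, S_eq]
  linear_combination (2 * x.p2 * x.p2 + 2 * x.p3 * x.p3) * h

theorem nrm_totNonneg (x : Icos) : TotNonneg (nrm x) := by
  constructor
  · rw [← normSq_toQ]; exact Quaternion.normSq_nonneg
  · have h := congrArg toR' (four_nrm x)
    simp only [map_add, map_mul] at h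
    have h4 : toR' 4 = 4 := map_ofNat _ 4
    rw [h4] at h
    nlinarith [mul_self_nonneg (toR' (dbl0 x)), mul_self_nonneg (toR' (dbl1 x)),
      mul_self_nonneg (toR' (dbl2 x)), mul_self_nonneg (toR' (dbl3 x))]

theorem trc_nrm_nonneg (x : Icos) : 0 ≤ trc (nrm x) := (nrm_totNonneg x).trc_nonneg

theorem two_le_trc_nrm {x : Icos} (hx : x ≠ 0) : 2 ≤ trc (nrm x) :=
  (nrm_totNonneg x).two_le_trc (fun h => hx (nrm_eq_zero.1 h))

/-- If `N(x) + N(y) = 1` then one of `x, y` is zero and the other has norm 1. -/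
theorem nrm_add_eq_one {x y : Icos} (h : nrm x + nrm y = 1) :
    (x = 0 ∧ nrm y = 1) ∨ (y = 0 ∧ nrm x = 1) := by
  by_cases hx : x = 0
  · left; refine ⟨hx, ?_⟩
    rw [hx, nrm_zero, zero_add] at h; exact h
  · by_cases hy : y = 0
    · right; refine ⟨hy, ?_⟩
      rw [hy, nrm_zero, add_zero] at h; exact h
    · exfalso
      have h1 := two_le_trc_nrm hx
      have h2 := two_le_trc_nrm hy
      have h3 := congrArg trc h
      rw [trc_add] at h3
      have h4 : trc 1 = 2 := by decide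
      omega

end Cfsg.Agent.J2.Norm
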