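import Cfsg.Agent.J2.Group
import Cfsg.Agent.J2.Norm

/-!
# Reduction modulo the prime `5 + τ` of norm 29

`rho : Zt →+* ZMod 29`, τ ↦ 24. Two roots of the icosian Leech lattice whose coordinates agree modulo this prime
are equal; so identities between roots can be checked with small natural numbers.
-/

set_option autoImplicit false
set_option linter.unusedSimpArgs false

namespace Cfsg.Agent.J2.ModPrime

open Cfsg.Agent.J2.ZTau Cfsg.Agent.J2.Ico Cfsg.Agent.J2.Lattice Cfsg.Agent.J2.Refl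
  Cfsg.Agent.J2.Group Cfsg.Agent.J2.Norm

/-- Reduction modulo `5 + τ`. -/
def rho : Zt →+* ZMod 29 where
  toFun x := (x.a : ZMod 29) + 24 * (x.b : ZMod 29)
  map_one' := by simp
  map_zero' := by simp
  map_add' x y := by simp only [add_a, add_b]; push_cast; ring
  map_mul' x y := by
    have h : (24 : ZMod 29) * 24 = 24 + 1 := by decide
    simp only [mul_a, mul_b]; push_cast
    linear_combination (-(x.b : ZMod 29) * y.b) * h

theorem rho_apply (x : Zt) : rho x = (x.a : ZMod 29) + 24 * (x.b : ZMod 29) := rfl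

theorem rho_S : rho S = 6 := by decide

/-- the prime `5 + τ` -/
def pi : Zt := ⟨5, 1⟩

theorem exists_of_rho {z : Zt} (h : rho z = 0) : ∃ w, z = pi * w := by
  rw [rho_apply] at h
  have h1 : (((z.a + 24 * z.b : ℤ)) : ZMod 29) = 0 := by push_cast; exact h
  have h2 : (29 : ℤ) ∣ z.a + 24 * z.b := by
    have := (ZMod.intCast_zmod_eq_zero_iff_dvd (z.a + 24 * z.b) 29).1 h1
    exact_mod_cast this
  obtain ⟨k, hk⟩ := h2
  refine ⟨⟨z.b + 6 * (k - z.b), -(k - z.b)⟩, ?_⟩
  ext
  · simp only [pi, mul_a]; linarith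
  · simp only [pi, mul_b]; ring

theorem exists_of_rho_icos {x : Icos} (h0 : rho x.p0 = 0) (h1 : rho x.p1 = 0)
    (h2 : rho x.p2 = 0) (h3 : rho x.p3 = 0) : ∃ w : Icos, x = pi • w := by
  obtain ⟨w0, e0⟩ := exists_of_rho h0
  obtain ⟨w1, e1⟩ := exists_of_rho h1
  obtain ⟨w2, e2⟩ := exists_of_rho h2
  obtain ⟨w3, e3⟩ := exists_of_rho h3
  refine ⟨⟨w0, w1, w2, w3⟩, ?_⟩
  ext1
  · rw [smul_p0]; exact e0
  · rw [smul_p1]; exact e1
  · rw [smul_p2]; exact e2
  · rw [smul_p3]; exact e3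

theorem nrm_smul (c : Zt) (x : Icos) : nrm (c • x) = c * c * nrm x := by
  rw [nrm_def, nrm_def]; simp only [smul_p0, smul_p1, smul_p2, smul_p3]; ring

theorem nrm_sub_add (x y : Icos) : nrm (x - y) + nrm (x + y) = 2 * nrm x + 2 * nrm y := by
  simp only [nrm_def, sub_p0, sub_p1, sub_p2, sub_p3, add_p0, add_p1, add_p2, add_p3]; ring

theorem normZ_eq_nrm (x : Icos) : normZ x = nrm x := by
  rw [normZ, nrm_def]; ring

theorem TotNonneg.add {x y : Zt} (hx : TotNonneg x) (hy : TotNonneg y) : TotNonneg (x + y) :=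
  ⟨by rw [map_add]; exact add_nonneg hx.1 hy.1, by rw [map_add]; exact add_nonneg hx.2 hy.2⟩

/-- sum of the norms of the coordinates -/
def vn (v : Vec) : Zt := nrm v.x + nrm v.y + nrm v.z

theorem vn_totNonneg (v : Vec) : TotNonneg (vn v) :=
  TotNonneg.add (TotNonneg.add (nrm_totNonneg _) (nrm_totNonneg _)) (nrm_totNonneg _)

theorem vn_root {s : Vec} (hs : IsRoot s) : vn s = 4 := by
  have := (isRoot_iff.1 hs).2
  rwa [normZ_eq_nrm, normZ_eq_nrm, normZ_eq_nrm] at this

theorem vn_sub_add (s t : Vec) : vn (s - t) + vn (s + t) = 2 * vn s + 2 * vn t := by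
  have h1 := nrm_sub_add s.x t.x
  have h2 := nrm_sub_add s.y t.y
  have h3 := nrm_sub_add s.z t.z
  simp only [vn, sub_x, sub_y, sub_z, add_x, add_y, add_z]
  linear_combination h1 + h2 + h3

/-- Two roots that agree modulo the prime `5 + τ` are equal. -/
theorem eq_of_diff {s t w : Vec} (hs : IsRoot s) (ht : IsRoot t) (hx : s.x - t.x = pi • w.x)
    (hy : s.y - t.y = pi • w.y) (hz : s.z - t.z = pi • w.z) : s = t := by
  have h1 : vn (s - t) = pi * pi * vn w := by
    simp only [vn, sub_x, sub_y, sub_z, hx, hy, hz, nrm_smul]; ring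
  have h2 := vn_sub_add s t
  rw [vn_root hs, vn_root ht, h1] at h2
  have h3 := (vn_totNonneg (s + t)).trc_nonneg
  have h4 := (vn_totNonneg (s - t)).trc_nonneg
  rw [h1] at h4
  have h5 := congrArg trc h2
  rw [trc_add] at h5
  have h6 : trc (2 * 4 + 2 * 4 : Zt) = 32 := by decide
  rw [h6] at h5
  by_cases hw : vn w = 0
  · have hw1 : ∀ c ∈ [w.x, w.y, w.z], c = 0 := by
      have a1 := (nrm_totNonneg w.x).trc_nonneg
      have a2 := (nrm_totNonneg w.y).trc_nonneg
      have a3 := (nrm_totNonneg w.z).trc_nonneg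
      have a4 : trc (nrm w.x) + trc (nrm w.y) + trc (nrm w.z) = 0 := by
        rw [← trc_add, ← trc_add]
        change trc (vn w) = 0
        rw [hw]; rfl
      intro c hc
      have hc' : trc (nrm c) < 2 := by
        simp only [List.mem_cons, List.not_mem_nil, or_false] at hc
        rcases hc with rfl | rfl | rfl <;> omega
      exact nrm_eq_zero.1 ((nrm_totNonneg c).eq_zero_of_trc hc')
    have b1 : w.x = 0 := hw1 _ (by simp)
    have b2 : w.y = 0 := hw1 _ (by simp)
    have b3 : w.z = 0 := hw1 _ (by simp)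
    have hz0 : pi • (0 : Icos) = 0 := by
      ext1 <;> simp
    rw [b1, hz0, sub_eq_zero] at hx
    rw [b2, hz0, sub_eq_zero] at hy
    rw [b3, hz0, sub_eq_zero] at hz
    exact Vec.ext hx hy hz
  · exfalso
    have h7 := (vn_totNonneg w).disc_pos hw
    generalize vn w = α at *
    have h8 : trc (pi * pi * α) = 63 * α.a + 59 * α.b := by
      simp only [trc_def, pi, mul_a, mul_b]; ring
    rw [h8] at h4 h5
    have h9 : (63 * α.a + 59 * α.b) ^ 2 =
        3364 * (α.a ^ 2 + α.a * α.b - α.b ^ 2) + 5 * (11 * α.a + 37 * α.b) ^ 2 := by ring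
    have h10 : 63 * α.a + 59 * α.b ≤ 32 := by omega
    nlinarith [sq_nonneg (11 * α.a + 37 * α.b)]

theorem eq_of_rho {s t : Vec} (hs : IsRoot s) (ht : IsRoot t)
    (hx0 : rho s.x.p0 = rho t.x.p0) (hx1 : rho s.x.p1 = rho t.x.p1)
    (hx2 : rho s.x.p2 = rho t.x.p2) (hx3 : rho s.x.p3 = rho t.x.p3)
    (hy0 : rho s.y.p0 = rho t.y.p0) (hy1 : rho s.y.p1 = rho t.y.p1)
    (hy2 : rho s.y.p2 = rho t.y.p2) (hy3 : rho s.y.p3 = rho t.y.p3)
    (hz0 : rho s.z.p0 = rho t.z.p0) (hz1 : rho s.z.p1 = rho t.z.p1)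
    (hz2 : rho s.z.p2 = rho t.z.p2) (hz3 : rho s.z.p3 = rho t.z.p3) : s = t := by
  obtain ⟨wx, ex⟩ := exists_of_rho_icos (x := s.x - t.x) (by rw [sub_p0, map_sub, hx0, sub_self])
    (by rw [sub_p1, map_sub, hx1, sub_self]) (by rw [sub_p2, map_sub, hx2, sub_self])
    (by rw [sub_p3, map_sub, hx3, sub_self])
  obtain ⟨wy, ey⟩ := exists_of_rho_icos (x := s.y - t.y) (by rw [sub_p0, map_sub, hy0, sub_self])
    (by rw [sub_p1, map_sub, hy1, sub_self]) (by rw [sub_p2, map_sub, hy2, sub_self])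
    (by rw [sub_p3, map_sub, hy3, sub_self])
  obtain ⟨wz, ez⟩ := exists_of_rho_icos (x := s.z - t.z) (by rw [sub_p0, map_sub, hz0, sub_self])
    (by rw [sub_p1, map_sub, hz1, sub_self]) (by rw [sub_p2, map_sub, hz2, sub_self])
    (by rw [sub_p3, map_sub, hz3, sub_self])
  exact eq_of_diff (w := ⟨wx, wy, wz⟩) hs ht ex ey ez

end Cfsg.Agent.J2.ModPrime
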