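import Cfsg.Agent.J2.Lattice

/-!
# The reflection group `W ≅ twoJ2` in the integral model

`Lam` = the icosian Leech lattice as a submodule of `Vec`; `rf r` = the reflection permutation of `Lam`
for a root `r`; `W` = the group they generate, with `equivTwoJ2 : W ≃* twoJ2` and
`equivJ2 : W ⧸ center W ≃* J2`.
-/

set_option autoImplicit false
set_option linter.unusedSimpArgs false

open Quaternion

namespace Cfsg.Agent.J2.Refl

open Cfsg.Spor Cfsg.Agent.J2.ZTau Cfsg.Agent.J2.Ico Cfsg.Agent.J2.Lattice

/-! ### Module structure -/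

/-- natural multiples -/
instance nsmulVec : SMul ℕ Vec := ⟨fun n v => ⟨n • v.x, n • v.y, n • v.z⟩⟩
/-- integer multiples -/
instance zsmulVec : SMul ℤ Vec := ⟨fun n v => ⟨n • v.x, n • v.y, n • v.z⟩⟩

/-- triples as a function -/
def toTriple (v : Vec) : Icos × Icos × Icos := (v.x, v.y, v.z)

theorem toTriple_injective : Function.Injective toTriple := by
  intro u v h
  simp only [toTriple, Prod.mk.injEq] at h
  exact Vec.ext h.1 h.2.1 h.2.2

noncomputable instance addCommGroupVec : AddCommGroup Vec :=
  Function.Injective.addCommGroup toTriple toTriple_injective rfl (fun _ _ => rfl) (fun _ => rfl)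
    (fun _ _ => rfl) (fun _ _ => rfl) (fun _ _ => rfl)

noncomputable instance moduleVec : Module Icos Vec where
  one_smul v := by ext1 <;> simp
  mul_smul a b v := by ext1 <;> simp [mul_assoc]
  smul_zero a := by ext1 <;> simp
  smul_add a u v := by ext1 <;> simp [mul_add]
  add_smul a b v := by ext1 <;> simp [add_mul]
  zero_smul v := by ext1 <;> simp

theorem inLam_zero : InLam 0 := ⟨⟨0, by simp⟩, ⟨0, by simp⟩, ⟨0, by simp⟩⟩

/-- The icosian Leech lattice as a left submodule. -/
noncomputable def Lam : Submodule Icos Vec where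
  carrier := {v | InLam v}
  add_mem' ha hb := ha.add hb
  zero_mem' := inLam_zero
  smul_mem' c _ hv := hv.smul c

theorem mem_Lam {v : Vec} : v ∈ Lam ↔ InLam v := Iff.rfl

theorem lam_inLam (v : Lam) : InLam (v : Vec) := v.2

/-! ### Sesquilinearity -/

theorem ip_add_left (u v w : Vec) : ip (u + v) w = ip u w + ip v w := by
  simp only [ip, add_x, add_y, add_z]; noncomm_ring

theorem ip_sub_left (u v w : Vec) : ip (u - v) w = ip u w - ip v w := by
  simp only [ip, sub_x, sub_y, sub_z]; noncomm_ring

theorem ip_neg_left (u w : Vec) : ip (-u) w = -ip u w := by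
  simp only [ip, neg_x, neg_y, neg_z]; noncomm_ring

theorem ip_smul_left (c : Icos) (u w : Vec) : ip (c • u) w = c * ip u w := by
  simp only [ip, smul_x, smul_y, smul_z]; noncomm_ring

theorem star_ip (u w : Vec) : star (ip u w) = ip w u := by
  simp only [ip, star_add, star_mul, star_star]

theorem ip_add_right (u v w : Vec) : ip u (v + w) = ip u v + ip u w := by
  rw [← star_ip, ip_add_left, star_add, star_ip, star_ip]

theorem ip_sub_right (u v w : Vec) : ip u (v - w) = ip u v - ip u w := by
  rw [← star_ip, ip_sub_left, star_sub, star_ip, star_ip]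

theorem ip_neg_right (u w : Vec) : ip u (-w) = -ip u w := by
  rw [← star_ip, ip_neg_left, star_neg, star_ip]

theorem ip_smul_right (c : Icos) (u w : Vec) : ip u (c • w) = ip u w * star c := by
  rw [← star_ip, ip_smul_left, star_mul, star_ip]

theorem hip_add_left {u v w : Vec} (hu : InLam u) (hv : InLam v) (hw : InLam w) :
    hip (u + v) w = hip u w + hip v w := by
  apply add_self_injective
  rw [hip_add_hip (hu.add hv) hw, ip_add_left, ← hip_add_hip hu hw, ← hip_add_hip hv hw]
  abel

theorem hip_sub_left {u v w : Vec} (hu : InLam u) (hv : InLam v) (hw : InLam w) :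
    hip (u - v) w = hip u w - hip v w := by
  apply add_self_injective
  rw [hip_add_hip (hu.sub hv) hw, ip_sub_left, ← hip_add_hip hu hw, ← hip_add_hip hv hw]
  abel

theorem hip_smul_left {u w : Vec} (c : Icos) (hu : InLam u) (hw : InLam w) :
    hip (c • u) w = c * hip u w := by
  apply add_self_injective
  rw [hip_add_hip (hu.smul c) hw, ip_smul_left, ← hip_add_hip hu hw, mul_add]

theorem hip_smul_right {u w : Vec} (c : Icos) (hu : InLam u) (hw : InLam w) :
    hip u (c • w) = hip u w * star c := by
  apply add_self_injective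
  rw [hip_add_hip hu (hw.smul c), ip_smul_right, ← hip_add_hip hu hw, add_mul]

theorem star_hip {u w : Vec} (hu : InLam u) (hw : InLam w) : star (hip u w) = hip w u := by
  apply add_self_injective
  rw [hip_add_hip hw hu, ← star_add, hip_add_hip hu hw, star_ip]

theorem hip_self {r : Vec} (hr : IsRoot r) : hip r r = 2 := by
  apply add_self_injective
  rw [hip_add_hip hr.1 hr.1, hr.2]; norm_num

/-! ### The reflections -/

theorem hip_refl_left {r v : Vec} (hr : IsRoot r) (hv : InLam v) : hip (refl r v) r = -hip v r := by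
  unfold Lattice.refl
  rw [hip_sub_left hv (hr.1.smul _) hr.1, hip_smul_left _ hr.1 hr.1, hip_self hr]
  noncomm_ring

theorem refl_refl {r v : Vec} (hr : IsRoot r) (hv : InLam v) : refl r (refl r v) = v := by
  have h := hip_refl_left hr hv
  have e : refl r (refl r v) = refl r v - hip (refl r v) r • r := rfl
  rw [e, h, neg_smul, sub_neg_eq_add]
  have e' : refl r v = v - hip v r • r := rfl
  rw [e', sub_add_cancel]

theorem refl_add {r u v : Vec} (hr : InLam r) (hu : InLam u) (hv : InLam v) :
    refl r (u + v) = refl r u + refl r v := by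
  unfold Lattice.refl
  rw [hip_add_left hu hv hr, add_smul]; abel

theorem refl_smul {r v : Vec} (hr : InLam r) (c : Icos) (hv : InLam v) :
    refl r (c • v) = c • refl r v := by
  unfold Lattice.refl
  rw [hip_smul_left c hv hr, smul_sub, smul_smul]

theorem ip_refl_refl {r u v : Vec} (hr : IsRoot r) (hu : InLam u) (hv : InLam v) :
    ip (refl r u) (refl r v) = ip u v := by
  have h1 : ip u r = hip u r + hip u r := (hip_add_hip hu hr.1).symm
  have h2 : ip r v = star (hip v r) + star (hip v r) := by
    rw [star_hip hv hr.1]; exact (hip_add_hip hr.1 hv).symm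
  have h3 := hr.2
  unfold Lattice.refl
  rw [ip_sub_left, ip_sub_right, ip_sub_right, ip_smul_left, ip_smul_left, ip_smul_right,
    ip_smul_right, h1, h2, h3]
  noncomm_ring

theorem refl_self {r : Vec} (hr : IsRoot r) : refl r r = -r := by
  have e : refl r r = r - hip r r • r := rfl
  rw [e, hip_self hr, two_smul]; abel

/-- The reflection in a root as a permutation of the lattice. -/
noncomputable def rf (r : Vec) (hr : IsRoot r) : Equiv.Perm Lam where
  toFun v := ⟨refl r v, InLam.refl hr.1 v.2⟩
  invFun v := ⟨refl r v, InLam.refl hr.1 v.2⟩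
  left_inv v := Subtype.ext (refl_refl hr v.2)
  right_inv v := Subtype.ext (refl_refl hr v.2)

theorem rf_apply {r : Vec} (hr : IsRoot r) (v : Lam) : ((rf r hr v : Lam) : Vec) = refl r v := rfl

theorem rf_mul_self {r : Vec} (hr : IsRoot r) : rf r hr * rf r hr = 1 := by
  ext1 v; exact Subtype.ext (refl_refl hr v.2)

theorem rf_inv {r : Vec} (hr : IsRoot r) : (rf r hr)⁻¹ = rf r hr :=
  inv_eq_of_mul_eq_one_left (rf_mul_self hr)

/-- The reflection group. -/
noncomputable def W : Subgroup (Equiv.Perm Lam) :=
  Subgroup.closure {f | ∃ (r : Vec) (hr : IsRoot r), f = rf r hr}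

theorem rf_mem {r : Vec} (hr : IsRoot r) : rf r hr ∈ W := Subgroup.subset_closure ⟨r, hr, rfl⟩

/-- induction principle for `W` -/
theorem W_induction {p : Equiv.Perm Lam → Prop} (h1 : p 1)
    (hm : ∀ (r : Vec) (hr : IsRoot r) (g : Equiv.Perm Lam), g ∈ W → p g → p (rf r hr * g))
    {g : Equiv.Perm Lam} (hg : g ∈ W) : p g := by
  have hg' := hg
  unfold W at hg
  induction hg using Subgroup.closure_induction_left with
  | one => exact h1
  | mul_left x hx y hy ih =>
    obtain ⟨r, hr, rfl⟩ := hx
    exact hm r hr y hy (ih hy)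
  | inv_mul_cancel x hx y hy ih =>
    obtain ⟨r, hr, rfl⟩ := hx
    rw [rf_inv]
    exact hm r hr y hy (ih hy)

end Cfsg.Agent.J2.Refl
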