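import Cfsg.Agent.J2.Group
import Cfsg.Agent.J2.Norm

/-!
# Shapes of the minimal vectors of the icosian Leech lattice
-/

set_option autoImplicit false
set_option linter.unusedSimpArgs false

open Quaternion

namespace Cfsg.Agent.J2.Shapes

open Cfsg.Spor Cfsg.Agent.J2.ZTau Cfsg.Agent.J2.Ico Cfsg.Agent.J2.Lattice Cfsg.Agent.J2.Refl
  Cfsg.Agent.J2.Group Cfsg.Agent.J2.Norm

theorem normZ_eq_nrm (x : Icos) : normZ x = nrm x := by
  apply ofZt_injective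
  rw [← mul_star_self, mul_star_eq]

theorem isRoot_iff_nrm {v : Vec} : IsRoot v ↔ InLam v ∧ nrm v.x + nrm v.y + nrm v.z = 4 := by
  rw [isRoot_iff, normZ_eq_nrm, normZ_eq_nrm, normZ_eq_nrm]

/-- the nine possible norm triples of a minimal vector without zero coordinate -/
def Triple9 (a b c : Zt) : Prop :=
  (a = ⟨2, 0⟩ ∧ b = 1 ∧ c = 1) ∨ (a = 1 ∧ b = ⟨2, 0⟩ ∧ c = 1) ∨ (a = 1 ∧ b = 1 ∧ c = ⟨2, 0⟩) ∨
  (a = 1 ∧ b = ⟨1, 1⟩ ∧ c = ⟨2, -1⟩) ∨ (a = 1 ∧ b = ⟨2, -1⟩ ∧ c = ⟨1, 1⟩) ∨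
  (a = ⟨1, 1⟩ ∧ b = 1 ∧ c = ⟨2, -1⟩) ∨ (a = ⟨2, -1⟩ ∧ b = 1 ∧ c = ⟨1, 1⟩) ∨
  (a = ⟨1, 1⟩ ∧ b = ⟨2, -1⟩ ∧ c = 1) ∨ (a = ⟨2, -1⟩ ∧ b = ⟨1, 1⟩ ∧ c = 1)

theorem triple9_of {a b c : Zt} (ha : TotNonneg a) (hb : TotNonneg b) (hc : TotNonneg c)
    (ha0 : a ≠ 0) (hb0 : b ≠ 0) (hc0 : c ≠ 0) (h : a + b + c = 4) : Triple9 a b c := by
  have ta := ha.two_le_trc ha0
  have tb := hb.two_le_trc hb0
  have tc := hc.two_le_trc hc0
  have ht : trc a + trc b + trc c = 8 := by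
    rw [← trc_add, ← trc_add, h]; decide
  have hA := congrArg Zt.a h
  have hB := congrArg Zt.b h
  have h4a : (4 : Zt).a = 4 := by decide
  have h4b : (4 : Zt).b = 0 := by decide
  rw [h4a] at hA
  rw [h4b] at hB
  simp only [add_a, add_b] at hA hB
  have cases : (trc a = 4 ∧ trc b = 2 ∧ trc c = 2) ∨ (trc a = 2 ∧ trc b = 4 ∧ trc c = 2) ∨
      (trc a = 2 ∧ trc b = 2 ∧ trc c = 4) ∨ (trc a = 2 ∧ trc b = 3 ∧ trc c = 3) ∨
      (trc a = 3 ∧ trc b = 2 ∧ trc c = 3) ∨ (trc a = 3 ∧ trc b = 3 ∧ trc c = 2) := by omega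
  unfold Triple9
  rcases cases with ⟨h1, h2, h3⟩ | ⟨h1, h2, h3⟩ | ⟨h1, h2, h3⟩ | ⟨h1, h2, h3⟩ | ⟨h1, h2, h3⟩ |
    ⟨h1, h2, h3⟩
  · exact Or.inl ⟨ha.eq_two_of_trc h1, hb.eq_one_of_trc h2, hc.eq_one_of_trc h3⟩
  · exact Or.inr (Or.inl ⟨ha.eq_one_of_trc h1, hb.eq_two_of_trc h2, hc.eq_one_of_trc h3⟩)
  · exact Or.inr (Or.inr (Or.inl ⟨ha.eq_one_of_trc h1, hb.eq_one_of_trc h2, hc.eq_two_of_trc h3⟩))
  · have e1 := ha.eq_one_of_trc h1
    rcases hb.eq_of_trc_three h2 with e2 | e2 <;> rcases hc.eq_of_trc_three h3 with e3 | e3 <;>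
      subst e1 e2 e3 <;> simp at hA hB ⊢
  · have e1 := hb.eq_one_of_trc h2
    rcases ha.eq_of_trc_three h1 with e2 | e2 <;> rcases hc.eq_of_trc_three h3 with e3 | e3 <;>
      subst e1 e2 e3 <;> simp at hA hB ⊢
  · have e1 := hc.eq_one_of_trc h3
    rcases ha.eq_of_trc_three h1 with e2 | e2 <;> rcases hb.eq_of_trc_three h2 with e3 | e3 <;>
      subst e1 e2 e3 <;> simp at hA hB ⊢

theorem two_cancel {a b : Zt} (h : a * 2 = b * 2) : a = b := by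
  have h1 := congrArg Zt.a h
  have h2 := congrArg Zt.b h
  have e1 : (2 : Zt).a = 2 := by decide
  have e2 : (2 : Zt).b = 0 := by decide
  simp only [mul_a, mul_b, e1, e2] at h1 h2
  ext <;> omega

/-- the nonzero possibilities for `N(a) + N(b) = 2` -/
theorem add_eq_two {a b : Zt} (ha : TotNonneg a) (hb : TotNonneg b) (ha0 : a ≠ 0) (hb0 : b ≠ 0)
    (h : a + b = 2) : a = 1 ∧ b = 1 := by
  have ta := ha.two_le_trc ha0
  have tb := hb.two_le_trc hb0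
  have ht : trc a + trc b = 4 := by
    rw [← trc_add, h]; decide
  exact ⟨ha.eq_one_of_trc (by omega), hb.eq_one_of_trc (by omega)⟩

theorem hh_add_star : hh + star hh = ofZt ⟨1, -2⟩ := by decide

/-- `I h ∩ I h̄ = 2 I` -/
theorem two_dvd_of_inH_inHs {y : Icos} (h1 : InH y) (h2 : InHs y) : ∃ c, y = c + c := by
  obtain ⟨a, ha⟩ := h1
  obtain ⟨b, hb⟩ := h2
  have e1 : y * star hh = a + a := by rw [ha, mul_assoc, hh_mul_star, mul_two]
  have e2 : y * hh = b + b := by rw [hb, mul_assoc, star_mul_hh, mul_two]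
  have e3 : y * ofZt ⟨1, -2⟩ = (a + a) + (b + b) := by
    rw [← hh_add_star, mul_add, e1, e2]; abel
  have e4 : ofZt ⟨1, -2⟩ = 1 - ofZt T - ofZt T := by decide
  rw [e4, mul_sub, mul_sub, mul_one] at e3
  refine ⟨a + b + y * ofZt T, ?_⟩
  calc y = (y - y * ofZt T - y * ofZt T) + (y * ofZt T + y * ofZt T) := by abel
    _ = a + b + y * ofZt T + (a + b + y * ofZt T) := by rw [e3]; abel

theorem nrm_hh : nrm hh = 2 := by decide

theorem nrm_add_self (c : Icos) : nrm (c + c) = nrm c * 4 := by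
  rw [← mul_two, ← two_eq, nrm_mul]
  congr 1

theorem four_cancel {a b : Zt} (h : a * 4 = b * 4) : a = b := by
  have h1 := congrArg Zt.a h
  have h2 := congrArg Zt.b h
  have e1 : (4 : Zt).a = 4 := by decide
  have e2 : (4 : Zt).b = 0 := by decide
  simp only [mul_a, mul_b, e1, e2] at h1 h2
  ext <;> omega

/-- the two nonzero coordinates of a minimal vector with a zero coordinate -/
theorem pair_shape {x y : Icos} (hx : InH x) (hy : InH y) (hs : InHs (x + y))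
    (h : nrm x + nrm y = 4) :
    (∃ a b, nrm a = 1 ∧ nrm b = 1 ∧ x = a * hh ∧ y = b * hh) ∨
    (x = 0 ∧ ∃ c, nrm c = 1 ∧ y = c + c) ∨ (y = 0 ∧ ∃ c, nrm c = 1 ∧ x = c + c) := by
  obtain ⟨a, ha⟩ := hx
  obtain ⟨b, hb⟩ := hy
  have h2 : nrm a + nrm b = 2 := by
    apply two_cancel
    rw [ha, hb, nrm_mul, nrm_mul, nrm_hh, ← add_mul] at h
    rw [h]; decide
  by_cases ha0 : a = 0
  · right; left
    have hx0 : x = 0 := by rw [ha, ha0, zero_mul]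
    refine ⟨hx0, ?_⟩
    rw [hx0, zero_add] at hs
    obtain ⟨c, hc⟩ := two_dvd_of_inH_inHs ⟨b, hb⟩ hs
    refine ⟨c, ?_, hc⟩
    apply four_cancel
    rw [← nrm_add_self, ← hc, one_mul]
    rw [hx0, nrm_zero, zero_add] at h
    exact h
  · by_cases hb0 : b = 0
    · right; right
      have hy0 : y = 0 := by rw [hb, hb0, zero_mul]
      refine ⟨hy0, ?_⟩
      rw [hy0, add_zero] at hs
      obtain ⟨c, hc⟩ := two_dvd_of_inH_inHs ⟨a, ha⟩ hs
      refine ⟨c, ?_, hc⟩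
      apply four_cancel
      rw [← nrm_add_self, ← hc, one_mul]
      rw [hy0, nrm_zero, add_zero] at h
      exact h
    · left
      obtain ⟨n1, n2⟩ := add_eq_two (nrm_totNonneg a) (nrm_totNonneg b)
        (fun h => ha0 (nrm_eq_zero.1 h)) (fun h => hb0 (nrm_eq_zero.1 h)) h2
      exact ⟨a, b, n1, n2, ha, hb⟩

theorem inH_zero : InH 0 := ⟨0, by simp⟩

/-- The shapes of minimal vectors. -/
theorem shapes {v : Vec} (hv : IsRoot v) :
    Triple9 (nrm v.x) (nrm v.y) (nrm v.z) ∨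
    (∃ a b, nrm a = 1 ∧ nrm b = 1 ∧ v = ⟨a * hh, b * hh, 0⟩) ∨
    (∃ a b, nrm a = 1 ∧ nrm b = 1 ∧ v = ⟨a * hh, 0, b * hh⟩) ∨
    (∃ a b, nrm a = 1 ∧ nrm b = 1 ∧ v = ⟨0, a * hh, b * hh⟩) ∨
    (∃ c, nrm c = 1 ∧ v = c • e1) ∨ (∃ c, nrm c = 1 ∧ v = c • e2) ∨
    (∃ c, nrm c = 1 ∧ v = c • e3) := by
  obtain ⟨⟨h1, h2, h3⟩, h4⟩ := isRoot_iff_nrm.1 hv
  have k1 : ∀ c : Icos, c • e1 = ⟨c + c, 0, 0⟩ := by
    intro c; ext1
    · rw [smul_x, e1, two_eq, mul_two]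
    · rw [smul_y, e1, mul_zero]
    · rw [smul_z, e1, mul_zero]
  have k2 : ∀ c : Icos, c • e2 = ⟨0, c + c, 0⟩ := by
    intro c; ext1
    · rw [smul_x, e2, mul_zero]
    · rw [smul_y, e2, two_eq, mul_two]
    · rw [smul_z, e2, mul_zero]
  have k3 : ∀ c : Icos, c • e3 = ⟨0, 0, c + c⟩ := by
    intro c; ext1
    · rw [smul_x, e3, mul_zero]
    · rw [smul_y, e3, mul_zero]
    · rw [smul_z, e3, two_eq, mul_two]
  obtain ⟨x, y, z⟩ := v
  simp only at h1 h2 h3 h4 ⊢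
  by_cases hz : z = 0
  · subst hz
    rw [sub_zero] at h2
    have hx : InH x := by
      have := h1.add h2
      rwa [sub_add_cancel] at this
    rw [nrm_zero, add_zero] at h4
    rw [add_zero] at h3
    rcases pair_shape hx h2 h3 h4 with ⟨a, b, ha, hb, rfl, rfl⟩ | ⟨rfl, c, hc, rfl⟩ |
      ⟨rfl, c, hc, rfl⟩
    · exact Or.inr (Or.inl ⟨a, b, ha, hb, rfl⟩)
    · exact Or.inr (Or.inr (Or.inr (Or.inr (Or.inr (Or.inl ⟨c, hc, (k2 c).symm⟩)))))
    · exact Or.inr (Or.inr (Or.inr (Or.inr (Or.inl ⟨c, hc, (k1 c).symm⟩))))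
  · by_cases hy : y = 0
    · subst hy
      rw [sub_zero] at h1
      rw [zero_sub] at h2
      have hz' : InH z := by have := h2.neg; rwa [neg_neg] at this
      rw [nrm_zero, add_zero] at h4
      rw [add_zero] at h3
      rcases pair_shape h1 hz' h3 h4 with ⟨a, b, ha, hb, rfl, rfl⟩ | ⟨rfl, c, hc, rfl⟩ |
        ⟨rfl, c, hc, rfl⟩
      · exact Or.inr (Or.inr (Or.inl ⟨a, b, ha, hb, rfl⟩))
      · exact Or.inr (Or.inr (Or.inr (Or.inr (Or.inr (Or.inr ⟨c, hc, (k3 c).symm⟩)))))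
      · exact absurd rfl hz
    · by_cases hx : x = 0
      · subst hx
        rw [zero_sub] at h1
        have hy' : InH y := by have := h1.neg; rwa [neg_neg] at this
        have hz' : InH z := by
          have := hy'.sub h2
          rwa [sub_sub_cancel] at this
        rw [nrm_zero, zero_add] at h4
        rw [zero_add] at h3
        rcases pair_shape hy' hz' h3 h4 with ⟨a, b, ha, hb, rfl, rfl⟩ | ⟨rfl, c, hc, rfl⟩ |
          ⟨rfl, c, hc, rfl⟩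
        · exact Or.inr (Or.inr (Or.inr (Or.inl ⟨a, b, ha, hb, rfl⟩)))
        · exact absurd rfl hy
        · exact absurd rfl hz
      · left
        exact triple9_of (nrm_totNonneg x) (nrm_totNonneg y) (nrm_totNonneg z)
          (fun h => hx (nrm_eq_zero.1 h)) (fun h => hy (nrm_eq_zero.1 h))
          (fun h => hz (nrm_eq_zero.1 h)) h4

end Cfsg.Agent.J2.Shapes
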