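import Cfsg.Prelude.Def_Classical
import Cfsg.Agent.LieClassical.GUOrder
import Cfsg.Agent.SporadicStructure.PsuMatch

/-!
# Four explicit involutions of `SU_3(3)` on the 63 non-isotropic points

`sig s` (`s : Fin 4`) are four explicit permutations of 63 points; they generate a group of order at least 6048 and are
induced (projectively) by elements `M s` of `SU 3 K9 3` on the 63 pairwise non-proportional vectors `vec i`.
This is the `PSU_3(3)` half of the identification of the index 100 subgroup of J2 (S1624).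
-/

set_option autoImplicit false

namespace Cfsg.Agent.J2.U33

open Matrix

/-- The field with nine elements, as `𝔽₃[i]`. -/
abbrev K9 := QuadraticAlgebra (ZMod 3) (-1) 0

instance k9FactInst : Fact (∀ r : ZMod 3, r ^ 2 ≠ -1 + 0 * r) := ⟨by decide⟩

noncomputable instance k9FintypeInst : Fintype K9 :=
  Fintype.ofEquiv _ (QuadraticAlgebra.equivProd (-1 : ZMod 3) 0).symm

theorem card_k9 : Fintype.card K9 = 9 := by
  rw [Fintype.card_congr (QuadraticAlgebra.equivProd (-1 : ZMod 3) 0)]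
  rfl

/-- The element of `K9` with code `a + 3 b` (for `a + b i`). -/
def el : ℕ → K9
  | 0 => ⟨0, 0⟩
  | 1 => ⟨1, 0⟩
  | 2 => ⟨2, 0⟩
  | 3 => ⟨0, 1⟩
  | 4 => ⟨1, 1⟩
  | 5 => ⟨2, 1⟩
  | 6 => ⟨0, 2⟩
  | 7 => ⟨1, 2⟩
  | _ => ⟨2, 2⟩

/-- Codes of the 63 vectors (first nonzero coordinate 1). -/
def ptsL : List (ℕ × ℕ × ℕ) :=
  [(0, 0, 1), (0, 1, 0), (0, 1, 1), (0, 1, 2), (0, 1, 3), (0, 1, 6), (1, 0, 0), (1, 0, 1), (1, 0, 2), (1, 0, 3), (1, 0, 6), (1, 1, 0), (1, 1, 4), (1, 1, 5), (1, 1, 7), (1, 1, 8), (1, 2, 0), (1, 2, 4), (1, 2, 5), (1, 2, 7), (1, 2, 8), (1, 3, 0), (1, 3, 4), (1, 3, 5), (1, 3, 7), (1, 3, 8), (1, 4, 1), (1, 4, 2), (1, 4, 3), (1, 4, 4), (1, 4, 5), (1, 4, 6), (1, 4, 7), (1, 4, 8), (1, 5, 1), (1, 5, 2), (1, 5, 3), (1, 5, 4), (1, 5, 5), (1, 5, 6), (1, 5, 7), (1, 5, 8), (1, 6, 0), (1, 6, 4), (1, 6, 5), (1, 6, 7), (1, 6, 8), (1, 7, 1), (1, 7, 2), (1, 7, 3), (1, 7, 4),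 (1, 7, 5), (1, 7, 6), (1, 7, 7), (1, 7, 8), (1, 8, 1), (1, 8, 2), (1, 8, 3), (1, 8, 4), (1, 8, 5), (1, 8, 6), (1, 8, 7), (1, 8, 8)]

/-- The vector with number `i`. -/
def vec (i : Fin 63) : Fin 3 → K9 :=
  ![el (ptsL.getD i.val (0, 0, 0)).1, el (ptsL.getD i.val (0, 0, 0)).2.1, el (ptsL.getD i.val (0, 0, 0)).2.2]

/-- Tables of the four permutations. -/
def tabL : List (List ℕ) :=
  [[1, 0, 3, 2, 4, 5, 6, 42, 21, 11, 16, 9, 49, 28, 57, 36, 10, 52, 31, 60, 39, 8, 48, 27, 56, 35, 44, 23, 13, 51, 30, 18, 59, 38, 46, 25, 15, 54, 33, 20, 62, 41, 7, 47, 26, 55, 34, 43, 22, 12, 50, 29, 17, 58, 37, 45, 24, 14, 53, 32, 19, 61, 40],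
   [42, 24, 36, 62, 27, 50, 23, 54, 26, 39, 58, 25, 34, 28, 53, 59, 22, 51, 35, 61, 31, 21, 16, 6, 1, 11, 8, 4, 13, 29, 60, 20, 40, 49, 12, 18, 2, 56, 47, 9, 32, 41, 0, 46, 44, 45, 43, 38, 57, 33, 5, 17, 52, 14, 7, 55, 37, 48, 10, 15, 30, 19, 3],
   [52, 9, 58, 24, 20, 30, 39, 31, 60, 1, 10, 59, 12, 40, 27, 16, 15, 32, 22, 34, 4, 45, 18, 62, 3, 35, 38, 14, 57, 42, 5, 7, 17, 33, 19, 25, 36, 56, 26, 6, 13, 43, 29, 41, 44, 21, 55, 50, 51, 49, 47, 48, 0, 54, 53, 46, 37, 28, 2, 11, 8, 61, 23],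
   [11, 20, 51, 55, 32, 36, 17, 56, 53, 39, 30, 0, 12, 14, 13, 15, 16, 6, 21, 42, 1, 18, 34, 50, 60, 33, 38, 27, 47, 45, 10, 58, 4, 25, 22, 44, 5, 48, 26, 9, 40, 62, 19, 57, 35, 29, 54, 28, 37, 61, 23, 2, 52, 8, 46, 3, 7, 43, 31, 59, 24, 49, 41]]

/-- Tables of the scalars. -/
def cofL : List (List ℕ) :=
  [[3, 6, 3, 6, 2, 1, 2, 2, 2, 2, 2, 2, 2, 2, 2, 2, 2, 2, 2, 2, 2, 2, 2, 2, 2, 2, 2, 2, 2, 2, 2, 2, 2, 2, 2, 2, 2, 2, 2, 2, 2, 2, 2, 2, 2, 2, 2, 2, 2, 2, 2, 2, 2, 2, 2, 2, 2, 2, 2, 2, 2, 2, 2],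
   [8, 6, 5, 1, 4, 2, 1, 6, 5, 8, 3, 7, 1, 6, 8, 4, 4, 7, 3, 5, 1, 2, 5, 1, 3, 8, 4, 5, 3, 2, 7, 1, 6, 5, 1, 6, 4, 8, 4, 7, 3, 2, 7, 3, 2, 1, 6, 5, 1, 4, 2, 8, 2, 7, 3, 2, 7, 1, 6, 5, 8, 4, 1],
   [3, 8, 2, 5, 7, 6, 1, 4, 7, 7, 2, 6, 2, 5, 1, 4, 5, 7, 1, 6, 8, 8, 1, 4, 4, 3, 7, 1, 3, 6, 3, 5, 8, 2, 3, 6, 2, 5, 8, 1, 4, 7, 3, 8, 2, 7, 1, 5, 8, 1, 4, 7, 6, 3, 6, 1, 4, 6, 2, 3, 8, 2, 5],
   [7, 2, 6, 4, 3, 7, 1, 8, 3, 5, 6, 8, 2, 6, 3, 1, 2, 1, 8, 5, 2, 7, 6, 4, 1, 8, 4, 2, 1, 8, 3, 5, 6, 7, 3, 1, 8, 7, 5, 4, 2, 6, 4, 3, 1, 7, 5, 1, 8, 7, 5, 3, 2, 6, 4, 5, 7, 6, 4, 2, 1, 8, 3]]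

/-- Codes of the matrices. -/
def matL : List (List ℕ) :=
  [[2, 0, 0, 0, 0, 3, 0, 6, 0],
   [1, 6, 8, 3, 1, 5, 5, 8, 0],
   [1, 8, 3, 5, 0, 4, 6, 7, 1],
   [1, 2, 7, 2, 1, 7, 4, 4, 0]]

/-- Table entry. -/
def tab (s : Fin 4) (i : Fin 63) : Fin 63 := Fin.ofNat 63 ((tabL.getD s.val []).getD i.val 0)

theorem tab_tab : ∀ s i, tab s (tab s i) = i := by decide +kernel

/-- The four permutations (involutions) of the 63 points. -/
def sig (s : Fin 4) : Equiv.Perm (Fin 63) := ⟨tab s, tab s, tab_tab s, tab_tab s⟩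

theorem sig_apply (s : Fin 4) (i : Fin 63) : sig s i = tab s i := rfl

/-- The scalars. -/
def cof (s : Fin 4) (i : Fin 63) : K9 := el ((cofL.getD s.val []).getD i.val 0)

/-- The matrices. -/
def mat (s : Fin 4) : Matrix (Fin 3) (Fin 3) K9 :=
  Matrix.of fun i j => el ((matL.getD s.val []).getD (3 * i.val + j.val) 0)

theorem el_ne_zero : ∀ n, n ≠ 0 → el n ≠ 0 := by
  intro n hn h
  have h' := congrArg (fun x : K9 => (x.re, x.im)) h
  match n, hn, h' with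
  | 1, _, h' => exact absurd h' (by decide)
  | 2, _, h' => exact absurd h' (by decide)
  | 3, _, h' => exact absurd h' (by decide)
  | 4, _, h' => exact absurd h' (by decide)
  | 5, _, h' => exact absurd h' (by decide)
  | 6, _, h' => exact absurd h' (by decide)
  | 7, _, h' => exact absurd h' (by decide)
  | (n + 8), _, h' => exact absurd h' (by change ¬ ((2 : ZMod 3), (2 : ZMod 3)) = (0, 0); decide)

theorem cof_ne_zero (s : Fin 4) (i : Fin 63) : cof s i ≠ 0 := by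
  apply el_ne_zero
  revert s i
  decide +kernel

theorem mat_vec_entry : ∀ (s : Fin 4) (i : Fin 63) (k : Fin 3),
    mat s k 0 * vec i 0 + mat s k 1 * vec i 1 + mat s k 2 * vec i 2
      = cof s i * vec (tab s i) k := by
  decide +kernel

theorem mat_vec (s : Fin 4) (i : Fin 63) : mat s *ᵥ vec i = cof s i • vec (sig s i) := by
  funext k
  simp only [Matrix.mulVec, dotProduct, Fin.sum_univ_three, Pi.smul_apply, smul_eq_mul]
  rw [mat_vec_entry]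
  rfl

theorem mat_det : ∀ s : Fin 4, mat s 0 0 * mat s 1 1 * mat s 2 2 - mat s 0 0 * mat s 1 2 * mat s 2 1
    - mat s 0 1 * mat s 1 0 * mat s 2 2 + mat s 0 1 * mat s 1 2 * mat s 2 0
    + mat s 0 2 * mat s 1 0 * mat s 2 1 - mat s 0 2 * mat s 1 1 * mat s 2 0 = 1 := by
  decide +kernel

theorem det_mat (s : Fin 4) : (mat s).det = 1 := by
  rw [Matrix.det_fin_three]
  exact mat_det s

theorem mat_unitary_entry : ∀ (s : Fin 4) (i j : Fin 3),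
    mat s 0 i * (mat s 0 j * mat s 0 j * mat s 0 j) + mat s 1 i * (mat s 1 j * mat s 1 j * mat s 1 j)
      + mat s 2 i * (mat s 2 j * mat s 2 j * mat s 2 j) = if i = j then 1 else 0 := by
  decide +kernel

theorem card_k9' : Fintype.card K9 = 3 ^ 2 := card_k9

theorem mat_unitary (s : Fin 4) :
    (mat s)ᵀ * (mat s).map (LieClassical.GUOrder.frob card_k9') = 1 := by
  refine Matrix.ext fun i j => ?_
  rw [Matrix.mul_apply, Fin.sum_univ_three, Matrix.one_apply, ← mat_unitary_entry s i j]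
  simp only [Matrix.transpose_apply, Matrix.map_apply, LieClassical.GUOrder.frob_apply, pow_succ,
    pow_zero, one_mul]

/-- The four elements of `SU_3(3)`. -/
def su (s : Fin 4) : Cfsg.SU 3 K9 3 :=
  ⟨⟨mat s, det_mat s⟩, (LieClassical.GUOrder.mul_map_eq_one_iff card_k9' (mat s)).2 (mat_unitary s)⟩

theorem su_mulVec (s : Fin 4) (i : Fin 63) : ∃ c : K9, c ≠ 0 ∧
    ((su s : Matrix.SpecialLinearGroup (Fin 3) K9) : Matrix (Fin 3) (Fin 3) K9) *ᵥ vec i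
      = c • vec (sig s i) :=
  ⟨cof s i, cof_ne_zero s i, mat_vec s i⟩

theorem vec_shape : ∀ i : Fin 63, vec i 0 = 1 ∨ (vec i 0 = 0 ∧ (vec i 1 = 1 ∨
    (vec i 1 = 0 ∧ vec i 2 = 1))) := by
  decide +kernel

theorem vec_inj : ∀ i j : Fin 63, vec i 0 = vec j 0 → vec i 1 = vec j 1 → vec i 2 = vec j 2 →
    i = j := by
  decide +kernel

theorem vec_nonprop (i j : Fin 63) (c : K9) (hc : c ≠ 0) (h : vec i = c • vec j) : i = j := by
  have h0 : vec i 0 = c * vec j 0 := congrFun h 0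
  have h1 : vec i 1 = c * vec j 1 := congrFun h 1
  have h2 : vec i 2 = c * vec j 2 := congrFun h 2
  have hc1 : c = 1 := by
    rcases vec_shape i with hi | ⟨hi0, hi | ⟨hi1, hi⟩⟩
    · rcases vec_shape j with hj | ⟨hj0, -⟩
      · rw [hi, hj, mul_one] at h0; exact h0.symm
      · rw [hi, hj0, mul_zero] at h0; exact absurd h0 one_ne_zero
    · rcases vec_shape j with hj | ⟨hj0, hj | ⟨hj1, -⟩⟩
      · rw [hi0, hj, mul_one] at h0; exact absurd h0.symm hc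
      · rw [hi, hj, mul_one] at h1; exact h1.symm
      · rw [hi, hj1, mul_zero] at h1; exact absurd h1 one_ne_zero
    · rcases vec_shape j with hj | ⟨hj0, hj | ⟨hj1, hj⟩⟩
      · rw [hi0, hj, mul_one] at h0; exact absurd h0.symm hc
      · rw [hi1, hj, mul_one] at h1; exact absurd h1.symm hc
      · rw [hi, hj, mul_one] at h2; exact h2.symm
  subst hc1
  rw [one_mul] at h0 h1 h2
  exact vec_inj i j h0 h1 h2

/-- Words for transitivity: `(word1 k) 0 = k`. -/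
def w1L : List (List (Fin 4)) :=
  [[], [0], [0,2,1,0], [2,1,0], [2,3,0], [2,1,3,1,0], [3,0,2], [0,1], [2,3,1,0], [2,0], [3,1,3,1,0], [3], [1,2,3,1], [2,1,2,0,2], [2,1,2,3,0], [1,2,3], [2,1,2,3], [0,2], [0,1,3,0], [3,1], [3,0], [2,3,2,1], [3,2,3,1], [1,3,0,2], [1,0], [1,3], [1,2,3,1,0], [1,2,3,0], [2,1,2,0,2,1], [2,1], [1,3,1,0], [1,3,0], [2,0,2], [3,1,3], [2,3,1], [0,1,3], [0,1,2,3], [1,0,1,0], [0,3,1,3], [1,2,0], [1,2,0,2], [3,1,2,1,0], [1], [1,3,1,0,1], [3,0,1,3], [3,2,1], [3,1,0,1], [1,0,3,1,3], [2,0,2,1], [3,1,3,1], [3,1,3,0,2], [0,2,1], [2], [2,1,0,1], [1,0,1], [3,2,1,0], [0,1,0], [1,2,0,2,1], [3,1,3,0], [2,3], [3,1,0], [1,3,1], [1,2,1,0]]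
/-- Words fixing `0`, moving `26` to 32 different points. -/
def w2L : List (List (Fin 4)) :=
  [[], [2,1,2], [2,3,2], [2,3,1,2], [2,1,3,2], [2,1,3,1,2], [2,3,1,3,2], [1,0,3,0,1,0], [0,3,0,1,2,0], [0,2,3,1,2,0], [3,0,1,3,2,0], [0,2,1,3,2,0], [3,0,1,0,3,0], [0,2,1,0,3,0], [0,3,1,2,0,1], [2,0,1,0,2,1], [1,2,0,1,0,2], [2,3,1,3,1,2], [3,1,2,0,1,3], [3,1,0,2,1,3], [1,3,1,0,1,3,1], [1,2,0,1,0,3,2], [1,0,3,2,1,0,1,0], [1,0,3,1,2,0,1,0], [2,0,1,3,0,2,1,0], [3,1,2,0,1,0,2,0], [2,1,0,3,2,1,2,0], [0,3,0,1,3,1,2,0], [0,2,3,1,3,1,2,0], [0,1,0,2,1,3,0,1], [1,2,1,0,1,0,3,2], [1,2,3,1,0,3,2,1,0]]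
/-- Words fixing `0` and `26`. -/
def w3L : List (List (Fin 4)) :=
  [[], [3,0,1,2,3,1,0,2,1], [1,2,0,1,3,2,1,0,3]]

/-- The product of a word. -/
def wp (w : List (Fin 4)) : Equiv.Perm (Fin 63) := (w.map sig).prod

/-- Image of a point under a word, computed from right to left. -/
def ev (w : List (Fin 4)) (x : Fin 63) : Fin 63 := w.foldr tab x

theorem wp_apply (w : List (Fin 4)) (x : Fin 63) : wp w x = ev w x := by
  induction w with
  | nil => rfl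
  | cons s w ih =>
    change (wp (s :: w)) x = tab s (ev w x)
    rw [← ih]
    simp [wp, sig_apply]

theorem wp_mem (w : List (Fin 4)) : wp w ∈ Subgroup.closure (Set.range sig) := by
  apply Subgroup.list_prod_mem
  intro x hx
  obtain ⟨s, -, rfl⟩ := List.mem_map.1 hx
  exact Subgroup.subset_closure ⟨s, rfl⟩

/-- Words indexed by `Fin`. -/
def W1 (k : Fin 63) : List (Fin 4) := w1L.getD k.val []
def W2 (k : Fin 32) : List (Fin 4) := w2L.getD k.val []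
def W3 (k : Fin 3) : List (Fin 4) := w3L.getD k.val []

theorem W1_zero : ∀ k, ev (W1 k) 0 = k := by decide +kernel
theorem W2_zero : ∀ k, ev (W2 k) 0 = 0 := by decide +kernel
theorem W3_zero : ∀ k, ev (W3 k) 0 = 0 := by decide +kernel
theorem W2_inj : ∀ k l, ev (W2 k) 26 = ev (W2 l) 26 → k = l := by decide +kernel
theorem W3_b1 : ∀ k, ev (W3 k) 26 = 26 := by decide +kernel
theorem W3_inj : ∀ k l, ev (W3 k) 1 = ev (W3 l) 1 → k = l := by decide +kernel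

/-- The group generated by the four permutations has order at least `6048`. -/
theorem card_closure_sig : 6048 ≤ Nat.card (Subgroup.closure (Set.range sig)) := by
  let f : Fin 63 × Fin 32 × Fin 3 → Subgroup.closure (Set.range sig) := fun x =>
    ⟨wp (W1 x.1) * wp (W2 x.2.1) * wp (W3 x.2.2),
      mul_mem (mul_mem (wp_mem _) (wp_mem _)) (wp_mem _)⟩
  have hf : Function.Injective f := by
    rintro ⟨a, b, c⟩ ⟨a', b', c'⟩ h
    have h1 : wp (W1 a) * wp (W2 b) * wp (W3 c) = wp (W1 a') * wp (W2 b') * wp (W3 c') :=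
      congrArg Subtype.val h
    have e0 := congrArg (fun p : Equiv.Perm (Fin 63) => p 0) h1
    simp only [Equiv.Perm.mul_apply, wp_apply, W3_zero, W2_zero, W1_zero] at e0
    subst e0
    rw [mul_assoc, mul_assoc, mul_right_inj] at h1
    have e1 := congrArg (fun p : Equiv.Perm (Fin 63) => p 26) h1
    simp only [Equiv.Perm.mul_apply, wp_apply, W3_b1] at e1
    have e1' := W2_inj _ _ e1
    subst e1'
    rw [mul_right_inj] at h1
    have e2 := congrArg (fun p : Equiv.Perm (Fin 63) => p 1) h1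
    simp only [wp_apply] at e2
    have e2' := W3_inj _ _ e2
    subst e2'
    rfl
  have h := Nat.card_le_card_of_injective f hf
  simpa using h

end Cfsg.Agent.J2.U33
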