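import Mathlib
import Cfsg.Prelude.Def_Spor_J2

/-!
# The ring `ℤ[τ]` in integer coordinates

`Zt` = pairs `⟨a, b⟩` standing for `a + b τ`, with the two real embeddings `toR` (τ ↦ τ) and
`toR'` (τ ↦ σ).
-/

set_option autoImplicit false

namespace Cfsg.Agent.J2.ZTau

open Cfsg.Spor

/-- Elements `a + b τ` of `ℤ[τ]`. -/
@[ext] structure Zt where
  /-- rational part -/
  a : ℤ
  /-- coefficient of τ -/
  b : ℤ

/-- decidable equality on `Zt` -/
instance decEqZt : DecidableEq Zt := fun x y =>
  if h : x.a = y.a ∧ x.b = y.b then isTrue (Zt.ext h.1 h.2)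
  else isFalse (fun e => h ⟨congrArg Zt.a e, congrArg Zt.b e⟩)

/-- zero -/
instance zeroZt : Zero Zt := ⟨⟨0, 0⟩⟩
/-- one -/
instance oneZt : One Zt := ⟨⟨1, 0⟩⟩
/-- addition -/
instance addZt : Add Zt := ⟨fun x y => ⟨x.a + y.a, x.b + y.b⟩⟩
/-- negation -/
instance negZt : Neg Zt := ⟨fun x => ⟨-x.a, -x.b⟩⟩
/-- subtraction -/
instance subZt : Sub Zt := ⟨fun x y => ⟨x.a - y.a, x.b - y.b⟩⟩
/-- multiplication, with τ² = τ + 1 -/
instance mulZt : Mul Zt := ⟨fun x y => ⟨x.a * y.a + x.b * y.b, x.a * y.b + x.b * y.a + x.b * y.b⟩⟩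

@[simp] theorem zero_a : (0 : Zt).a = 0 := rfl
@[simp] theorem zero_b : (0 : Zt).b = 0 := rfl
@[simp] theorem one_a : (1 : Zt).a = 1 := rfl
@[simp] theorem one_b : (1 : Zt).b = 0 := rfl
@[simp] theorem add_a (x y : Zt) : (x + y).a = x.a + y.a := rfl
@[simp] theorem add_b (x y : Zt) : (x + y).b = x.b + y.b := rfl
@[simp] theorem neg_a (x : Zt) : (-x).a = -x.a := rfl
@[simp] theorem neg_b (x : Zt) : (-x).b = -x.b := rfl
@[simp] theorem sub_a (x y : Zt) : (x - y).a = x.a - y.a := rfl
@[simp] theorem sub_b (x y : Zt) : (x - y).b = x.b - y.b := rfl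
@[simp] theorem mul_a (x y : Zt) : (x * y).a = x.a * y.a + x.b * y.b := rfl
@[simp] theorem mul_b (x y : Zt) : (x * y).b = x.a * y.b + x.b * y.a + x.b * y.b := rfl

/-- `ℤ[τ]` is a commutative ring. -/
instance commRingZt : CommRing Zt where
  add_assoc x y z := by ext <;> simp [add_assoc]
  zero_add x := by ext <;> simp
  add_zero x := by ext <;> simp
  add_comm x y := by ext <;> simp [add_comm]
  neg_add_cancel x := by ext <;> simp
  sub_eq_add_neg x y := by ext <;> simp [sub_eq_add_neg]
  mul_assoc x y z := by ext <;> simp <;> ring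
  one_mul x := by ext <;> simp
  mul_one x := by ext <;> simp
  left_distrib x y z := by ext <;> simp <;> ring
  right_distrib x y z := by ext <;> simp <;> ring
  zero_mul x := by ext <;> simp
  mul_zero x := by ext <;> simp
  mul_comm x y := by ext <;> simp <;> ring
  nsmul := nsmulRec
  zsmul := zsmulRec

@[simp] theorem natCast_a (n : ℕ) : (n : Zt).a = n := by
  induction n with
  | zero => simp
  | succ n ih => rw [Nat.cast_succ]; simp [ih]

@[simp] theorem natCast_b (n : ℕ) : (n : Zt).b = 0 := by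
  induction n with
  | zero => simp
  | succ n ih => rw [Nat.cast_succ]; simp [ih]

@[simp] theorem intCast_a (n : ℤ) : (n : Zt).a = n := by
  cases n with
  | ofNat n => simp
  | negSucc n => rw [Int.cast_negSucc]; simp [Int.negSucc_eq]

@[simp] theorem intCast_b (n : ℤ) : (n : Zt).b = 0 := by
  cases n with
  | ofNat n => simp
  | negSucc n => rw [Int.cast_negSucc]; simp

@[simp] theorem ofNat_a (n : ℕ) [n.AtLeastTwo] : (OfNat.ofNat n : Zt).a = OfNat.ofNat n := by
  rw [← Nat.cast_ofNat (R := Zt), natCast_a, Nat.cast_ofNat]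

@[simp] theorem ofNat_b (n : ℕ) [n.AtLeastTwo] : (OfNat.ofNat n : Zt).b = 0 := by
  rw [← Nat.cast_ofNat (R := Zt), natCast_b]

/-- τ as an element of `Zt` -/
def T : Zt := ⟨0, 1⟩
/-- σ = 1 - τ as an element of `Zt` -/
def S : Zt := ⟨1, -1⟩

@[simp] theorem T_a : T.a = 0 := rfl
@[simp] theorem T_b : T.b = 1 := rfl
@[simp] theorem S_a : S.a = 1 := rfl
@[simp] theorem S_b : S.b = -1 := rfl

theorem T_sq : T * T = T + 1 := rfl
theorem S_sq : S * S = S + 1 := rfl
theorem T_add_S : T + S = 1 := rfl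
theorem T_mul_S : T * S = -1 := rfl
theorem S_mul_T : S * T = -1 := rfl
theorem S_eq : S = 1 - T := rfl

theorem sqrt5_sq : Real.sqrt 5 * Real.sqrt 5 = 5 := Real.mul_self_sqrt (by norm_num)

theorem tau_sq : tau * tau = tau + 1 := by
  unfold tau; nlinarith [sqrt5_sq]

theorem sig_sq : sig * sig = sig + 1 := by
  unfold sig; nlinarith [sqrt5_sq]

theorem sig_eq : sig = 1 - tau := by
  unfold sig tau; ring

theorem tau_mul_sig : tau * sig = -1 := by
  rw [sig_eq]; linarith [tau_sq]

theorem sqrt5_eq : Real.sqrt 5 = 2 * tau - 1 := by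
  unfold tau; ring

/-- The embedding of `ℤ[τ]` in `ℝ` with τ ↦ τ. -/
noncomputable def toR : Zt →+* ℝ where
  toFun x := x.a + x.b * tau
  map_one' := by simp
  map_zero' := by simp
  map_add' x y := by simp; ring
  map_mul' x y := by
    simp only [mul_a, mul_b]; push_cast
    linear_combination (-(x.b : ℝ) * y.b) * tau_sq

/-- The embedding of `ℤ[τ]` in `ℝ` with τ ↦ σ. -/
noncomputable def toR' : Zt →+* ℝ where
  toFun x := x.a + x.b * sig
  map_one' := by simp
  map_zero' := by simp
  map_add' x y := by simp; ring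
  map_mul' x y := by
    simp only [mul_a, mul_b]; push_cast
    linear_combination (-(x.b : ℝ) * y.b) * sig_sq

theorem toR_apply (x : Zt) : toR x = x.a + x.b * tau := rfl
theorem toR'_apply (x : Zt) : toR' x = x.a + x.b * sig := rfl

@[simp] theorem toR_T : toR T = tau := by simp [toR_apply]
@[simp] theorem toR_S : toR S = sig := by simp [toR_apply, sig_eq]; ring
@[simp] theorem toR'_T : toR' T = sig := by simp [toR'_apply]
@[simp] theorem toR'_S : toR' S = tau := by simp [toR'_apply, sig_eq]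

theorem irrational_tau : Irrational tau := by
  have h5 : Irrational (Real.sqrt 5) := by
    have := Nat.Prime.irrational_sqrt (p := 5) (by norm_num)
    exact_mod_cast this
  have : Real.sqrt 5 = 2 * tau - 1 := sqrt5_eq
  intro ⟨q, hq⟩
  apply h5
  exact ⟨2 * q - 1, by push_cast; rw [hq, this]⟩

theorem toR_injective : Function.Injective toR := by
  rw [injective_iff_map_eq_zero]
  intro x hx
  rw [toR_apply] at hx
  have hb : x.b = 0 := by
    by_contra hb
    apply irrational_tau
    refine ⟨-(x.a : ℚ) / x.b, ?_⟩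
    have hb' : (x.b : ℝ) ≠ 0 := by exact_mod_cast hb
    push_cast
    field_simp
    linarith
  have ha : x.a = 0 := by
    rw [hb] at hx; simpa using hx
  ext <;> simp [ha, hb]

end Cfsg.Agent.J2.ZTau
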